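import Cfsg.Agent.Lib.Recog.AltEight.Classes
import Cfsg.Agent.Lib.Transfer.MaxClassTwo
import Cfsg.Agent.Lib.Invol.Dihedral
import Cfsg.Agent.S0112
import Cfsg.Agent.S0514

/-!
The centraliser of `V` is not small: otherwise a Sylow 2-subgroup has maximal class and all involutions
would be conjugate.
-/

set_option autoImplicit false
set_option linter.unusedSectionVars false
set_option maxRecDepth 8000

namespace CfsgLib.Recog.AltEight

open Subgroup

theorem y1_inverts {p : P8} (hp : p ∈ zGrp) :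
    p * y1 * p⁻¹ * x5 * z0 = z0 * z0 * (p * y1 * p⁻¹ * x5) := by
  obtain ⟨⟨mz, -, -, -, -, -⟩, -⟩ := basic_mem
  have hn := zCheck hp (fun c => comp c (code z0) = comp (code z0) c ∨
    comp c (code z0) = comp (code (z0 * z0)) c) (by decide +kernel)
  simp only [← code_mul, code_inj] at hn
  have e1 : y1 * z0 = z0 * y1 := by decide +kernel
  have e2 : x5 * z0 = z0 * z0 * x5 := by decide +kernel
  have hz : (z0 : P8) * z0 * z0 = 1 := by decide +kernel
  have hc : Commute (p * y1 * p⁻¹) (z0 * z0) := by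
    have hy : Commute y1 z0 := e1
    rcases hn with e | e
    · have hp' : Commute p z0 := e
      exact (((hp'.mul_left hy).mul_left hp'.inv_left).mul_right ((hp'.mul_left hy).mul_left hp'.inv_left))
    · have h2 : p * z0 * p⁻¹ = z0 * z0 := mul_inv_eq_iff_eq_mul.2 e
      show p * y1 * p⁻¹ * (z0 * z0) = z0 * z0 * (p * y1 * p⁻¹)
      rw [← h2]
      calc p * y1 * p⁻¹ * (p * z0 * p⁻¹) = p * (y1 * z0) * p⁻¹ := by group
        _ = p * (z0 * y1) * p⁻¹ := by rw [e1]
        _ = _ := by group
  calc p * y1 * p⁻¹ * x5 * z0 = p * y1 * p⁻¹ * (x5 * z0) := by group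
    _ = p * y1 * p⁻¹ * (z0 * z0 * x5) := by rw [e2]
    _ = (p * y1 * p⁻¹ * (z0 * z0)) * x5 := by group
    _ = _ := by rw [hc.eq]; group

variable {G : Type*} [Group G] [Finite G] {P : Sylow 3 G} {φ ψ : P8 → G}

theorem Data.false_of_small (d : Data P φ ψ) (hsmall : ∀ t ∈ centV φ, ∃ v ∈ list12, φ v = t) : False := by
  classical
  haveI : Fact (Nat.Prime 2) := ⟨Nat.prime_two⟩
  haveI : Fact (Nat.Prime 3) := ⟨Nat.prime_three⟩
  obtain ⟨⟨mz, ma, m1, m2, m4, m5⟩, -⟩ := basic_mem
  have my : y1 ∈ zGrp := by decide +kernel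
  obtain ⟨hx11, hy11, hxy, hxy1, hc1, hcy, hcxy, h55, hcx5, hcy5⟩ :
      x1 * x1 = 1 ∧ y1 * y1 = 1 ∧ x1 * y1 = y1 * x1 ∧ x1 * y1 ≠ 1 ∧ x1 * x5 = x5 * x1 ∧
      x5 * y1 ≠ y1 * x5 ∧ x5 * (x1 * y1) ≠ x1 * y1 * x5 ∧ x5 * x5 = 1 ∧
      x5 * y1 * x5 = x1 * y1 ∧ x5 ∉ vList := by decide +kernel
  set a := φ x1 with ha
  set b := φ y1 with hb
  set c := φ x5 with hcdef
  have ho : ∀ g ∈ zGrp, g * g = 1 → g ≠ 1 → orderOf (φ g) = 2 := fun g hg h2 h1 => by
    rw [d.hφ.orderOf_eq hg]
    exact orderOf_eq_prime (by rw [pow_two]; exact h2) h1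
  have hao : orderOf a = 2 := ho _ m1 hx11 (by decide +kernel)
  have hbo : orderOf b = 2 := ho _ my hy11 (by decide +kernel)
  have hco : orderOf c = 2 := ho _ m5 h55 (by decide +kernel)
  have habo : orderOf (a * b) = 2 := by
    rw [ha, hb, ← d.hφ.mul _ m1 _ my]
    exact ho _ (mul_mem m1 my) (by decide +kernel) hxy1
  -- the involutions of the dihedral group are conjugate to `a`
  have hbT : IsConj a b := d.isConj_x1 hbo (IsConj.refl _) (d.hφ.commute my mz (by decide +kernel))
  have habT : IsConj a (a * b) := d.isConj_x1 habo (IsConj.refl _) (by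
    rw [ha, hb, ← d.hφ.mul _ m1 _ my]; exact d.hφ.commute (mul_mem m1 my) mz (by decide +kernel))
  have hcT : IsConj a c := by
    obtain ⟨hg, hge, hgc⟩ : sw 0 3 * sw 1 4 * sw 2 2 ∈ zGrp ∧
        sw 0 3 * sw 1 4 * sw 2 2 * a0 * (sw 0 3 * sw 1 4 * sw 2 2)⁻¹ = th 3 4 2 ∧
        x5 * th 3 4 2 = th 3 4 2 * x5 := by decide +kernel
    refine d.isConj_x1 hco (s := φ (th 3 4 2)) ?_ (d.hφ.commute m5 (by decide +kernel) hgc)
    refine IsConj.trans ?_ d.conjAZ
    refine (isConj_iff.2 ⟨φ (sw 0 3 * sw 1 4 * sw 2 2), ?_⟩ : IsConj (φ a0) (φ (th 3 4 2))).symm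
    rw [← d.hφ.map_conj hg ma, hge]
  -- the Sylow subgroup
  let D8 : Subgroup G := closure {a, b, c}
  have hD8mem : ∀ g ∈ D8, ∃ v ∈ vList ++ vList.map (· * x5), φ v = g := by
    have hl : ∀ v ∈ vList ++ vList.map (· * x5), v ∈ zGrp ∧ v⁻¹ ∈ vList ++ vList.map (· * x5) ∧
        ∀ u ∈ vList ++ vList.map (· * x5), v * u ∈ vList ++ vList.map (· * x5) := by decide +kernel
    intro g hg
    induction hg using Subgroup.closure_induction with
    | mem g hg =>
      rcases hg with rfl | rfl | rfl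
      · exact ⟨x1, by decide, rfl⟩
      · exact ⟨y1, by decide, rfl⟩
      · exact ⟨x5, by decide +kernel, rfl⟩
    | one => exact ⟨1, by decide, d.hφ.map_one⟩
    | mul g h _ _ hg hh =>
      obtain ⟨v, hv, rfl⟩ := hg
      obtain ⟨u, hu, rfl⟩ := hh
      exact ⟨v * u, (hl v hv).2.2 u hu, d.hφ.mul _ (hl v hv).1 _ (hl u hu).1⟩
    | inv g _ hg =>
      obtain ⟨v, hv, rfl⟩ := hg
      exact ⟨v⁻¹, (hl v hv).2.1, d.hφ.map_inv (hl v hv).1⟩
  have hD8 : IsPGroup 2 D8 := fun g => by
    obtain ⟨v, hv, hve⟩ := hD8mem g g.2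
    have h4 : ∀ v ∈ vList ++ vList.map (· * x5), v ∈ zGrp ∧ v ^ (2 ^ 2) = 1 := by decide +kernel
    refine ⟨2, Subtype.ext ?_⟩
    rw [Subgroup.coe_pow, ← hve, ← d.hφ.map_pow (h4 v hv).1, (h4 v hv).2, d.hφ.map_one]
    rfl
  obtain ⟨S, hS⟩ := hD8.exists_le_sylow
  have haS : a ∈ (S : Subgroup G) := hS (subset_closure (by simp))
  have hbS : b ∈ (S : Subgroup G) := hS (subset_closure (by simp))
  have hcS : c ∈ (S : Subgroup G) := hS (subset_closure (by simp))
  set X := ↥(S : Subgroup G)
  set a' : X := ⟨a, haS⟩ with ha'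
  set b' : X := ⟨b, hbS⟩ with hb'
  set c' : X := ⟨c, hcS⟩ with hc'
  obtain ⟨n, hn⟩ := IsPGroup.iff_card.1 S.2
  -- the four-group is self-centralising
  let A : Subgroup X := (centV φ).subgroupOf (S : Subgroup G)
  have hAmem : ∀ t : X, t ∈ A ↔ ∃ v ∈ vList, φ v = t := by
    intro t
    constructor
    · intro ht
      obtain ⟨v, hv, hve⟩ := hsmall _ (mem_subgroupOf.1 ht)
      refine ⟨v, ?_, hve⟩
      obtain ⟨hvm, -, -, -, hv12, -⟩ := list12_facts v hv
      obtain ⟨k, hk⟩ := S.2 t
      have hvk : v ^ (2 ^ k) = 1 := by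
        rw [← d.hφ.eq_one_iff (zGrp.pow_mem hvm _), d.hφ.map_pow hvm, hve]
        exact congrArg Subtype.val hk
      have h12 : v ^ 12 = 1 := by simpa [pow_succ] using hv12
      have h4 : v ^ 4 = 1 := by
        refine orderOf_dvd_iff_pow_eq_one.1 ?_
        have h1 : orderOf v ∣ 4 * 3 := orderOf_dvd_of_pow_eq_one h12
        have h2 : (orderOf v).Coprime 3 :=
          Nat.Coprime.coprime_dvd_left (orderOf_dvd_of_pow_eq_one hvk) (Nat.Coprime.pow_left _ (by norm_num))
        exact h2.dvd_of_dvd_mul_right h1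
      exact (show ∀ v ∈ list12, v * v * v * v = 1 → v ∈ vList by decide +kernel) v hv
        (by simpa [pow_succ] using h4)
    · rintro ⟨v, hv, hve⟩
      have hl : ∀ v ∈ vList, v ∈ zGrp ∧ v * x1 = x1 * v ∧ v * y1 = y1 * v := by decide +kernel
      obtain ⟨hvm, h1, h2⟩ := hl v hv
      refine mem_subgroupOf.2 (mem_centV.2 ⟨?_, ?_⟩)
      · rw [← hve]; exact d.hφ.commute hvm m1 h1
      · rw [← hve]; exact d.hφ.commute hvm my h2
  have hAcard : Nat.card A = 2 ^ 2 := by
    let f : A → {v : P8 // v ∈ vList.toFinset} := fun t =>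
      ⟨((hAmem t).1 t.2).choose, List.mem_toFinset.2 ((hAmem t).1 t.2).choose_spec.1⟩
    have hl : ∀ v ∈ vList, v ∈ zGrp := by decide +kernel
    have hf : Function.Bijective f := by
      constructor
      · intro s t e
        have hs := ((hAmem s).1 s.2).choose_spec.2
        have ht := ((hAmem t).1 t.2).choose_spec.2
        have e' : ((hAmem s).1 s.2).choose = ((hAmem t).1 t.2).choose := congrArg Subtype.val e
        exact Subtype.ext (Subtype.ext (by rw [← hs, ← ht, e']))
      · rintro ⟨v, hv⟩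
        rw [List.mem_toFinset] at hv
        have hvS : φ v ∈ (S : Subgroup G) := by
          have : φ v ∈ closure ({a, b, c} : Set G) := by
            simp only [vList, List.mem_cons, List.not_mem_nil, or_false] at hv
            rcases hv with rfl | rfl | rfl | rfl
            · rw [d.hφ.map_one]; exact one_mem _
            · exact subset_closure (by simp [ha])
            · exact subset_closure (by simp [hb])
            · rw [d.hφ.mul _ m1 _ my]
              exact mul_mem (subset_closure (by simp [ha])) (subset_closure (by simp [hb]))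
          exact hS this
        have hA' : (⟨φ v, hvS⟩ : X) ∈ A := (hAmem _).2 ⟨v, hv, rfl⟩
        refine ⟨⟨_, hA'⟩, Subtype.ext ?_⟩
        have he := ((hAmem _).1 hA').choose_spec
        exact d.hφ.inj _ (hl _ he.1) _ (hl v hv) he.2
    rw [Nat.card_congr (Equiv.ofBijective f hf), Nat.card_eq_fintype_card, Fintype.card_coe]
    decide +kernel
  have haA : a' ∈ A := (hAmem _).2 ⟨x1, by decide, rfl⟩
  have hbA : b' ∈ A := (hAmem _).2 ⟨y1, by decide, rfl⟩
  have hCA : centralizer (A : Set X) = A := by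
    refine le_antisymm (fun t ht => mem_subgroupOf.2 (mem_centV.2 ?_)) fun t ht => ?_
    · exact ⟨(congrArg Subtype.val (mem_centralizer_iff.1 ht a' haA)).symm,
        (congrArg Subtype.val (mem_centralizer_iff.1 ht b' hbA)).symm⟩
    · refine mem_centralizer_iff.2 fun s hs => Subtype.ext ?_
      obtain ⟨u, hu, hue⟩ := (hAmem s).1 hs
      obtain ⟨v, hv, hve⟩ := (hAmem t).1 ht
      have hl : ∀ u ∈ vList, u ∈ zGrp ∧ ∀ v ∈ vList, u * v = v * u := by decide +kernel
      show (s : G) * t = t * s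
      rw [← hue, ← hve]
      exact d.hφ.commute (hl u hu).1 (hl v hv).1 ((hl u hu).2 v hv)
  have hcA : c' ∉ A := fun h => by
    obtain ⟨v, hv, hve⟩ := (hAmem _).1 h
    exact hcy5 (d.hφ.inj _ m5 _ ((show ∀ v ∈ vList, v ∈ zGrp by decide +kernel) v hv) hve.symm ▸ hv)
  have hn3 : 3 ≤ n := by
    by_contra hlt
    have h1 : A = ⊤ := eq_top_of_le_card _ (by
      rw [hAcard, hn]; exact Nat.pow_le_pow_right (by norm_num) (by omega))
    exact hcA (h1 ▸ mem_top _)
  have hclass := Cfsg.Agent.S0112.result n hn A hAcard hCA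
  obtain ⟨Cy, hCyc, hCi⟩ := CfsgLib.Transfer.exists_cyclic_index_two hn3 hn hclass
  haveI : Cy.Normal := normal_of_index_eq_two hCi
  obtain ⟨⟨r, hrC⟩, hrgen⟩ := isCyclic_iff_exists_zpowers_eq_top.1 hCyc
  have hCr : ∀ t : X, t ∈ Cy ↔ t ∈ zpowers r := fun t => by
    refine ⟨fun ht => ?_, fun ht => zpowers_le.2 hrC ht⟩
    obtain ⟨k, hk⟩ : (⟨t, ht⟩ : Cy) ∈ zpowers (⟨r, hrC⟩ : Cy) := hrgen ▸ mem_top _
    exact ⟨k, congrArg Subtype.val hk⟩
  have hro : orderOf r = 2 ^ (n - 1) := by
    have h1 := Cy.card_mul_index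
    rw [hCi, hn, show n = n - 1 + 1 by omega, pow_succ] at h1
    have h2 : Nat.card Cy = orderOf r := by
      rw [← Nat.card_zpowers, show zpowers r = Cy from Subgroup.ext fun t => (hCr t).symm]
    omega
  -- the unique involution of the cyclic subgroup
  set z := r ^ (2 ^ (n - 2)) with hz
  have hzo : orderOf z = 2 := by
    rw [hz, orderOf_pow' r (by positivity), hro, show n - 1 = n - 2 + 1 by omega, pow_succ,
      Nat.gcd_mul_right_left, Nat.mul_div_cancel_left _ (by positivity)]
  have huniq : ∀ t ∈ Cy, t * t = 1 → t = 1 ∨ t = z := by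
    intro t ht h2
    obtain ⟨i, rfl⟩ := (mem_powers_iff_mem_zpowers.2 ((hCr t).1 ht) : t ∈ Submonoid.powers r)
    simp only at h2 ⊢
    rw [← pow_add, ← orderOf_dvd_iff_pow_eq_one, hro, show n - 1 = n - 2 + 1 by omega, pow_succ,
      ← two_mul, mul_comm 2 i] at h2
    obtain ⟨q, rfl⟩ := Nat.dvd_of_mul_dvd_mul_right (by norm_num) h2
    rcases Nat.even_or_odd' q with ⟨s, rfl | rfl⟩
    · left
      rw [← orderOf_dvd_iff_pow_eq_one, hro, show n - 1 = n - 2 + 1 by omega, pow_succ]
      exact Dvd.intro s (by ring)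
    · right
      rw [mul_add, mul_one, pow_add, ← hz]
      have : r ^ (2 ^ (n - 2) * (2 * s)) = 1 := by
        rw [← orderOf_dvd_iff_pow_eq_one, hro, show n - 1 = n - 2 + 1 by omega, pow_succ]
        exact Dvd.intro s (by ring)
      rw [this, one_mul]
  have hzC : z ∈ Cy := pow_mem hrC _
  have hzc : ∀ t : X, t * z = z * t := by
    intro t
    have h1 : t * z * t⁻¹ ∈ Cy := Normal.conj_mem inferInstance z hzC t
    have hz2 : z * z = 1 := by
      have := pow_orderOf_eq_one z
      rwa [hzo, pow_two] at this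
    rcases huniq _ h1 (by
      calc t * z * t⁻¹ * (t * z * t⁻¹) = t * z * (t⁻¹ * t) * z * t⁻¹ := by simp only [mul_assoc]
        _ = t * (z * z) * t⁻¹ := by rw [inv_mul_cancel, mul_one]; simp only [mul_assoc]
        _ = 1 := by rw [hz2, mul_one, mul_inv_cancel]) with e | e
    · rw [conj_eq_one_iff] at e; rw [e, orderOf_one] at hzo; omega
    · exact mul_inv_eq_iff_eq_mul.1 e
  have hza : z = a' := by
    have hzA : z ∈ A := hCA ▸ mem_centralizer_iff.2 fun s _ => hzc s
    obtain ⟨v, hv, hve⟩ := (hAmem z).1 hzA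
    have hcz : c * φ v = φ v * c := by rw [hve]; exact congrArg Subtype.val (hzc c')
    simp only [vList, List.mem_cons, List.not_mem_nil, or_false] at hv
    rcases hv with rfl | rfl | rfl | rfl
    · exfalso
      rw [d.hφ.map_one] at hve
      rw [show z = 1 from Subtype.ext hve.symm, orderOf_one] at hzo; omega
    · exact Subtype.ext hve.symm
    · exact absurd ((d.hφ.commute_iff m5 my).1 hcz) hcy
    · exact absurd ((d.hφ.commute_iff m5 (mul_mem m1 my)).1 hcz) hcxy
  have hb2 : b' * b' = 1 := Subtype.ext (by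
    show b * b = 1
    rw [← pow_two, ← hbo, pow_orderOf_eq_one])
  have ha2 : a' * a' = 1 := Subtype.ext (by
    show a * a = 1
    rw [← pow_two, ← hao, pow_orderOf_eq_one])
  have hbC : b' ∉ Cy := fun h => by
    rcases huniq b' h hb2 with e | e
    · have : b = 1 := congrArg Subtype.val e
      rw [this, orderOf_one] at hbo; omega
    · have : φ y1 = φ x1 := congrArg Subtype.val (e.trans hza)
      exact absurd (d.hφ.inj _ my _ m1 this) (by decide +kernel)
  have habC : a' * b' ∉ Cy := fun h => hbC (by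
    have := mul_mem (hza ▸ hzC : a' ∈ Cy) h
    rwa [← mul_assoc, ha2, one_mul] at this)
  -- the action of `b`
  set k := r * (b' * r * b') with hk
  have hbrb : b' * r * b' ∈ Cy := by
    have := Normal.conj_mem (inferInstance : Cy.Normal) r hrC b'
    rwa [inv_eq_of_mul_eq_one_right hb2] at this
  have hrcomm : Commute r (b' * r * b') := by
    obtain ⟨i, hi⟩ := (hCr _).1 hbrb
    rw [← hi]
    exact (Commute.refl r).zpow_right i
  have hkA : k = 1 ∨ k = a' := by
    have hkC : k ∈ Cy := mul_mem hrC hbrb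
    have hkb : b' * k = k * b' := by
      calc b' * k = (b' * r * b') * (r * (b' * b')) * b' := by
            rw [hk, hb2, mul_one]
            simp only [mul_assoc, hb2]
        _ = (b' * r * b') * r * b' := by rw [hb2, mul_one]
        _ = k * b' := by rw [hk, ← hrcomm.eq]
    have hka : a' * k = k * a' := by rw [← hza]; exact (hzc k).symm
    have hkA : k ∈ A := mem_subgroupOf.2 (mem_centV.2 ⟨(congrArg Subtype.val hka).symm,
      (congrArg Subtype.val hkb).symm⟩)
    obtain ⟨v, hv, hve⟩ := (hAmem k).1 hkA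
    simp only [vList, List.mem_cons, List.not_mem_nil, or_false] at hv
    rcases hv with rfl | rfl | rfl | rfl
    · exact Or.inl (Subtype.ext (by rw [← hve, d.hφ.map_one]; rfl))
    · exact Or.inr (Subtype.ext hve.symm)
    · exact absurd ((show b' = k from Subtype.ext hve) ▸ hkC) hbC
    · exact absurd ((show a' * b' = k from Subtype.ext (by
        rw [← hve, d.hφ.mul _ m1 _ my]; rfl)) ▸ hkC) habC
  have hout : ∀ t : X, t ∉ Cy → ∃ i : ℕ, t = r ^ i * b' := by
    intro t ht
    have : t * b' ∈ Cy := (Subgroup.mul_mem_iff_of_index_two hCi).2 (iff_of_false ht hbC)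
    obtain ⟨i, hi⟩ := (mem_powers_iff_mem_zpowers.2 ((hCr _).1 this) : t * b' ∈ Submonoid.powers r)
    exact ⟨i, by
      show t = r ^ i * b'
      rw [show r ^ i = t * b' from hi, mul_assoc, hb2, mul_one]⟩
  have hlift : ∀ {s t : X}, IsConj s t → IsConj (s : G) (t : G) := fun {s t} h =>
    let ⟨u, hu⟩ := isConj_iff.1 h
    isConj_iff.2 ⟨u, congrArg Subtype.val hu⟩
  -- all involutions are conjugate to `a`
  have hall : ∀ t : X, orderOf t = 2 → IsConj a (t : G) := by
    intro t ht
    have ht2 : t * t = 1 := by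
      have := pow_orderOf_eq_one t
      rwa [ht, pow_two] at this
    by_cases htC : t ∈ Cy
    · rcases huniq t htC ht2 with rfl | rfl
      · rw [orderOf_one] at ht; omega
      · rw [hza]
    obtain ⟨i, rfl⟩ := hout t htC
    have hbr : ∀ j : ℕ, b' * r ^ j * b' = (b' * r * b') ^ j := fun j => by
      induction j with
      | zero => rw [pow_zero, pow_zero, mul_one, hb2]
      | succ j ih =>
        rw [pow_succ (b' * r * b') j, ← ih, pow_succ]
        simp only [mul_assoc]
        rw [← mul_assoc b' b' (r * b'), hb2, one_mul]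
    rcases hkA with hk1 | hka
    · -- dihedral
      have hinv : b' * r * b' = r⁻¹ := eq_inv_of_mul_eq_one_right hk1
      have hconj : ∀ j e : ℕ, r ^ j * (r ^ e * b') * (r ^ j)⁻¹ = r ^ (2 * j + e) * b' := by
        intro j e
        have h1 : b' * (r ^ j)⁻¹ = r ^ j * b' := by
          calc b' * (r ^ j)⁻¹ = (b' * (r ^ j)⁻¹ * b') * b' := by rw [mul_assoc _ b', hb2, mul_one]
            _ = (b' * r ^ j * b')⁻¹ * b' := by
              rw [mul_inv_rev, mul_inv_rev, inv_eq_of_mul_eq_one_right hb2, mul_assoc b']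
            _ = r ^ j * b' := by rw [hbr, hinv, inv_pow, inv_inv]
        rw [mul_assoc, mul_assoc, h1, ← mul_assoc, ← mul_assoc, ← pow_add, ← pow_add]
        congr 2
        omega
      have hcC : c' ∉ Cy := by
        intro h
        rcases huniq c' h (Subtype.ext (by show c * c = 1; rw [← pow_two, ← hco, pow_orderOf_eq_one])) with e | e
        · have : c = 1 := congrArg Subtype.val e
          rw [this, orderOf_one] at hco; omega
        · exact hcA (e.trans hza ▸ haA)
      obtain ⟨m, hm⟩ := hout c' hcC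
      rcases Nat.even_or_odd' m with ⟨j, hmj | hmj⟩
      · -- `c` and `b` are conjugate in `C(a)`: impossible
        exfalso
        have hjb : r ^ j * b' * (r ^ j)⁻¹ = c' := by
          have := hconj j 0
          rw [pow_zero, one_mul, add_zero] at this
          rw [this, hm, hmj]
        haveI : NeZero (2 ^ (n - 1)) := ⟨by positivity⟩
        obtain ⟨eD⟩ := CfsgLib.Invol.exists_mulEquiv_dihedral (n := 2 ^ (n - 1)) (s := b') hro
          (orderOf_eq_prime (by rw [pow_two]; exact hb2) fun e => hbC (e ▸ one_mem _))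
          (by rw [inv_eq_of_mul_eq_one_right hb2]; exact hinv)
          (fun h => hbC ((hCr b').2 h))
        have htop : closure ({r, b'} : Set X) = ⊤ := by
          refine eq_top_iff.2 fun u _ => ?_
          by_cases hu : u ∈ Cy
          · exact zpowers_le.2 (subset_closure (by simp)) ((hCr u).1 hu)
          · obtain ⟨i, rfl⟩ := hout u hu
            exact mul_mem (pow_mem (subset_closure (by simp)) _) (subset_closure (by simp))
        set K := centralizer ({a} : Set G) with hKdef
        obtain ⟨N, hN, hNodd, kk, hNi⟩ := Cfsg.Agent.S0514.result (X := G) S (2 ^ (n - 1))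
          (le_self_pow₀ (by norm_num) (by omega) |>.trans' le_rfl)
          ⟨(Subgroup.topEquiv.symm.trans (MulEquiv.subgroupCongr htop.symm)).trans eD⟩ a hao
        haveI := hN
        have hN3 : ∀ s : K, s ^ 3 = 1 → s ∈ N := by
          intro s hs
          rw [← QuotientGroup.eq_one_iff (N := N), ← orderOf_eq_one_iff]
          refine Nat.eq_one_of_dvd_coprimes (a := 3) (b := 2 ^ kk) (Nat.Coprime.pow_right _ (by norm_num)) ?_ ?_
          · exact orderOf_dvd_of_pow_eq_one (by rw [← QuotientGroup.mk_pow, hs]; rfl)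
          · rw [← hNi, index_eq_card]; exact orderOf_dvd_natCard _
        set N' := N.map K.subtype
        have hN'K : N' ≤ K := map_subtype_le N
        have hZK : φ z0 ∈ K := d.Z_mem_cent
        have hZN : φ z0 ∈ N' := ⟨⟨_, hZK⟩, hN3 _ (Subtype.ext (by simpa using d.Z3)), rfl⟩
        set g : G := ((r ^ j : X) : G) with hg
        have hgK : g ∈ K := mem_centralizer_singleton_iff.2 (by
          have := congrArg Subtype.val (hzc (r ^ j))
          rw [hza] at this
          exact this)
        have hgb : g * b * g⁻¹ = c := congrArg Subtype.val hjb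
        have hs3 : (g * φ z0 * g⁻¹) ^ 3 = 1 := by rw [conj_pow, d.Z3]; group
        have hgZN : g * φ z0 * g⁻¹ ∈ N' := ⟨⟨_, mul_mem (mul_mem hgK hZK) (inv_mem hgK)⟩,
          hN3 _ (Subtype.ext (by simpa using hs3)), rfl⟩
        obtain ⟨R, hR⟩ := d.exists_sylow_cent hN'K hZN
        obtain ⟨h, hhN, hhZ⟩ := exists_conj_mem_zpowers hZN hR hgZN hs3
        have hhg : h * g * φ z0 * (h * g)⁻¹ ∈ zpowers (φ z0) := by
          rwa [show h * g * φ z0 * (h * g)⁻¹ = h * (g * φ z0 * g⁻¹) * h⁻¹ by group]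
        obtain ⟨p, hp, hpe⟩ := d.hφ.surj _ (mem_normalizer_zpowers_of_conj hhg)
        have hq : φ (p * y1 * p⁻¹ * x5) = h * c * h⁻¹ * c := by
          rw [d.hφ.mul _ (mul_mem (mul_mem hp my) (inv_mem hp)) _ m5, d.hφ.map_conj hp my, hpe]
          show h * g * b * (h * g)⁻¹ * c = h * c * h⁻¹ * c
          rw [← hgb]
          group
        have hodd : Odd (orderOf (φ (p * y1 * p⁻¹ * x5))) := by
          have hcK : c ∈ K := mem_centralizer_singleton_iff.2 (d.hφ.commute m5 m1 hc1.symm)
          have hci : c⁻¹ = c := inv_eq_of_mul_eq_one_right (by rw [← pow_two, ← hco, pow_orderOf_eq_one])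
          have hm' : h * c * h⁻¹ * c ∈ N' := by
            obtain ⟨h', hh', rfl⟩ := hhN
            refine ⟨h' * (⟨c, hcK⟩ * h'⁻¹ * ⟨c, hcK⟩⁻¹), mul_mem hh' (hN.conj_mem _ (inv_mem hh') _), ?_⟩
            show (h' : G) * (c * (h' : G)⁻¹ * c⁻¹) = h' * c * (h' : G)⁻¹ * c
            rw [hci]; group
          have h1 := orderOf_dvd_natCard (⟨_, hm'⟩ : N')
          rw [Subgroup.orderOf_mk, ← hq,
            ← Nat.card_congr (equivMapOfInjective N _ K.subtype_injective).toEquiv] at h1
          exact hNodd.of_dvd_nat h1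
        have hqm : p * y1 * p⁻¹ * x5 ∈ zGrp := mul_mem (mul_mem (mul_mem hp my) (inv_mem hp)) m5
        rw [d.hφ.orderOf_eq hqm] at hodd
        set q := p * y1 * p⁻¹ * x5 with hqdef
        have hinvq : q * z0 * q⁻¹ = z0 * z0 := mul_inv_eq_iff_eq_mul.2 (y1_inverts hp)
        have hsq : ∀ i : ℕ, (q * q) ^ i * z0 * ((q * q) ^ i)⁻¹ = z0 := by
          intro i
          induction i with
          | zero => simp
          | succ i ih =>
            have e : q * q * z0 * (q * q)⁻¹ = z0 := by
              rw [show q * q * z0 * (q * q)⁻¹ = q * (q * z0 * q⁻¹) * q⁻¹ by group, hinvq,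
                show q * (z0 * z0) * q⁻¹ = (q * z0 * q⁻¹) * (q * z0 * q⁻¹) by group, hinvq]
              decide +kernel
            rw [pow_succ', show q * q * (q * q) ^ i * z0 * (q * q * (q * q) ^ i)⁻¹ =
              q * q * ((q * q) ^ i * z0 * ((q * q) ^ i)⁻¹) * (q * q)⁻¹ by simp [mul_assoc], ih, e]
        obtain ⟨i, hi⟩ := hodd
        have e1 : q * (q * q) ^ i = 1 := by
          rw [← pow_two, ← pow_mul, ← pow_succ', show 2 * i + 1 = orderOf q by omega, pow_orderOf_eq_one]
        have e2 : q * ((q * q) ^ i * z0 * ((q * q) ^ i)⁻¹) * q⁻¹ = z0 := by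
          rw [show q * ((q * q) ^ i * z0 * ((q * q) ^ i)⁻¹) * q⁻¹ = (q * (q * q) ^ i) * z0 * (q * (q * q) ^ i)⁻¹ by
            group, e1]
          group
        rw [hsq, hinvq] at e2
        exact absurd e2 (by decide +kernel)
      · -- both classes are represented
        rcases Nat.even_or_odd' i with ⟨s, rfl | rfl⟩
        · have := hconj s 0
          rw [pow_zero, one_mul, add_zero] at this
          exact hbT.trans (hlift (isConj_iff.2 ⟨_, this⟩))
        · have h1 : IsConj (r ^ 1 * b') c' := by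
            rw [hm, hmj]
            exact isConj_iff.2 ⟨_, hconj j 1⟩
          have h2 : IsConj (r ^ 1 * b') (r ^ (2 * s + 1) * b') := isConj_iff.2 ⟨_, hconj s 1⟩
          exact hcT.trans (hlift (h1.symm.trans h2))
    · -- semidihedral
      have hbrb' : b' * r * b' = r⁻¹ * a' := by rw [← hka, hk, inv_mul_cancel_left]
      have hca : Commute r a' := by rw [← hza]; exact hzc r
      have hbrj : ∀ j : ℕ, b' * r ^ j * b' = (r ^ j)⁻¹ * a' ^ j := fun j => by
        rw [hbr, hbrb', hca.inv_left.mul_pow, inv_pow]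
      have hsq : (r ^ i * b') * (r ^ i * b') = a' ^ i := by
        calc (r ^ i * b') * (r ^ i * b') = r ^ i * (b' * r ^ i * b') := by group
          _ = a' ^ i := by rw [hbrj, mul_inv_cancel_left]
      rw [hsq] at ht2
      obtain ⟨j, rfl⟩ : Even i := by
        by_contra hodd
        obtain ⟨j, rfl⟩ := Nat.not_even_iff_odd.1 hodd
        rw [pow_succ, pow_mul, pow_two, ha2, one_pow, one_mul] at ht2
        have : a = 1 := congrArg Subtype.val ht2
        rw [this, orderOf_one] at hao; omega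
      have hj : r ^ j * (a' ^ j * b') * (r ^ j)⁻¹ = r ^ (j + j) * b' := by
        have hba : Commute b' a' := by rw [← hza]; exact hzc b'
        have h1 : b' * (r ^ j)⁻¹ = r ^ j * a' ^ j * b' := by
          have h := congrArg (fun u : X => u⁻¹) (hbrj j)
          simp only [mul_inv_rev, inv_inv, inv_eq_of_mul_eq_one_right hb2] at h
          have haj : (a' ^ j)⁻¹ = a' ^ j := by rw [← inv_pow, inv_eq_of_mul_eq_one_right ha2]
          rw [haj, ← mul_assoc] at h
          calc b' * (r ^ j)⁻¹ = b' * (r ^ j)⁻¹ * b' * b' := by rw [mul_assoc _ b', hb2, mul_one]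
            _ = a' ^ j * r ^ j * b' := by
              rw [h]
              exact congrArg (fun u : X => a' ^ j * u * b') (inv_inv (r ^ j))
            _ = _ := by rw [(hca.pow_pow j j).eq]
        have e2 : a' ^ j * a' ^ j = 1 := by rw [← (Commute.refl a').mul_pow, ha2, one_pow]
        calc r ^ j * (a' ^ j * b') * (r ^ j)⁻¹ = r ^ j * a' ^ j * (b' * (r ^ j)⁻¹) := by group
          _ = r ^ j * a' ^ j * (r ^ j * a' ^ j) * b' := by rw [h1]; group
          _ = r ^ j * (r ^ j * a' ^ j) * a' ^ j * b' := by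
            rw [mul_assoc (r ^ j) (a' ^ j), ← mul_assoc (a' ^ j), ← (hca.pow_pow j j).eq, mul_assoc (r ^ j) _ (a' ^ j)]
            group
          _ = r ^ (j + j) * b' := by rw [← mul_assoc (r ^ j), mul_assoc (r ^ j * r ^ j), e2, mul_one, pow_add]
      rcases Nat.even_or_odd' j with ⟨s, hs | hs⟩
      · have e : a' ^ j = 1 := by rw [hs, pow_mul, pow_two, ha2, one_pow]
        rw [e, one_mul] at hj
        exact hbT.trans (hlift (isConj_iff.2 ⟨_, hj⟩))
      · have e : a' ^ j = a' := by rw [hs, pow_succ, pow_mul, pow_two, ha2, one_pow, one_mul]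
        rw [e] at hj
        exact habT.trans (hlift (s := a' * b') (isConj_iff.2 ⟨_, hj⟩))
  -- an involution of another class
  obtain ⟨w, hwo, hwc⟩ := d.exists_w
  have hw2 : IsPGroup 2 (zpowers w) := IsPGroup.of_card (n := 1) (by rw [Nat.card_zpowers, hwo, pow_one])
  obtain ⟨Q, hQ⟩ := hw2.exists_le_sylow
  obtain ⟨g, hg⟩ := MulAction.exists_smul_eq G Q S
  have hgw : g * w * g⁻¹ ∈ (S : Subgroup G) := by
    rw [← hg, Sylow.coe_subgroup_smul]
    exact ⟨w, hQ (mem_zpowers w), rfl⟩
  have := hall ⟨_, hgw⟩ (by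
    rw [Subgroup.orderOf_mk, show g * w * g⁻¹ = MulAut.conj g w from rfl, MulEquiv.orderOf_eq, hwo])
  exact d.not_isConj_w hwc (this.trans (isConj_iff.2 ⟨g⁻¹, by group⟩))

/-- The two normalisers are glued. -/
theorem Data.exists_link (d : Data P φ ψ) : ∃ ψ' : P8 → G, Data P φ ψ' ∧ Link φ ψ' := by
  rcases d.centV_cases with (h | h) | h
  · exact ⟨ψ, d, h⟩
  · exact ⟨_, d.twist, h⟩
  · exact (d.false_of_small h).elim

end CfsgLib.Recog.AltEight
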