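import Cfsg.Agent.Lib.Recog.AltEight.Model

/-!
A map on permutations which is an isomorphism from a given subgroup onto a subgroup of another group.
-/

set_option autoImplicit false

namespace CfsgLib.Recog.AltEight

variable {G : Type*} [Group G]

/-- `f` restricted to `S` is an isomorphism onto `N`. -/
structure Chart (f : P8 → G) (S : Subgroup P8) (N : Subgroup G) : Prop where
  mul : ∀ a ∈ S, ∀ b ∈ S, f (a * b) = f a * f b
  mem : ∀ a ∈ S, f a ∈ N
  surj : ∀ n ∈ N, ∃ a ∈ S, f a = n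
  inj : ∀ a ∈ S, ∀ b ∈ S, f a = f b → a = b

namespace Chart

variable {f : P8 → G} {S : Subgroup P8} {N : Subgroup G}

theorem map_one (h : Chart f S N) : f 1 = 1 := by
  have := h.mul 1 S.one_mem 1 S.one_mem
  rw [mul_one] at this
  exact left_eq_mul.1 this

theorem map_inv (h : Chart f S N) {a : P8} (ha : a ∈ S) : f a⁻¹ = (f a)⁻¹ := by
  refine eq_inv_of_mul_eq_one_left ?_
  rw [← h.mul _ (S.inv_mem ha) _ ha, inv_mul_cancel, h.map_one]

theorem map_pow (h : Chart f S N) {a : P8} (ha : a ∈ S) : ∀ n : ℕ, f (a ^ n) = f a ^ n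
  | 0 => by rw [pow_zero, pow_zero, h.map_one]
  | n + 1 => by rw [pow_succ, pow_succ, h.mul _ (S.pow_mem ha n) _ ha, h.map_pow ha n]

theorem map_conj (h : Chart f S N) {a b : P8} (ha : a ∈ S) (hb : b ∈ S) :
    f (a * b * a⁻¹) = f a * f b * (f a)⁻¹ := by
  rw [h.mul _ (S.mul_mem ha hb) _ (S.inv_mem ha), h.mul _ ha _ hb, h.map_inv ha]

theorem commute_iff (h : Chart f S N) {a b : P8} (ha : a ∈ S) (hb : b ∈ S) :
    f a * f b = f b * f a ↔ a * b = b * a := by
  rw [← h.mul _ ha _ hb, ← h.mul _ hb _ ha]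
  exact ⟨h.inj _ (S.mul_mem ha hb) _ (S.mul_mem hb ha), fun e => by rw [e]⟩

theorem commute (h : Chart f S N) {a b : P8} (ha : a ∈ S) (hb : b ∈ S) (hab : a * b = b * a) :
    Commute (f a) (f b) := (h.commute_iff ha hb).2 hab

theorem eq_one_iff (h : Chart f S N) {a : P8} (ha : a ∈ S) : f a = 1 ↔ a = 1 :=
  ⟨fun e => h.inj a ha 1 S.one_mem (e.trans h.map_one.symm), fun e => by rw [e, h.map_one]⟩

theorem orderOf_eq (h : Chart f S N) {a : P8} (ha : a ∈ S) : orderOf (f a) = orderOf a :=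
  orderOf_eq_orderOf_iff.2 fun n => by rw [← h.map_pow ha, h.eq_one_iff (S.pow_mem ha n)]

/-- Composition with an inner automorphism of the target. -/
theorem conjOut (h : Chart f S N) (c : G) (N' : Subgroup G)
    (hN : ∀ n, n ∈ N ↔ c * n * c⁻¹ ∈ N') : Chart (fun a => c * f a * c⁻¹) S N' where
  mul a ha b hb := by rw [h.mul a ha b hb]; group
  mem a ha := (hN _).1 (h.mem a ha)
  surj n hn := by
    obtain ⟨a, ha, e⟩ := h.surj (c⁻¹ * n * c) ((hN _).2 (by simpa [mul_assoc] using hn))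
    exact ⟨a, ha, by rw [e]; group⟩
  inj a ha b hb e := h.inj a ha b hb (mul_left_cancel (mul_right_cancel e))

/-- Precomposition with an inner automorphism of the source. -/
theorem conjIn (h : Chart f S N) (e : P8) (S' : Subgroup P8) (hS : ∀ a, a ∈ S' ↔ e * a * e⁻¹ ∈ S) :
    Chart (fun a => f (e * a * e⁻¹)) S' N where
  mul a ha b hb := by
    rw [← h.mul _ ((hS a).1 ha) _ ((hS b).1 hb)]
    congr 1
    group
  mem a ha := h.mem _ ((hS a).1 ha)
  surj n hn := by
    obtain ⟨a, ha, rfl⟩ := h.surj n hn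
    have e' : e * (e⁻¹ * a * e) * e⁻¹ = a := by group
    exact ⟨e⁻¹ * a * e, (hS _).2 (by rw [e']; exact ha), by rw [e']⟩
  inj a ha b hb he :=
    mul_left_cancel (mul_right_cancel (h.inj _ ((hS a).1 ha) _ ((hS b).1 hb) he))

theorem conjIn_mem (h : Chart f S N) {e : P8} (he : e ∈ S) : Chart (fun a => f (e * a * e⁻¹)) S N :=
  h.conjIn e S fun a => by
    refine ⟨fun ha => S.mul_mem (S.mul_mem he ha) (S.inv_mem he), fun ha => ?_⟩
    have := S.mul_mem (S.mul_mem (S.inv_mem he) ha) he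
    simpa [mul_assoc] using this

end Chart

end CfsgLib.Recog.AltEight
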