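import Cfsg.Agent.Lib.Recog.AltEight.Good

/-!
The class of `φ x1` and the elements of order three centralising it.
-/

set_option autoImplicit false
set_option linter.unusedSectionVars false
set_option maxRecDepth 8000

namespace CfsgLib.Recog.AltEight

open Subgroup

def conjList : List P8 :=
  [1, sw 2 3 * sw 3 4, sw 2 4 * sw 4 3, sw 0 4 * sw 4 3, sw 1 2 * sw 2 3, sw 1 2 * sw 2 4, sw 1 3 * sw 3 2,
    sw 1 3 * sw 3 4, sw 0 4 * sw 4 2, sw 1 4 * sw 4 2, sw 1 4 * sw 4 3, sw 0 4 * sw 4 1, sw 0 2 * sw 2 4,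
    sw 0 3 * sw 3 4, sw 0 1 * sw 1 4]

theorem conjList_mem : ∀ p ∈ conjList, p ∈ zGrp := by decide +kernel

theorem invol_centz {g : P8} (hg : g ∈ zGrp) (hc : g * z0 = z0 * g) (h2 : g * g = 1) (h1 : g ≠ 1) :
    ∃ p ∈ conjList, p * x1 * p⁻¹ = g := by
  have := zCheck hg (fun c => comp c (code z0) = comp (code z0) c → comp c c = one8 → c ≠ one8 →
    c ∈ (conjList.map fun p => p * x1 * p⁻¹).map code) (by decide +kernel)
  simp only [← code_mul, one8, code_inj, ne_eq, List.mem_map] at this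
  obtain ⟨_, ⟨p, hp, rfl⟩, he⟩ := this hc h2 h1
  exact ⟨p, hp, he⟩

theorem nine_cent_x1 {g : P8} (hg : g ∈ zGrp) (hc : g * x1 = x1 * g)
    (h9 : g * g * g * (g * g * g) * (g * g * g) = 1) : g ∈ [1, z0, z0 * z0] := by
  have := zCheck hg (fun c => comp c (code x1) = comp (code x1) c →
    comp (comp (comp (comp c c) c) (comp (comp c c) c)) (comp (comp c c) c) = one8 →
    c ∈ [1, z0, z0 * z0].map code) (by decide +kernel)
  simp only [← code_mul, one8, code_inj, mem_map_code] at this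
  exact this hc h9

variable {G : Type*} [Group G] [Finite G] {P : Sylow 3 G} {φ ψ : P8 → G}

theorem Data.Z3 (d : Data P φ ψ) : φ z0 ^ 3 = 1 := by
  rw [← d.hφ.map_pow (by decide +kernel : z0 ∈ zGrp), show z0 ^ 3 = 1 by decide +kernel, d.hφ.map_one]

theorem Data.orderZ (d : Data P φ ψ) : orderOf (φ z0) = 3 := by
  rw [d.hφ.orderOf_eq (by decide +kernel : z0 ∈ zGrp)]
  exact orderOf_eq_prime (hp := ⟨Nat.prime_three⟩) (by decide +kernel) (by decide +kernel)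

theorem Data.isConj_ZZ (d : Data P φ ψ) : IsConj (φ z0) (φ z0 * φ z0) := by
  obtain ⟨⟨mz, -, -, -, m4, -⟩, -⟩ := basic_mem
  refine isConj_iff.2 ⟨φ x4, ?_⟩
  rw [← d.hφ.map_conj m4 mz, ← d.hφ.mul _ mz _ mz, show x4 * z0 * x4⁻¹ = z0 * z0 by decide +kernel]

theorem Data.isConj_of_mem_zpowers (d : Data P φ ψ) {s : G} (hs : s ∈ zpowers (φ z0)) (h1 : s ≠ 1) :
    IsConj s (φ z0) := by
  rcases cube_cases d.Z3 hs with rfl | rfl | rfl
  · exact absurd rfl h1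
  · exact IsConj.refl _
  · exact d.isConj_ZZ.symm

theorem Data.card_cent_ne (d : Data P φ ψ) {x : G} (hx : IsConj x (φ z0)) :
    Nat.card (centralizer ({x} : Set G)) ≠ 18 := by
  intro h18
  obtain ⟨c, hc⟩ := isConj_iff.1 hx
  rw [← card_centralizer_conj c x, hc] at h18
  obtain ⟨⟨mz, -⟩, -⟩ := basic_mem
  obtain ⟨mf, cf, nf, pf⟩ : th 0 1 2 * th 2 3 4 ∈ zGrp ∧
      z0 * (th 0 1 2 * th 2 3 4) = (th 0 1 2 * th 2 3 4) * z0 ∧
      (th 0 1 2 * th 2 3 4) ≠ 1 ∧ (th 0 1 2 * th 2 3 4) ^ 5 = 1 := by decide +kernel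
  have ho : orderOf (φ (th 0 1 2 * th 2 3 4)) = 5 := by
    rw [d.hφ.orderOf_eq mf]
    exact orderOf_eq_prime (hp := ⟨by norm_num⟩) pf nf
  have hm : φ (th 0 1 2 * th 2 3 4) ∈ centralizer ({φ z0} : Set G) :=
    mem_centralizer_singleton_iff.2 (d.hφ.commute mz mf cf).eq.symm
  have h5 := orderOf_dvd_natCard (⟨_, hm⟩ : centralizer ({φ z0} : Set G))
  rw [Subgroup.orderOf_mk, ho, h18] at h5
  norm_num at h5

/-- An involution centralising a conjugate of `φ z0` is conjugate to `φ x1`. -/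
theorem Data.isConj_x1 (d : Data P φ ψ) {i s : G} (hi : orderOf i = 2) (hs : IsConj s (φ z0))
    (hc : Commute i s) : IsConj (φ x1) i := by
  obtain ⟨c, hcs⟩ := isConj_iff.1 hs
  obtain ⟨⟨mz, -, m1, -⟩, -⟩ := basic_mem
  have hcom : Commute (c * i * c⁻¹) (φ z0) := by
    have := hc.map (MulAut.conj c).toMonoidHom
    simpa [MulAut.conj_apply, hcs] using this
  obtain ⟨g, hg, hge⟩ := d.hφ.surj _ (mem_normalizer_zpowers_of_commute hcom)
  have hg2 : orderOf g = 2 := by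
    rw [← d.hφ.orderOf_eq hg, hge, show c * i * c⁻¹ = MulAut.conj c i from rfl, MulEquiv.orderOf_eq, hi]
  obtain ⟨p, hp, hpe⟩ := invol_centz hg ((d.hφ.commute_iff hg mz).1 (hge.symm ▸ hcom.eq))
    (by rw [← pow_two, ← hg2, pow_orderOf_eq_one]) (fun e => by rw [e, orderOf_one] at hg2; omega)
  refine (isConj_iff.2 ⟨φ p, ?_⟩ : IsConj (φ x1) (c * i * c⁻¹)).trans (isConj_iff.2 ⟨c⁻¹, by group⟩)
  rw [← d.hφ.map_conj (conjList_mem p hp) m1, hpe, hge]

theorem Data.exists_sylow_cent (d : Data P φ ψ) {C : Subgroup G} (hC : C ≤ centralizer ({φ x1} : Set G))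
    (hZ : φ z0 ∈ C) : ∃ R : Sylow 3 C, (R : Subgroup C) = zpowers (⟨φ z0, hZ⟩ : C) := by
  haveI : Fact (Nat.Prime 3) := ⟨Nat.prime_three⟩
  obtain ⟨⟨mz, -, m1, -⟩, -⟩ := basic_mem
  refine exists_sylow_eq_zpowers hZ d.orderZ fun t ht hconj h9 => ?_
  obtain ⟨g, hg, rfl⟩ := d.hφ.surj t (mem_normalizer_zpowers_of_conj hconj)
  have hc : g * x1 = x1 * g := (d.hφ.commute_iff hg m1).1 (mem_centralizer_singleton_iff.1 (hC ht))
  have h9' : g * g * g * (g * g * g) * (g * g * g) = 1 := by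
    rw [← d.hφ.map_pow hg, d.hφ.eq_one_iff (zGrp.pow_mem hg _)] at h9
    simpa [pow_succ, mul_assoc] using h9
  have := nine_cent_x1 hg hc h9'
  simp only [List.mem_cons, List.not_mem_nil, or_false] at this
  rcases this with rfl | rfl | rfl
  · rw [d.hφ.map_one]; exact one_mem _
  · exact mem_zpowers _
  · rw [d.hφ.mul _ mz _ mz]; exact mul_mem (mem_zpowers _) (mem_zpowers _)

theorem Data.Z_mem_cent (d : Data P φ ψ) : φ z0 ∈ centralizer ({φ x1} : Set G) := by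
  obtain ⟨⟨mz, -, m1, -⟩, -⟩ := basic_mem
  exact mem_centralizer_singleton_iff.2 (d.hφ.commute mz m1 (by decide +kernel))

/-- The elements of order three centralising a conjugate of `φ x1` are conjugate to `φ z0`. -/
theorem Data.three_cent (d : Data P φ ψ) {i s : G} (hi : IsConj (φ x1) i) (hc : Commute s i) (h3 : s ^ 3 = 1)
    (h1 : s ≠ 1) : IsConj s (φ z0) := by
  haveI : Fact (Nat.Prime 3) := ⟨Nat.prime_three⟩
  obtain ⟨c, rfl⟩ := isConj_iff.1 hi
  have hs' : c⁻¹ * s * c ∈ centralizer ({φ x1} : Set G) := by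
    rw [mem_centralizer_singleton_iff]
    calc c⁻¹ * s * c * φ x1 = c⁻¹ * (s * (c * φ x1 * c⁻¹)) * c := by group
      _ = c⁻¹ * ((c * φ x1 * c⁻¹) * s) * c := by rw [hc.eq]
      _ = φ x1 * (c⁻¹ * s * c) := by group
  obtain ⟨R, hR⟩ := d.exists_sylow_cent le_rfl d.Z_mem_cent
  have h3' : (c⁻¹ * s * c) ^ 3 = 1 := by
    rw [show c⁻¹ * s * c = c⁻¹ * s * (c⁻¹)⁻¹ by rw [inv_inv], conj_pow, h3, mul_one, inv_inv, inv_mul_cancel]
  obtain ⟨g, -, hg⟩ := exists_conj_mem_zpowers d.Z_mem_cent hR hs' h3'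
  refine (isConj_iff.2 ⟨g * c⁻¹, by group⟩ : IsConj s (g * (c⁻¹ * s * c) * g⁻¹)).trans
    (d.isConj_of_mem_zpowers hg ?_)
  intro e
  refine h1 ?_
  calc s = c * g⁻¹ * (g * (c⁻¹ * s * c) * g⁻¹) * g * c⁻¹ := by group
    _ = 1 := by rw [e]; group

/-- There is an involution centralising `φ z0 * φ a0`, and it is not conjugate to `φ x1`. -/
theorem Data.not_isConj_w (d : Data P φ ψ) {w : G} (hw : Commute w (φ z0 * φ a0)) :
    ¬ IsConj (φ x1) w := by
  intro h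
  obtain ⟨⟨mz, ma, -⟩, -⟩ := basic_mem
  refine d.card_cent_ne (d.three_cent h hw.symm ?_ ?_) d.cyCard
  · rw [← d.hφ.mul _ mz _ ma, ← d.hφ.map_pow (mul_mem mz ma), show (z0 * a0) ^ 3 = 1 by decide +kernel,
      d.hφ.map_one]
  · rw [← d.hφ.mul _ mz _ ma, Ne, d.hφ.eq_one_iff (mul_mem mz ma)]
    decide +kernel

theorem Data.exists_w (d : Data P φ ψ) : ∃ w : G, orderOf w = 2 ∧ Commute w (φ z0 * φ a0) := by
  haveI : Fact (Nat.Prime 2) := ⟨Nat.prime_two⟩
  obtain ⟨w, hw⟩ := exists_prime_orderOf_dvd_card' (G := centralizer ({φ z0 * φ a0} : Set G)) 2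
    (by rw [d.cyCard]; norm_num)
  refine ⟨w, by rw [Subgroup.orderOf_coe, hw], mem_centralizer_singleton_iff.1 w.2⟩

end CfsgLib.Recog.AltEight
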