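import Cfsg.Agent.Lib.Recog.AltEight.Model

/-!
Permutations of eight points coded as natural numbers in base eight, for quick finite checks.
-/

set_option autoImplicit false
set_option maxRecDepth 8000

namespace CfsgLib.Recog.AltEight

def dig (n i : ℕ) : ℕ := n / 8 ^ i % 8

def pack (f : ℕ → ℕ) : ℕ :=
  f 0 + 8 * (f 1 + 8 * (f 2 + 8 * (f 3 + 8 * (f 4 + 8 * (f 5 + 8 * (f 6 + 8 * f 7))))))

/-- Composition of codes. -/
def comp (a b : ℕ) : ℕ := pack fun i => dig a (dig b i)

def code (g : P8) : ℕ := pack fun i => (g (Fin.ofNat 8 i)).val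

/-- The code of the identity. -/
def one8 : ℕ := code 1

theorem dig_pack (f : ℕ → ℕ) (hf : ∀ i, f i < 8) (i : ℕ) (hi : i < 8) : dig (pack f) i = f i := by
  have := hf 0; have := hf 1; have := hf 2; have := hf 3
  have := hf 4; have := hf 5; have := hf 6; have := hf 7
  interval_cases i <;> simp only [dig, pack] <;> omega

theorem dig_code (g : P8) (i : Fin 8) : dig (code g) i.val = (g i).val := by
  rw [code, dig_pack _ (fun _ => (g _).isLt) _ i.isLt, Fin.ofNat_val_eq_self]

theorem code_injective : Function.Injective code := by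
  intro a b h
  refine Equiv.ext fun i => Fin.ext ?_
  rw [← dig_code a i, ← dig_code b i, h]

theorem code_mul (a b : P8) : code (a * b) = comp (code a) (code b) := by
  have key : ∀ i : Fin 8, ((a * b) i).val = dig (code a) (dig (code b) i.val) := fun i => by
    rw [dig_code b i, dig_code a (b i), Equiv.Perm.mul_apply]
  have hk : ∀ n, n < 8 → ((a * b) (Fin.ofNat 8 n)).val = dig (code a) (dig (code b) n) := fun n hn => by
    have := key (Fin.ofNat 8 n)
    rwa [Fin.val_ofNat, Nat.mod_eq_of_lt hn] at this
  show pack _ = pack _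
  simp only [pack, hk 0 (by omega), hk 1 (by omega), hk 2 (by omega), hk 3 (by omega), hk 4 (by omega),
    hk 5 (by omega), hk 6 (by omega), hk 7 (by omega)]

theorem code_inj {a b : P8} : code a = code b ↔ a = b := code_injective.eq_iff

theorem mem_map_code {a : P8} {L : List P8} : code a ∈ L.map code ↔ a ∈ L := by
  rw [List.mem_map]
  exact ⟨fun ⟨b, hb, e⟩ => code_injective e ▸ hb, fun h => ⟨a, h, rfl⟩⟩

/-- Products of all choices from the lists. -/
def prods : List (List P8) → List P8
  | [] => [1]
  | l :: ls => l.flatMap fun a => (prods ls).map fun b => a * b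

/-- The codes of `prods`. -/
def cprods : List (List ℕ) → List ℕ
  | [] => [one8]
  | l :: ls => let r := cprods ls; l.flatMap fun a => r.map fun b => comp a b

theorem map_code_prods : ∀ ls : List (List P8), (prods ls).map code = cprods (ls.map fun l => l.map code)
  | [] => rfl
  | l :: ls => by
    simp only [prods, cprods, List.map_cons, List.map_flatMap, List.flatMap_map, ← map_code_prods ls,
      List.map_map]
    congr 1
    funext a
    exact List.map_congr_left fun b _ => code_mul a b

theorem prods_mem (S : Subgroup P8) : ∀ ls : List (List P8), (∀ l ∈ ls, ∀ a ∈ l, a ∈ S) → ∀ p ∈ prods ls, p ∈ S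
  | [], _, p, hp => by rw [List.mem_singleton.1 hp]; exact one_mem S
  | l :: ls, h, p, hp => by
    obtain ⟨a, ha, hp'⟩ := List.mem_flatMap.1 hp
    obtain ⟨b, hb, rfl⟩ := List.mem_map.1 hp'
    exact mul_mem (h l (List.mem_cons_self ..) a ha)
      (prods_mem S ls (fun l' hl' => h l' (List.mem_cons_of_mem _ hl')) b hb)

def zFactors : List (List P8) :=
  [[1, th 0 1 4, th 1 2 4, th 2 3 4, th 3 0 4], [1, sw 0 1 * sw 2 3, sw 0 2 * sw 1 3, sw 0 3 * sw 1 2],
    [1, a0, a0 * a0], [1, z0, z0 * z0], [1, x4]]

def zCodes : List ℕ := cprods (zFactors.map fun l => l.map code)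

theorem zCodes_nodup : zCodes.Nodup := by decide +kernel

theorem zCodes_length : zCodes.length = 360 := by decide +kernel

theorem card_even2 : Nat.card {u : Pair // Even2 u} = 360 := by
  let χ : Pair →* ℤˣ := (Equiv.Perm.sign.comp (MonoidHom.fst _ _)) * (Equiv.Perm.sign.comp (MonoidHom.snd _ _))
  have hsurj : Function.Surjective χ := by
    intro e
    rcases Int.units_eq_one_or e with rfl | rfl
    · exact ⟨1, map_one χ⟩
    · refine ⟨(Equiv.swap 0 1, 1), ?_⟩
      show Equiv.Perm.sign (Equiv.swap (0 : Fin 3) 1) * Equiv.Perm.sign (1 : Equiv.Perm (Fin 5)) = -1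
      rw [Equiv.Perm.sign_swap (by decide), map_one, mul_one]
  have he : ∀ u : Pair, u ∈ χ.ker ↔ Even2 u := by
    intro u
    show Equiv.Perm.sign u.1 * Equiv.Perm.sign u.2 = 1 ↔ Equiv.Perm.sign u.1 = Equiv.Perm.sign u.2
    rw [mul_eq_one_iff_eq_inv, Int.units_inv_eq_self]
  rw [← Nat.card_congr (Equiv.subtypeEquivRight he)]
  have h := χ.ker.card_mul_index
  rw [Subgroup.index_ker, MonoidHom.range_eq_top.2 hsurj, Subgroup.card_top, Nat.card_eq_fintype_card (α := ℤˣ),
    Fintype.card_units_int, Nat.card_prod, Nat.card_perm, Nat.card_perm, Nat.card_fin, Nat.card_fin] at h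
  have e3 : Nat.factorial 3 = 6 := rfl
  have e5 : Nat.factorial 5 = 120 := rfl
  rw [e3, e5] at h
  show Nat.card χ.ker = 360
  omega

theorem code_mem_zCodes {g : P8} (hg : g ∈ zGrp) : code g ∈ zCodes := by
  have hz : ∀ p ∈ prods zFactors, p ∈ zGrp := prods_mem _ _ (by decide +kernel)
  have hmap : (prods zFactors).map code = zCodes := map_code_prods _
  have hnd : (prods zFactors).Nodup := List.Nodup.of_map code (hmap ▸ zCodes_nodup)
  have hlen : (prods zFactors).length = 360 := by
    have h := congrArg List.length hmap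
    rw [List.length_map] at h
    rw [h, zCodes_length]
  let f : {u : Pair // Even2 u} → P8 := fun u => emb u.1
  have hsub : ((prods zFactors).toFinset : Set P8) ⊆ Set.range f := fun p hp => by
    obtain ⟨u, hu, e⟩ := mem_zGrp_iff.1 (hz p (List.mem_toFinset.1 hp))
    exact ⟨⟨u, hu⟩, e⟩
  have heq : ((prods zFactors).toFinset : Set P8) = Set.range f := by
    refine Set.eq_of_subset_of_ncard_le hsub ?_ (Set.toFinite _)
    rw [Set.ncard_coe_finset, List.toFinset_card_of_nodup hnd, hlen, ← Nat.card_coe_set_eq,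
      Nat.card_range_of_injective (fun a b e => Subtype.ext (emb_injective e)), card_even2]
  obtain ⟨u, hu, e⟩ := mem_zGrp_iff.1 hg
  have : g ∈ ((prods zFactors).toFinset : Set P8) := heq ▸ ⟨⟨u, hu⟩, e⟩
  rw [← hmap]
  exact List.mem_map.2 ⟨g, List.mem_toFinset.1 this, rfl⟩

def aCodes : List ℕ := zCodes.map fun c => comp (code rho) (comp c (code rho))

theorem code_mem_aCodes {g : P8} (hg : g ∈ aGrp) : code g ∈ aCodes := by
  refine List.mem_map.2 ⟨_, code_mem_zCodes (conj_rho_mem.1 hg), ?_⟩
  rw [← code_mul, ← code_mul]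
  congr 1
  rw [show rho * (rho * g * rho * rho) = (rho * rho) * g * (rho * rho) by group, rho_mul, one_mul, mul_one]

theorem zCheck {g : P8} (hg : g ∈ zGrp) (p : ℕ → Prop) [DecidablePred p]
    (h : zCodes.all (fun c => decide (p c)) = true) : p (code g) := by
  simpa using List.all_eq_true.1 h _ (code_mem_zCodes hg)

theorem aCheck {g : P8} (hg : g ∈ aGrp) (p : ℕ → Prop) [DecidablePred p]
    (h : aCodes.all (fun c => decide (p c)) = true) : p (code g) := by
  simpa using List.all_eq_true.1 h _ (code_mem_aCodes hg)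

end CfsgLib.Recog.AltEight
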