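import Cfsg.Agent.Lib.Recog.AltEight.GoodFacts
import Cfsg.Agent.Lib.Recog.SymEight.Perm8

/-!
Finite facts on the involutions of the alternating group of degree eight.
-/

set_option autoImplicit false
set_option maxRecDepth 8000
set_option maxHeartbeats 2000000
set_option linter.style.haveILetI false

namespace CfsgLib.Recog.AltEight

open CfsgLib.Recog.SymEight

/-- `(0 5)(1 6)(2 7)(3 4)`. -/
def w8 : P8 := rho * sw 3 4
/-- `(0 5)(1 6)`. -/
def s8 : P8 := sw 0 5 * sw 1 6

/-- Pointwise equality. -/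
def eqB (f g : Fin 8 → Fin 8) : Bool := (List.finRange 8).all fun i => decide (f i = g i)

theorem eqB_iff {a b : P8} : eqB a b = true ↔ a = b := by
  simp only [eqB, List.all_eq_true, List.mem_finRange, decide_eq_true_eq, forall_const]
  exact ⟨fun h => Equiv.ext h, fun h i => by rw [h]⟩

/-- A pointwise test for involutions. -/
def invB (f : Fin 8 → Fin 8) : Bool := powB f 2 && !powB f 1

theorem invB_of {a : P8} (h2 : a * a = 1) (h1 : a ≠ 1) : invB a = true := by
  simp only [invB, Bool.and_eq_true, Bool.not_eq_true']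
  refine ⟨powB_of_pow (by rw [pow_two, h2]), ?_⟩
  rw [Bool.eq_false_iff]
  exact fun h => h1 (eq_one_of_powB h)

theorem conj_even {s a o : P8} (h : IsConj s a) (ho : Equiv.Perm.sign o = -1) (hc : o * s = s * o) :
    ∃ p : P8, Equiv.Perm.sign p = 1 ∧ p * s * p⁻¹ = a := by
  obtain ⟨g, hg⟩ := isConj_iff.1 h
  rcases Int.units_eq_one_or (Equiv.Perm.sign g) with e | e
  · exact ⟨g, e, hg⟩
  · refine ⟨g * o, by rw [map_mul, e, ho]; rfl, ?_⟩
    calc g * o * s * (g * o)⁻¹ = g * (o * s) * (o⁻¹ * g⁻¹) := by group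
      _ = g * (s * o) * (o⁻¹ * g⁻¹) := by rw [hc]
      _ = g * s * g⁻¹ := by group
      _ = a := hg

theorem fix_x1 : fixCount x1 = 4 := by decide +kernel

theorem fix_w8 : fixCount w8 = 0 := by decide +kernel

theorem invol_alt {a : P8} (ha : a ∈ alternatingGroup (Fin 8)) (h2 : a * a = 1) (h1 : a ≠ 1) :
    ((∃ p ∈ alternatingGroup (Fin 8), p * x1 * p⁻¹ = a) ∧ fixCount a = 4) ∨
      ((∃ p ∈ alternatingGroup (Fin 8), p * w8 * p⁻¹ = a) ∧ fixCount a = 0) := by
  haveI : Fact (Nat.Prime 2) := ⟨Nat.prime_two⟩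
  have hs := Equiv.Perm.mem_alternatingGroup.1 ha
  have hsign : ∀ {s : P8}, IsConj s a → Equiv.Perm.sign s = 1 := fun {s} h => by
    obtain ⟨g, rfl⟩ := isConj_iff.1 h
    rw [map_mul, map_mul, mul_comm (Equiv.Perm.sign g), mul_assoc, ← map_mul, mul_inv_cancel, map_one,
      mul_one] at hs
    exact hs
  rcases invol_classes (orderOf_eq_prime (by rw [pow_two, h2]) h1) with h | h | h | h
  · exact absurd (hsign h) (by decide +kernel)
  · left
    have h' : IsConj x1 a :=
      (isConj_iff.2 ⟨sw 2 3 * sw 3 4, by decide +kernel⟩ : IsConj x1 t2).trans h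
    obtain ⟨p, hp, hpe⟩ := conj_even h' (o := sw 4 5) (by decide +kernel) (by decide +kernel)
    exact ⟨⟨p, Equiv.Perm.mem_alternatingGroup.2 hp, hpe⟩, by rw [← hpe, fixCount_conj, fix_x1]⟩
  · exact absurd (hsign h) (by decide +kernel)
  · right
    obtain ⟨p, hp, hpe⟩ := conj_even (show IsConj w8 a from h) (o := sw 3 4) (by decide +kernel)
      (by decide +kernel)
    exact ⟨⟨p, Equiv.Perm.mem_alternatingGroup.2 hp, hpe⟩, by rw [← hpe, fixCount_conj, fix_w8]⟩

theorem ne_one_of_fix {a : P8} {n : ℕ} (h : fixCount a = n) (hn : n ≠ 8) : a ≠ 1 := by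
  rintro rfl
  exact hn (h ▸ (by decide +kernel : fixCount (1 : P8) = 8))

theorem four_cent {a : P8} (hx : Commute a x1) (hy : Commute a y1)
    (h2 : a * a = 1) (h1 : a ≠ 1) (h4 : fixCount a = 4) :
    a = x1 ∨ a = y1 ∨ a = x1 * y1 ∨ (fixCount (a * x1 : P8) = 0 ∧ fixCount (a * y1 : P8) = 0) := by
  have hs : search [x1, y1] (fun f => !(invB f && decide (fixCount f = 4)) || eqB f x1 || eqB f y1 ||
      eqB f (x1 * y1 : P8) ||
      (decide (fixCount (f ∘ x1) = 0) && decide (fixCount (f ∘ y1) = 0))) 8 [] = true := by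
    decide +kernel
  have h := search_sound hs a (by
    intro A hA
    simp only [List.mem_cons, List.not_mem_nil, or_false] at hA
    rcases hA with rfl | rfl
    · exact commute_apply hx
    · exact commute_apply hy)
  simp only [invB_of h2 h1, h4, decide_true, Bool.and_self, Bool.not_true, Bool.false_or,
    Bool.or_eq_true, Bool.and_eq_true, decide_eq_true_eq, eqB_iff] at h
  rcases h with ((h | h) | h) | h
  exacts [Or.inl h, Or.inr (Or.inl h), Or.inr (Or.inr (Or.inl h)), Or.inr (Or.inr (Or.inr h))]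

theorem odd_cent_x1 {a : P8} (h : Commute a x1) (ho : a ^ 105 = 1)
    (he : (a * u0 * a⁻¹ * u0) ^ 105 = 1) : a = 1 := by
  have hs : search [x1] (fun f => !(powB f 105 && powB (commB f u0) 105) || powB f 1) 8 [] = true := by
    decide +kernel
  have := search_sound hs a (by simpa using commute_apply h)
  rw [powB_of_pow ho, commB_eq, powB_of_pow he] at this
  exact eq_one_of_powB (by simpa using this)

def cands : List P8 := [u0, u1, u0 * u1]

theorem cands_facts : ∀ c ∈ cands, Equiv.Perm.sign c = 1 ∧ c * c = 1 ∧ c ≠ 1 ∧ fixCount c = 4 ∧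
    c * x1 = x1 * c := by decide +kernel

theorem cand_exists {a : P8} (hx : Commute a x1) (h2 : a * a = 1) (h1 : a ≠ 1)
    (h4 : fixCount a = 4) (h4' : fixCount (a * x1 : P8) = 4) :
    a = y1 ∨ a = x1 * y1 ∨ ∃ c ∈ cands, c * a = a * c ∧ c ≠ x1 ∧ c ≠ a ∧ c ≠ a * x1 ∧
      (fixCount (c * x1 : P8) = 4 ∨ fixCount (c * a : P8) = 4) := by
  have hs : search [x1] (fun f => !(invB f && decide (fixCount f = 4) && decide (fixCount (f ∘ x1) = 4)) ||
      eqB f y1 || eqB f (x1 * y1 : P8) ||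
      cands.any (fun c => eqB (⇑c ∘ f) (f ∘ ⇑c) && !eqB c x1 && !eqB c f && !eqB c (f ∘ x1) &&
        (decide (fixCount (c * x1 : P8) = 4) || decide (fixCount (⇑c ∘ f) = 4)))) 8 [] = true := by
    decide +kernel
  have h := search_sound hs a (by simpa using commute_apply hx)
  have e1 : (⇑a ∘ ⇑x1) = ⇑(a * x1) := rfl
  have e2 : ∀ c : P8, (⇑c ∘ ⇑a) = ⇑(c * a) ∧ (⇑a ∘ ⇑c) = ⇑(a * c) := fun c => ⟨rfl, rfl⟩
  simp only [e1, (e2 _).1, (e2 _).2, invB_of h2 h1, h4, h4', decide_true, Bool.and_self, Bool.not_true,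
    Bool.false_or, Bool.or_eq_true, Bool.and_eq_true, decide_eq_true_eq, List.any_eq_true, eqB_iff,
    Bool.not_eq_true', Bool.eq_false_iff, ne_eq] at h
  rcases h with (h | h) | ⟨c, hc, ⟨⟨⟨⟨h5, h6⟩, h7⟩, h8⟩, h9⟩⟩
  · exact Or.inl h
  · exact Or.inr (Or.inl h)
  · exact Or.inr (Or.inr ⟨c, hc, h5, h6, h7, h8, h9⟩)

theorem cent_pair {a : P8} (hs8 : Commute a s8) (hw : Commute a w8) (h2 : a * a = 1) (h1 : a ≠ 1)
    (h0 : fixCount a = 0) (h4 : fixCount (a * s8 : P8) = 4) :
    a = w8 ∨ fixCount (a * w8 : P8) = 4 := by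
  have hs : search [s8, w8] (fun f => !(invB f && decide (fixCount f = 0) && decide (fixCount (f ∘ s8) = 4)) ||
      eqB f w8 || decide (fixCount (f ∘ w8) = 4)) 8 [] = true := by
    decide +kernel
  have h := search_sound hs a (by
    intro A hA
    simp only [List.mem_cons, List.not_mem_nil, or_false] at hA
    rcases hA with rfl | rfl
    · exact commute_apply hs8
    · exact commute_apply hw)
  have e : ∀ c : P8, (⇑a ∘ ⇑c) = ⇑(a * c) := fun _ => rfl
  simp only [e, invB_of h2 h1, h0, h4, decide_true, Bool.and_self, Bool.not_true,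
    Bool.false_or, Bool.or_eq_true, decide_eq_true_eq, eqB_iff] at h
  exact h

theorem pairMaps_facts : ∀ p ∈ pairMaps, Equiv.Perm.sign p = 1 ∧ p * w8 = w8 * p := by decide +kernel

theorem cent_w8_class {a : P8} (hw : Commute a w8) (h2 : a * a = 1) (h1 : a ≠ 1)
    (h4 : fixCount a = 4) (h4' : fixCount (a * w8 : P8) = 4) :
    ∃ p ∈ pairMaps, p * s8 * p⁻¹ = a := by
  have hs : search [w8] (fun f => !(invB f && decide (fixCount f = 4) && decide (fixCount (f ∘ w8) = 4)) ||
      pairMaps.any (fun p => eqB (p * s8 * p⁻¹ : P8) f)) 8 [] = true := by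
    decide +kernel
  have h := search_sound hs a (by simpa using commute_apply hw)
  have e : (⇑a ∘ ⇑w8) = ⇑(a * w8) := rfl
  simp only [e, invB_of h2 h1, h4, h4', decide_true, Bool.and_self, Bool.not_true,
    Bool.false_or, List.any_eq_true, eqB_iff] at h
  exact h

end CfsgLib.Recog.AltEight
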