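import Cfsg.Agent.Lib.Recog.AltEight.ZFacts

/-!
Finite facts about the centraliser of the four-group on `{0,1,2,3}`.
-/

set_option autoImplicit false
set_option maxRecDepth 8000

namespace CfsgLib.Recog.AltEight

/-- `(0 2)(1 3)`. -/
def y1 : P8 := sw 0 2 * sw 1 3
/-- `(4 6)(5 7)`. -/
def u1 : P8 := sw 4 6 * sw 5 7

def vList : List P8 := [1, x1, y1, x1 * y1]

def wList : List P8 :=
  [u0, z0 * u0 * z0⁻¹, z0⁻¹ * u0 * z0, sw 3 4 * u0 * (sw 3 4)⁻¹,
    z0 * (sw 3 4 * u0 * (sw 3 4)⁻¹) * z0⁻¹, z0⁻¹ * (sw 3 4 * u0 * (sw 3 4)⁻¹) * z0]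

def list12 : List P8 := vList ++ vList.map (z0 * ·) ++ vList.map (z0 * z0 * ·)

/-- The eightieth power, on codes. -/
def pow80 (c : ℕ) : ℕ :=
  let c2 := comp c c; let c4 := comp c2 c2; let c8 := comp c4 c4; let c16 := comp c8 c8
  let c32 := comp c16 c16; let c64 := comp c32 c32; comp c64 c16

theorem code_pow80 (g : P8) : code (g ^ 80) = pow80 (code g) := by
  simp only [pow80, ← code_mul]
  congr 1

theorem list12_facts : ∀ v ∈ list12, v ∈ zGrp ∧ v * z0 = z0 * v ∧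
    (v * v * v = 1 → v = 1 ∨ v = z0 ∨ v = z0 * z0) ∧
    (code v ∈ vList.map code ∨ pow80 (code v) ≠ one8) ∧
    (v * v * v * v * v * v * v * v * v * v * v * v = 1) ∧
    (v ∈ vList → a0 * v = v * a0 → v = 1) := by
  decide +kernel

theorem cent_v {g : P8} (hg : g ∈ zGrp) (h1 : g * x1 = x1 * g) (h2 : g * y1 = y1 * g) : g ∈ list12 := by
  have := zCheck hg (fun c => comp c (code x1) = comp (code x1) c → comp c (code y1) = comp (code y1) c →
    c ∈ list12.map code) (by decide +kernel)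
  simp only [← code_mul, code_inj, mem_map_code] at this
  exact this h1 h2

theorem fixed_a {q : P8} (hq : q ∈ aGrp) (hc : q * a0 = a0 * q) (h80 : q ^ 80 = 1) :
    q = 1 ∨ q ∈ wList ∨ q * z0 = z0 * q ∨ (q * (z0 * q * z0⁻¹)) ^ 80 ≠ 1 ∨
      (q * q * (z0 * q * z0⁻¹)) ^ 80 ≠ 1 ∨
      ((q * (z0 * q * z0⁻¹)) * (q * (z0 * q * z0⁻¹)) * (z0 * (q * (z0 * q * z0⁻¹)) * z0⁻¹)) ^ 80 ≠ 1 := by
  have h80' : pow80 (code q) = one8 := by rw [← code_pow80, h80]; rfl
  have := aCheck hq (fun c => comp c (code a0) = comp (code a0) c → pow80 c = one8 →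
    c = one8 ∨ c ∈ wList.map code ∨ comp c (code z0) = comp (code z0) c ∨
      pow80 (comp c (comp (comp (code z0) c) (code z0⁻¹))) ≠ one8 ∨
      pow80 (comp (comp c c) (comp (comp (code z0) c) (code z0⁻¹))) ≠ one8 ∨
      pow80 (comp (comp (comp c (comp (comp (code z0) c) (code z0⁻¹))) (comp c (comp (comp (code z0) c) (code z0⁻¹))))
        (comp (comp (code z0) (comp c (comp (comp (code z0) c) (code z0⁻¹)))) (code z0⁻¹))) ≠ one8) (by decide +kernel)
  simp only [← code_mul, ← code_pow80, one8, code_inj, mem_map_code, ne_eq] at this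
  exact this hc h80

end CfsgLib.Recog.AltEight
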