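import Mathlib.GroupTheory.Sylow
import Mathlib.GroupTheory.SpecificGroups.Cyclic
import Mathlib.Tactic

/-!
Small local lemmas: an element of order `p` generating a Sylow subgroup, and commuting involutions.
-/

set_option autoImplicit false

namespace CfsgLib.Recog.AltEight

open Subgroup

variable {G : Type*} [Group G]

theorem mem_normalizer_zpowers_of_conj [Finite G] {x g : G} (h : g * x * g⁻¹ ∈ zpowers x) :
    g ∈ normalizer (zpowers x : Set G) := by
  have hmap : (zpowers x).map (MulAut.conj g).toMonoidHom = zpowers x :=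
    Subgroup.eq_of_le_of_card_ge (by rw [MonoidHom.map_zpowers]; exact zpowers_le.2 h)
      (le_of_eq (Nat.card_congr (equivMapOfInjective _ _ (MulAut.conj g).injective).toEquiv))
  refine mem_normalizer_iff.2 fun t => ⟨fun ht => hmap ▸ ⟨t, ht, rfl⟩, fun ht => ?_⟩
  rw [← hmap] at ht
  obtain ⟨s, hs, e⟩ := ht
  simp only [MulEquiv.coe_toMonoidHom, MulAut.conj_apply] at e
  rwa [← mul_left_cancel (mul_right_cancel e)]

theorem conj_mem_zpowers_of_mem_normalizer {x g : G} (h : g ∈ normalizer (zpowers x : Set G)) :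
    g * x * g⁻¹ ∈ zpowers x :=
  (mem_normalizer_iff.1 h x).1 (mem_zpowers x)

theorem mem_normalizer_zpowers_of_commute [Finite G] {x g : G} (h : Commute g x) :
    g ∈ normalizer (zpowers x : Set G) :=
  mem_normalizer_zpowers_of_conj (by rw [h.eq, mul_inv_cancel_right]; exact mem_zpowers x)

theorem zpowers_pow_card {p : ℕ} {x t : G} (ho : orderOf x = p) (ht : t ∈ zpowers x) : t ^ p = 1 := by
  obtain ⟨k, rfl⟩ := mem_zpowers_iff.1 ht
  rw [← zpow_natCast, ← zpow_mul, mul_comm, zpow_mul, zpow_natCast, ← ho, pow_orderOf_eq_one, one_zpow]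

/-- If every `p`-element of `C` normalising `⟨x⟩` lies in it, then `⟨x⟩` is a Sylow subgroup of `C`. -/
theorem exists_sylow_eq_zpowers [Finite G] {p : ℕ} [hp : Fact p.Prime] {C : Subgroup G} {x : G} (hx : x ∈ C)
    (ho : orderOf x = p)
    (h : ∀ t ∈ C, t * x * t⁻¹ ∈ zpowers x → t ^ (p * p) = 1 → t ∈ zpowers x) :
    ∃ R : Sylow p C, (R : Subgroup C) = zpowers (⟨x, hx⟩ : C) := by
  set X := zpowers (⟨x, hx⟩ : C) with hX
  have hcard : Nat.card X = p ^ 1 := by rw [hX, Nat.card_zpowers, Subgroup.orderOf_mk, ho, pow_one]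
  have hnd : ¬ p ^ (1 + 1) ∣ Nat.card C := by
    intro hd
    haveI : (X.comap (normalizer (X : Set C)).subtype).Normal := Subgroup.normal_in_normalizer
    have h2 := Sylow.prime_dvd_card_quotient_normalizer hd hcard
    obtain ⟨q, hq⟩ := exists_prime_orderOf_dvd_card' p h2
    obtain ⟨t, rfl⟩ := QuotientGroup.mk_surjective q
    -- the `p`-part of `t`
    have htp : (t : C) ^ p ∈ X := by
      have : (QuotientGroup.mk (t ^ p) : normalizer (X : Set C) ⧸ X.comap (normalizer (X : Set C)).subtype) = 1 := by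
        rw [QuotientGroup.mk_pow, ← hq, pow_orderOf_eq_one]
      have h' := (QuotientGroup.eq_one_iff (t ^ p)).1 this
      exact h'
    have htpp : ((t : C) : G) ^ (p * p) = 1 := by
      obtain ⟨k, hk⟩ := htp
      have hk' : x ^ k = ((t : C) : G) ^ p := by simpa using congrArg Subtype.val hk
      rw [pow_mul, ← hk']
      exact zpowers_pow_card ho (zpow_mem (mem_zpowers x) k)
    have hconj : ((t : C) : G) * x * ((t : C) : G)⁻¹ ∈ zpowers x := by
      obtain ⟨k, hk⟩ := (mem_normalizer_iff.1 t.2 ⟨x, hx⟩).1 (mem_zpowers _)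
      exact ⟨k, by simpa using congrArg Subtype.val hk⟩
    obtain ⟨k, hk⟩ := h _ (t : C).2 hconj htpp
    have ht : (t : C) ∈ X := ⟨k, Subtype.ext (by simpa using hk)⟩
    have : (QuotientGroup.mk t : normalizer (X : Set C) ⧸ X.comap (normalizer (X : Set C)).subtype) = 1 :=
      (QuotientGroup.eq_one_iff _).2 ht
    rw [this, orderOf_one] at hq
    exact hp.out.ne_one hq.symm
  have hd : p ∣ Nat.card C := by
    have := Subgroup.card_subgroup_dvd_card X
    rwa [hcard, pow_one] at this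
  have hf : (Nat.card C).factorization p = 1 := by
    have h1 := hp.out.factorization_pos_of_dvd Nat.card_pos.ne' hd
    have h2 : ¬ 2 ≤ (Nat.card C).factorization p := fun h2 =>
      hnd ((hp.out.pow_dvd_iff_le_factorization Nat.card_pos.ne').2 h2)
    omega
  exact ⟨Sylow.ofCard X (by rw [hf, hcard]), Sylow.coe_ofCard _ _⟩

/-- An element of order `p` of `C` is conjugate in `C` into the Sylow subgroup `⟨x⟩`. -/
theorem exists_conj_mem_zpowers [Finite G] {p : ℕ} [Fact p.Prime] {C : Subgroup G} {x : G} (hx : x ∈ C)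
    {R : Sylow p C} (hR : (R : Subgroup C) = zpowers (⟨x, hx⟩ : C)) {y : G} (hy : y ∈ C) (hyp : y ^ p = 1) :
    ∃ g ∈ C, g * y * g⁻¹ ∈ zpowers x := by
  have hY : IsPGroup p (zpowers (⟨y, hy⟩ : C)) := fun t => ⟨1, Subtype.ext (by
    obtain ⟨k, hk⟩ := t.2
    rw [pow_one, Subgroup.coe_pow, ← hk]
    refine Subtype.ext ?_
    simp only [Subgroup.coe_pow, Subgroup.coe_zpow, Subgroup.coe_one]
    rw [← zpow_natCast, ← zpow_mul, mul_comm, zpow_mul, zpow_natCast, hyp, one_zpow])⟩
  obtain ⟨Q, hQ⟩ := hY.exists_le_sylow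
  obtain ⟨g, hg⟩ := MulAction.exists_smul_eq C Q R
  refine ⟨g, g.2, ?_⟩
  have : g * ⟨y, hy⟩ * g⁻¹ ∈ (R : Subgroup C) := by
    rw [← hg, Sylow.coe_subgroup_smul]
    exact ⟨⟨y, hy⟩, hQ (mem_zpowers _), rfl⟩
  rw [hR] at this
  obtain ⟨k, hk⟩ := this
  exact ⟨k, by simpa using congrArg Subtype.val hk⟩

/-- Two involutions which are not conjugate commute with a common involution in the group they generate. -/
theorem exists_commuting_involution [Finite G] {x v : G} (hx : orderOf x = 2) (hv : orderOf v = 2)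
    (hne : ¬ IsConj x v) : ∃ j : G, orderOf j = 2 ∧ Commute j x ∧ Commute j v ∧ j ∈ zpowers (x * v) := by
  set r := x * v with hr
  have hx2 : x * x = 1 := by rw [← pow_two, ← hx, pow_orderOf_eq_one]
  have hv2 : v * v = 1 := by rw [← pow_two, ← hv, pow_orderOf_eq_one]
  have hxi : x⁻¹ = x := inv_eq_of_mul_eq_one_right hx2
  have hvi : v⁻¹ = v := inv_eq_of_mul_eq_one_right hv2
  have hrinv : x * r * x⁻¹ = r⁻¹ := by
    rw [hr, mul_inv_rev, hxi, hvi, ← mul_assoc, hx2, one_mul]
  rcases Nat.even_or_odd' (orderOf r) with ⟨k, hk | hk⟩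
  · have hk0 : 0 < k := by have := orderOf_pos r; omega
    have hj : orderOf (r ^ k) = 2 := by
      rw [orderOf_pow' r hk0.ne', hk, Nat.gcd_mul_left_left, Nat.mul_div_cancel _ hk0]
    have hji : (r ^ k)⁻¹ = r ^ k := inv_eq_of_mul_eq_one_right (by rw [← pow_two, ← hj, pow_orderOf_eq_one])
    have hcx : Commute (r ^ k) x := by
      have : x * r ^ k * x⁻¹ = r ^ k := by rw [← conj_pow, hrinv, inv_pow, hji]
      exact (mul_inv_eq_iff_eq_mul.1 this).symm
    refine ⟨r ^ k, hj, hcx, ?_, pow_mem (mem_zpowers r) k⟩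
    have hv' : v = x * r := by rw [hr, ← mul_assoc, hx2, one_mul]
    rw [hv']
    exact hcx.mul_right ((Commute.refl r).pow_left k)
  · exfalso
    refine hne (isConj_iff.2 ⟨r ^ k * x, ?_⟩)
    -- `r^k x (r^k x)⁻¹ = r^{2k} x = r⁻¹ x`
    have e1 : x * (r ^ k)⁻¹ = r ^ k * x := by
      have : x * (r ^ k)⁻¹ * x⁻¹ = r ^ k := by rw [← inv_pow, ← conj_pow, show x * r⁻¹ * x⁻¹ = (x * r * x⁻¹)⁻¹ by group, hrinv, inv_inv]
      exact mul_inv_eq_iff_eq_mul.1 this
    have e2 : r ^ k * r ^ k = r⁻¹ := by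
      refine eq_inv_of_mul_eq_one_left ?_
      rw [← pow_add, ← pow_succ, show k + k + 1 = orderOf r by omega, pow_orderOf_eq_one]
    calc r ^ k * x * x * (r ^ k * x)⁻¹ = r ^ k * (x * (x * x⁻¹ * (r ^ k)⁻¹)) := by group
      _ = r ^ k * (x * (r ^ k)⁻¹) := by simp
      _ = r⁻¹ * x := by rw [e1, ← mul_assoc, e2]
      _ = v := by rw [hr, mul_inv_rev, hvi, hxi, mul_assoc, hx2, mul_one]

end CfsgLib.Recog.AltEight
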