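import Cfsg.Agent.Lib.Recog.AltEight.Setup
import Cfsg.Agent.Lib.Recog.AltEight.GoodFacts
import Cfsg.Agent.Lib.Recog.AltEight.Local
import Cfsg.Agent.Lib.Transfer.Frobenius
import Cfsg.Agent.Lib.Comp.Signalizer

/-!
The centraliser of the four-group `V = φ {(0 1)(2 3), (0 2)(1 3)}`.
-/

set_option autoImplicit false
set_option linter.unusedSectionVars false

namespace CfsgLib.Recog.AltEight

open Subgroup

variable {G : Type*} [Group G] [Finite G] {P : Sylow 3 G} {φ ψ : P8 → G}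

/-- The extra commutation that glues the two normalisers together. -/
def Link (φ ψ : P8 → G) : Prop :=
  Commute (φ x1) (ψ u0) ∧ Commute (φ y1) (ψ u0) ∧ Commute (φ x1) (ψ u1) ∧ Commute (φ y1) (ψ u1)

/-- The centraliser of `V`. -/
def centV (φ : P8 → G) : Subgroup G := centralizer ({φ x1, φ y1} : Set G)

theorem mem_centV {t : G} : t ∈ centV φ ↔ t * φ x1 = φ x1 * t ∧ t * φ y1 = φ y1 * t := by
  rw [centV, mem_centralizer_iff]
  exact ⟨fun h => ⟨(h _ (Or.inl rfl)).symm, (h _ (Or.inr rfl)).symm⟩,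
    fun ⟨h1, h2⟩ s hs => by rcases hs with rfl | rfl <;> [exact h1.symm; exact h2.symm]⟩

theorem conj_mem_centV {n x : G} (hx : x ∈ centV φ) (h1 : n⁻¹ * φ x1 * n ∈ closure ({φ x1, φ y1} : Set G))
    (h2 : n⁻¹ * φ y1 * n ∈ closure ({φ x1, φ y1} : Set G)) : n * x * n⁻¹ ∈ centV φ := by
  have hc : ∀ s ∈ closure ({φ x1, φ y1} : Set G), x * s = s * x := by
    intro s hs
    rw [centV, ← centralizer_closure, mem_centralizer_iff] at hx
    exact (hx s hs).symm
  rw [mem_centV]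
  constructor
  · calc n * x * n⁻¹ * φ x1 = n * (x * (n⁻¹ * φ x1 * n)) * n⁻¹ := by group
      _ = n * ((n⁻¹ * φ x1 * n) * x) * n⁻¹ := by rw [hc _ h1]
      _ = φ x1 * (n * x * n⁻¹) := by group
  · calc n * x * n⁻¹ * φ y1 = n * (x * (n⁻¹ * φ y1 * n)) * n⁻¹ := by group
      _ = n * ((n⁻¹ * φ y1 * n) * x) * n⁻¹ := by rw [hc _ h2]
      _ = φ y1 * (n * x * n⁻¹) := by group

theorem Data.centV_cases (d : Data P φ ψ) :
    (Link φ ψ ∨ Link φ (fun g => ψ (sw 3 4 * g * (sw 3 4)⁻¹))) ∨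
      ∀ t ∈ centV φ, ∃ v ∈ list12, φ v = t := by
  classical
  haveI : Fact (Nat.Prime 3) := ⟨Nat.prime_three⟩
  obtain ⟨⟨mz, ma, m1, m2, m4, m5⟩, nz, na, n2, n3, n4, n5, n0⟩ := basic_mem
  have my : y1 ∈ zGrp := by decide +kernel
  set C := centV φ with hC
  set Z := φ z0 with hZ
  set A := φ a0 with hA
  have hZ3 : Z ^ 3 = 1 := by rw [hZ, ← d.hφ.map_pow mz, show z0 ^ 3 = 1 by decide +kernel, d.hφ.map_one]
  have hA3 : A ^ 3 = 1 := by rw [hA, ← d.hφ.map_pow ma, show a0 ^ 3 = 1 by decide +kernel, d.hφ.map_one]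
  -- the part normalising `⟨Z⟩`
  have hCz : ∀ t ∈ C, t ∈ normalizer (zpowers Z : Set G) → ∃ v ∈ list12, φ v = t := by
    intro t ht htN
    obtain ⟨q, hq, rfl⟩ := d.hφ.surj t htN
    obtain ⟨h1, h2⟩ := mem_centV.1 ht
    refine ⟨q, ?_, rfl⟩
    exact cent_v hq ((d.hφ.commute_iff hq m1).1 h1) ((d.hφ.commute_iff hq my).1 h2)
  have hZC : Z ∈ C := mem_centV.2 ⟨d.hφ.commute mz m1 (by decide +kernel), d.hφ.commute mz my (by decide +kernel)⟩
  -- the Sylow three-subgroup
  have hZo : orderOf Z = 3 := by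
    rw [hZ, d.hφ.orderOf_eq mz]; exact orderOf_eq_prime (by decide +kernel) (by decide +kernel)
  obtain ⟨R, hReq⟩ := exists_sylow_eq_zpowers (C := C) hZC hZo (by
    intro t ht hconj h9
    obtain ⟨v, hv, rfl⟩ := hCz t ht (mem_normalizer_zpowers_of_conj hconj)
    obtain ⟨hvm, -, hv3, -, hv12, -⟩ := list12_facts v hv
    have h3 : v ^ 3 = 1 := by
      rw [← d.hφ.map_pow hvm, d.hφ.eq_one_iff (zGrp.pow_mem hvm _)] at h9
      have h12 : v ^ 12 = 1 := by simpa [pow_succ] using hv12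
      have := pow_gcd_eq_one.2 ⟨h9, h12⟩
      simpa using this
    rcases hv3 (by simpa [pow_succ] using h3) with rfl | rfl | rfl
    · rw [d.hφ.map_one]; exact one_mem _
    · exact mem_zpowers _
    · rw [d.hφ.mul _ mz _ mz]; exact mul_mem (mem_zpowers _) (mem_zpowers _))
  obtain ⟨R', K, hK, hKR⟩ := CfsgLib.Transfer.hasNormalPComplement_of_normalizer_le_centralizer R (by
    intro t ht
    have hconj : (t : G) * Z * (t : G)⁻¹ ∈ zpowers Z := by
      have h := (mem_normalizer_iff.1 ht ⟨Z, hZC⟩).1 (hReq ▸ mem_zpowers _)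
      rw [hReq] at h
      obtain ⟨k, hk⟩ := h
      exact ⟨k, by simpa using congrArg Subtype.val hk⟩
    obtain ⟨v, hv, hve⟩ := hCz _ t.2 (mem_normalizer_zpowers_of_conj hconj)
    obtain ⟨hvm, hvz, -, -, -, -⟩ := list12_facts v hv
    refine mem_centralizer_iff.2 fun s hs => ?_
    rw [hReq] at hs
    obtain ⟨k, rfl⟩ := hs
    apply Subtype.ext
    have hc : Commute Z (t : G) := hve ▸ d.hφ.commute mz hvm hvz.symm
    simpa using (hc.zpow_left k).eq)
  have hRc : Nat.card (R' : Subgroup C) = 3 := by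
    rw [(Nat.card_congr (R'.equiv R).toEquiv), hReq, Nat.card_zpowers, Subgroup.orderOf_mk, hZo]
  have hKi : K.index = 3 := hKR.symm.index_eq_card.trans hRc
  have hKcop : ¬ 3 ∣ Nat.card K := by
    rw [← hKR.index_eq_card]
    exact R'.not_dvd_index
  let M : Subgroup G := K.map C.subtype
  have hMC : M ≤ C := map_subtype_le K
  have hM3 : ¬ 3 ∣ Nat.card M := by
    rwa [Nat.card_congr (equivMapOfInjective K _ C.subtype_injective).toEquiv.symm]
  have hMmem : ∀ t ∈ C, (∃ n, ¬ 3 ∣ n ∧ t ^ n = 1) → t ∈ M := by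
    rintro t ht ⟨n, hn, hpow⟩
    refine ⟨⟨t, ht⟩, ?_, rfl⟩
    show (⟨t, ht⟩ : C) ∈ K
    rw [← QuotientGroup.eq_one_iff (N := K), ← orderOf_eq_one_iff]
    refine Nat.eq_one_of_dvd_coprimes (a := n) (b := 3) ?_ ?_ ?_
    · exact ((Nat.prime_three.coprime_iff_not_dvd).2 hn).symm
    · refine orderOf_dvd_of_pow_eq_one ?_
      rw [← QuotientGroup.mk_pow, show (⟨t, ht⟩ : C) ^ n = 1 from Subtype.ext (by simpa using hpow)]
      rfl
    · rw [← hKi, index_eq_card]; exact orderOf_dvd_natCard _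
  have hMorder : ∀ t ∈ M, ¬ 3 ∣ orderOf t := fun t ht h => hM3 (h.trans (by
    have := orderOf_dvd_natCard (⟨t, ht⟩ : M)
    rwa [Subgroup.orderOf_mk] at this))
  have hVcl : ∀ v ∈ vList, v ∈ zGrp ∧ φ v ∈ closure ({φ x1, φ y1} : Set G) := by
    intro v hv
    simp only [vList, List.mem_cons, List.not_mem_nil, or_false] at hv
    rcases hv with rfl | rfl | rfl | rfl
    · exact ⟨one_mem _, by rw [d.hφ.map_one]; exact one_mem _⟩
    · exact ⟨m1, subset_closure (by simp)⟩
    · exact ⟨my, subset_closure (by simp)⟩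
    · exact ⟨mul_mem m1 my, by
        rw [d.hφ.mul _ m1 _ my]; exact mul_mem (subset_closure (by simp)) (subset_closure (by simp))⟩
  have hnorm : ∀ p ∈ zGrp, (p⁻¹ * x1 * p ∈ vList) → (p⁻¹ * y1 * p ∈ vList) →
      ∀ t ∈ M, φ p * t * (φ p)⁻¹ ∈ M := by
    intro p hp h1 h2 t ht
    refine hMmem _ ?_ ⟨orderOf t, hMorder t ht, ?_⟩
    · refine conj_mem_centV (hMC ht) ?_ ?_
      · rw [show (φ p)⁻¹ * φ x1 * φ p = φ (p⁻¹ * x1 * p) by
          rw [d.hφ.mul _ (mul_mem (inv_mem hp) m1) _ hp, d.hφ.mul _ (inv_mem hp) _ m1, d.hφ.map_inv hp]]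
        exact (hVcl _ h1).2
      · rw [show (φ p)⁻¹ * φ y1 * φ p = φ (p⁻¹ * y1 * p) by
          rw [d.hφ.mul _ (mul_mem (inv_mem hp) my) _ hp, d.hφ.mul _ (inv_mem hp) _ my, d.hφ.map_inv hp]]
        exact (hVcl _ h2).2
    · rw [conj_pow, pow_orderOf_eq_one]; simp
  set Dp : Subgroup G := (P : Subgroup G) with hDp
  have hnine : ∀ s ∈ Dp, ∃ q ∈ nine, φ q = s := by
    have h9 : ∀ q ∈ nine, q ∈ zGrp := by decide +kernel
    intro s hs
    rw [hDp, d.hD] at hs
    induction hs using Subgroup.closure_induction with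
    | mem s hs =>
      rcases hs with rfl | rfl
      · exact ⟨z0, by decide, rfl⟩
      · exact ⟨a0, by decide, rfl⟩
    | one => exact ⟨1, by decide, d.hφ.map_one⟩
    | mul s t _ _ hs ht =>
      obtain ⟨q, hq, rfl⟩ := hs
      obtain ⟨r, hr, rfl⟩ := ht
      have hclosed : ∀ q ∈ nine, ∀ r ∈ nine, q * r ∈ nine := by decide +kernel
      exact ⟨q * r, hclosed q hq r hr, d.hφ.mul _ (h9 q hq) _ (h9 r hr)⟩
    | inv s _ hs =>
      obtain ⟨q, hq, rfl⟩ := hs
      have hclosed : ∀ q ∈ nine, q⁻¹ ∈ nine := by decide +kernel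
      exact ⟨q⁻¹, hclosed q hq, d.hφ.map_inv (h9 q hq)⟩
  have hnineN : ∀ q ∈ nine, q ∈ zGrp ∧ q⁻¹ * x1 * q ∈ vList ∧ q⁻¹ * y1 * q ∈ vList := by decide +kernel
  have hDM : Dp ≤ normalizer (M : Set G) := CfsgLib.Comp.le_normalizer_of_conj_mem fun s hs t ht => by
    obtain ⟨q, hq, rfl⟩ := hnine s hs
    obtain ⟨hqm, h1, h2⟩ := hnineN q hq
    exact hnorm q hqm h1 h2 t ht
  have hDea : Cfsg.IsElementaryAbelian 3 Dp := by
    have hc : ∀ q ∈ nine, q ^ 3 = 1 ∧ ∀ r ∈ nine, q * r = r * q := by decide +kernel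
    refine ⟨⟨⟨fun s t => Subtype.ext ?_⟩⟩, fun s hs => ?_⟩
    · obtain ⟨q, hq, hqs⟩ := hnine s s.2
      obtain ⟨r, hr, hrt⟩ := hnine t t.2
      show (s : G) * t = t * s
      rw [← hqs, ← hrt]
      exact (d.hφ.commute (hnineN q hq).1 (hnineN r hr).1 ((hc q hq).2 r hr)).eq
    · obtain ⟨q, hq, rfl⟩ := hnine s hs
      rw [← d.hφ.map_pow (hnineN q hq).1, (hc q hq).1, d.hφ.map_one]
  have hMgen := CfsgLib.Comp.eq_iSup_centralizer_hyperplane hDea
    (fun e => by have := d.card9; rw [← hDp, e, Subgroup.card_bot] at this; omega) hM3 hDM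
  -- fixed points of the elements of `D`
  have hMy : ∀ t ∈ M, ∀ c ∈ normalizer (Dp : Set G),
      c * t * c⁻¹ ∈ centralizer ({Z * A} : Set G) → t = 1 := by
    intro t ht c hc hcen
    have htN : t ∈ normalizer (Dp : Set G) := by
      have := mul_mem (mul_mem (inv_mem hc) (d.cyNorm hcen)) hc
      simpa [mul_assoc] using this
    have htC : t ∈ centralizer (Dp : Set G) := by
      refine mem_centralizer_iff.2 fun s hs => ?_
      have h1 : s * t * s⁻¹ * t⁻¹ ∈ M :=
        mul_mem (CfsgLib.Comp.conj_mem_of_le_normalizer hDM s hs t ht) (inv_mem ht)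
      have h2 : s * t * s⁻¹ * t⁻¹ ∈ Dp := by
        rw [show s * t * s⁻¹ * t⁻¹ = s * (t * s⁻¹ * t⁻¹) by group]
        exact mul_mem hs ((mem_normalizer_iff.1 htN s⁻¹).1 (inv_mem hs))
      have h3 : s * t * s⁻¹ * t⁻¹ = 1 := by
        obtain ⟨q, hq, hqe⟩ := hnine _ h2
        have := hMorder _ h1
        by_contra hne
        refine this ?_
        rw [orderOf_eq_prime (p := 3) (hDea.2 _ h2) hne]
      exact (commutatorElement_eq_one_iff_mul_comm.1 (by rwa [commutatorElement_def]))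
    rw [d.selfCent] at htC
    by_contra hne
    exact hMorder t ht (by rw [orderOf_eq_prime (p := 3) (hDea.2 _ htC) hne])
  have hexpZ : ∀ q ∈ zGrp, q ^ 720 = 1 := by
    intro q hq
    obtain ⟨u, -, rfl⟩ := mem_zGrp_iff.1 hq
    have h : u ^ 720 = 1 := by
      have := pow_card_eq_one' (x := u)
      rwa [Nat.card_prod, Nat.card_perm, Nat.card_perm, Nat.card_eq_fintype_card, Nat.card_eq_fintype_card,
        Fintype.card_fin, Fintype.card_fin, show Nat.factorial 3 * Nat.factorial 5 = 720 by decide] at this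
    rw [← map_pow, h, map_one]
  have h80 : ∀ (f : P8 → G) (S : Subgroup P8) (N : Subgroup G), Chart f S N → ∀ q ∈ S,
      q ^ 720 = 1 → f q ∈ M → q ^ 80 = 1 := by
    intro f S N hf q hq h720 hqM
    have h3 := hMorder _ hqM
    rw [hf.orderOf_eq hq] at h3
    have hd : orderOf q ∣ 9 * 80 := orderOf_dvd_of_pow_eq_one h720
    have hcop : (orderOf q).Coprime 9 := by
      rw [show (9 : ℕ) = 3 ^ 2 by norm_num]
      exact Nat.Coprime.pow_right _ ((Nat.prime_three.coprime_iff_not_dvd).2 h3).symm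
    exact orderOf_dvd_iff_pow_eq_one.1 (hcop.dvd_of_dvd_mul_left hd)
  have hZV : ∀ t ∈ M, Commute Z t → ∃ v ∈ vList, φ v = t := by
    intro t ht hcom
    have htN : t ∈ normalizer (zpowers Z : Set G) := centralizer_le_normalizer _ (by
      rw [mem_centralizer_iff]
      rintro s ⟨k, rfl⟩
      exact (hcom.zpow_left k).eq)
    obtain ⟨v, hv, rfl⟩ := hCz t (hMC ht) htN
    obtain ⟨hvm, -, -, hv80, -, -⟩ := list12_facts v hv
    refine ⟨v, mem_map_code.1 (hv80.resolve_right fun hne => hne ?_), rfl⟩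
    rw [← code_pow80, h80 φ zGrp _ d.hφ v hvm (hexpZ v hvm) ht]; rfl
  by_cases hQ : ∀ t ∈ M, Commute A t → t = 1
  · right
    have hMV : M ≤ closure ({φ x1, φ y1} : Set G) := by
      rw [hMgen]
      refine iSup_le fun B => ?_
      obtain ⟨B, hBD, hBi⟩ := B
      have hB3 : Nat.card B = 3 := by
        have h1 := relIndex_mul_relIndex ⊥ B Dp bot_le hBD
        rw [relIndex_bot_left, relIndex_bot_left, hBi, hDp, d.card9] at h1
        omega
      haveI : Nontrivial B := Finite.one_lt_card_iff_nontrivial.1 (by omega)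
      obtain ⟨⟨b, hb⟩, hb1⟩ := exists_ne (1 : B)
      obtain ⟨q, hq, hqb⟩ := hnine b (hBD hb)
      intro t ht
      obtain ⟨htM, htB⟩ := mem_inf.1 ht
      have hcom : Commute b t := mem_centralizer_iff.1 htB b hb
      have hqm := (hnineN q hq).1
      have hq1 : q ≠ 1 := fun e => hb1 (Subtype.ext (hqb.symm.trans (by rw [e, d.hφ.map_one]; rfl)))
      have hcl : ∀ q ∈ nine, q ≠ 1 → (q = z0 ∨ q = z0 * z0) ∨ (q = a0 ∨ q = a0 * a0) ∨
          (q = z0 * a0 ∨ x2 * q * x2⁻¹ = z0 * a0 ∨ x4 * q * x4⁻¹ = z0 * a0 ∨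
          (x2 * x4) * q * (x2 * x4)⁻¹ = z0 * a0) := by decide +kernel
      have hsq : ∀ {x : G}, x ^ 3 = 1 → Commute (x * x) t → Commute x t := by
        intro x hx h
        have e : x = (x * x) * (x * x) := by
          calc x = x ^ 3 * x := by rw [hx, one_mul]
            _ = _ := by simp [pow_succ, mul_assoc]
        exact e.symm ▸ h.mul_left h
      rcases hcl q hq hq1 with (e | e) | (e | e) | e
      · obtain ⟨v, hv, rfl⟩ := hZV t htM (by rw [hZ, ← e, hqb]; exact hcom)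
        exact (hVcl v hv).2
      · obtain ⟨v, hv, rfl⟩ := hZV t htM (hsq hZ3 (by rw [hZ, ← d.hφ.mul _ mz _ mz, ← e, hqb]; exact hcom))
        exact (hVcl v hv).2
      · rw [hQ t htM (by rw [hA, ← e, hqb]; exact hcom)]; exact one_mem _
      · rw [hQ t htM (hsq hA3 (by rw [hA, ← d.hφ.mul _ ma _ ma, ← e, hqb]; exact hcom))]; exact one_mem _
      · obtain ⟨p, hp, hpn, hpe⟩ : ∃ p ∈ zGrp, φ p ∈ normalizer (Dp : Set G) ∧ p * q * p⁻¹ = z0 * a0 := by
          have hp : ∀ p ∈ [(1 : P8), x2, x4, x2 * x4], p ∈ zGrp ∧ p⁻¹ ∈ zGrp ∧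
              ∀ r ∈ nine, p * r * p⁻¹ ∈ nine ∧ p⁻¹ * r * p ∈ nine := by decide +kernel
          have hN : ∀ p ∈ [(1 : P8), x2, x4, x2 * x4], φ p ∈ normalizer (Dp : Set G) := by
            intro p hpl
            obtain ⟨hpm, -, hpr⟩ := hp p hpl
            have h9 : ∀ q ∈ nine, φ q ∈ Dp := by
              intro r hr
              rw [hDp, d.hD]
              have : ∀ r ∈ nine, ∃ i j : Fin 3, r = z0 ^ (i : ℕ) * a0 ^ (j : ℕ) := by decide +kernel
              obtain ⟨i, j, rfl⟩ := this r hr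
              rw [d.hφ.mul _ (zGrp.pow_mem mz _) _ (zGrp.pow_mem ma _), d.hφ.map_pow mz, d.hφ.map_pow ma]
              exact mul_mem (pow_mem (subset_closure (by simp)) _) (pow_mem (subset_closure (by simp)) _)
            refine mem_normalizer_iff.2 fun s => ⟨fun hs => ?_, fun hs => ?_⟩
            · obtain ⟨r, hr, rfl⟩ := hnine s hs
              rw [← d.hφ.map_conj hpm (hnineN r hr).1]; exact h9 _ (hpr r hr).1
            · obtain ⟨r, hr, hre⟩ := hnine _ hs
              have : s = (φ p)⁻¹ * φ r * φ p := by rw [hre]; group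
              rw [this, ← d.hφ.map_inv hpm, ← d.hφ.mul _ (inv_mem hpm) _ (hnineN r hr).1,
                ← d.hφ.mul _ (mul_mem (inv_mem hpm) (hnineN r hr).1) _ hpm]
              exact h9 _ (hpr r hr).2
          rcases e with e | e | e | e
          · exact ⟨1, one_mem _, hN 1 (by simp), by rw [e]; group⟩
          · exact ⟨x2, m2, hN _ (by simp), e⟩
          · exact ⟨x4, m4, hN _ (by simp), e⟩
          · exact ⟨x2 * x4, mul_mem m2 m4, hN _ (by simp), e⟩
        rw [hMy t htM (φ p) hpn ?_]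
        · exact one_mem _
        rw [mem_centralizer_singleton_iff, hZ, hA, ← d.hφ.mul _ mz _ ma, ← hpe, d.hφ.map_conj hp hqm, hqb]
        calc φ p * t * (φ p)⁻¹ * (φ p * b * (φ p)⁻¹) = φ p * (t * b) * (φ p)⁻¹ := by group
          _ = φ p * (b * t) * (φ p)⁻¹ := by rw [hcom.eq]
          _ = _ := by group
    intro t ht
    have htN : t ∈ normalizer (zpowers Z : Set G) := by
      have hZN : Z ∈ normalizer (zpowers Z : Set G) := le_normalizer (mem_zpowers Z)
      have hVN : closure ({φ x1, φ y1} : Set G) ≤ normalizer (zpowers Z : Set G) := by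
        rw [closure_le]
        rintro s (rfl | rfl)
        · exact d.hφ.mem _ m1
        · exact d.hφ.mem _ my
      have htop : zpowers (⟨Z, hZC⟩ : C) ⊔ K = ⊤ := by
        set U := zpowers (⟨Z, hZC⟩ : C) ⊔ K
        have hle : K ≤ U := le_sup_right
        have hd : U.index ∣ 3 := hKi ▸ index_dvd_of_le hle
        rcases (Nat.dvd_prime Nat.prime_three).1 hd with e | e
        · exact index_eq_one.1 e
        · exfalso
          have hr : K.relIndex U = 1 := by
            have h := relIndex_mul_index hle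
            rw [e, hKi] at h
            omega
          have hZK : (⟨Z, hZC⟩ : C) ∈ K := relIndex_eq_one.1 hr (le_sup_left (a := zpowers _) (mem_zpowers _))
          refine hMorder Z ⟨_, hZK, rfl⟩ ?_
          rw [hZo]
      have hle : C ≤ normalizer (zpowers Z : Set G) := by
        calc C = (⊤ : Subgroup C).map C.subtype := by rw [← MonoidHom.range_eq_map, range_subtype]
          _ = (zpowers (⟨Z, hZC⟩ : C)).map C.subtype ⊔ M := by rw [← htop, Subgroup.map_sup]
          _ ≤ _ := sup_le (by rw [MonoidHom.map_zpowers]; exact zpowers_le.2 hZN) (hMV.trans hVN)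
      exact hle ht
    obtain ⟨v, hv, hve⟩ := hCz t ht htN
    exact ⟨v, hv, hve⟩
  · left
    push Not at hQ
    obtain ⟨t, htM, htA, ht1⟩ := hQ
    have htN : t ∈ normalizer (zpowers A : Set G) := centralizer_le_normalizer _ (by
      rw [mem_centralizer_iff]
      rintro s ⟨k, rfl⟩
      exact (htA.zpow_left k).eq)
    obtain ⟨q, hq, rfl⟩ := d.hψ.surj t htN
    have hqa : q * a0 = a0 * q := (d.hψ.commute_iff hq na).1 (by rw [d.ψa]; exact htA.eq.symm)
    have hexpA : ∀ q ∈ aGrp, q ^ 720 = 1 := fun q hq => by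
      have := hexpZ _ (conj_rho_mem.1 hq)
      rwa [show rho * q * rho = rho * q * rho⁻¹ by rw [rho_inv], conj_pow, conj_eq_one_iff] at this
    have hq80 := h80 ψ aGrp _ d.hψ q hq (hexpA q hq) htM
    set q' := z0 * q * z0⁻¹ with hq'
    have hq'm : q' ∈ aGrp := mul_mem (mul_mem nz hq) (inv_mem nz)
    have hq'M : ψ q' ∈ M := by
      rw [hq', d.hψ.map_conj nz hq, d.ψz]
      exact hnorm z0 mz (by decide +kernel) (by decide +kernel) _ htM
    have hp1 : (q * q') ^ 80 = 1 := h80 ψ aGrp _ d.hψ _ (mul_mem hq hq'm) (hexpA _ (mul_mem hq hq'm))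
      (by rw [d.hψ.mul _ hq _ hq'm]; exact mul_mem htM hq'M)
    have hp2 : (q * q * q') ^ 80 = 1 := h80 ψ aGrp _ d.hψ _ (mul_mem (mul_mem hq hq) hq'm)
      (hexpA _ (mul_mem (mul_mem hq hq) hq'm))
      (by rw [d.hψ.mul _ (mul_mem hq hq) _ hq'm, d.hψ.mul _ hq _ hq]; exact mul_mem (mul_mem htM htM) hq'M)
    have hp3 : ((q * q') * (q * q') * (z0 * (q * q') * z0⁻¹)) ^ 80 = 1 := by
      have hr : q * q' ∈ aGrp := mul_mem hq hq'm
      have hrM : ψ (q * q') ∈ M := by rw [d.hψ.mul _ hq _ hq'm]; exact mul_mem htM hq'M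
      have hr'm : z0 * (q * q') * z0⁻¹ ∈ aGrp := mul_mem (mul_mem nz hr) (inv_mem nz)
      refine h80 ψ aGrp _ d.hψ _ (mul_mem (mul_mem hr hr) hr'm) (hexpA _ (mul_mem (mul_mem hr hr) hr'm)) ?_
      rw [d.hψ.mul _ (mul_mem hr hr) _ hr'm, d.hψ.mul _ hr _ hr, d.hψ.map_conj nz hr, d.ψz]
      exact mul_mem (mul_mem hrM hrM) (hnorm z0 mz (by decide +kernel) (by decide +kernel) _ hrM)
    rcases fixed_a hq hqa hq80 with e | e | e | e | e | e
    · exact absurd (by rw [e, d.hψ.map_one]) ht1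
    · have hu : u1 = z0 * u0 * z0⁻¹ ∨ u1 = z0⁻¹ * u0 * z0 := by decide +kernel
      set e34 : P8 → P8 := fun g => sw 3 4 * g * (sw 3 4)⁻¹ with he34
      have hw : ∀ w ∈ wList, w ∈ aGrp ∧
          ((z0 * w * z0⁻¹ = u0 ∨ z0⁻¹ * w * z0 = u0 ∨ w = u0) ∨
           (z0 * w * z0⁻¹ = sw 3 4 * u0 * (sw 3 4)⁻¹ ∨ z0⁻¹ * w * z0 = sw 3 4 * u0 * (sw 3 4)⁻¹ ∨
             w = sw 3 4 * u0 * (sw 3 4)⁻¹)) := by decide +kernel
      obtain ⟨hqm, hcase⟩ := hw q e
      -- `M` contains the three images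
      have hin : ∀ u : P8, u ∈ aGrp → ψ u ∈ M →
          ψ (z0 * u * z0⁻¹) ∈ M ∧ ψ (z0⁻¹ * u * z0) ∈ M := by
        intro u hu hM'
        have key : ∀ p ∈ [z0, z0⁻¹], ψ (p * u * p⁻¹) ∈ M := by
          intro p hp
          simp only [List.mem_cons, List.not_mem_nil, or_false] at hp
          rcases hp with rfl | rfl
          · rw [d.hψ.map_conj nz hu, d.ψz]
            exact hnorm z0 mz (by decide +kernel) (by decide +kernel) _ hM'
          · rw [d.hψ.map_conj (inv_mem nz) hu, d.hψ.map_inv nz, d.ψz, ← d.hφ.map_inv mz]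
            exact hnorm z0⁻¹ (inv_mem mz) (by decide +kernel) (by decide +kernel) _ hM'
        refine ⟨key z0 (by simp), ?_⟩
        have := key z0⁻¹ (by simp)
        rwa [inv_inv] at this
      have hcomm : ∀ u : P8, ψ u ∈ M → Commute (φ x1) (ψ u) ∧ Commute (φ y1) (ψ u) := fun u h =>
        ⟨((mem_centV.1 (hMC h)).1).symm, ((mem_centV.1 (hMC h)).2).symm⟩
      have hmk : ∀ (f : P8 → P8), (f = id ∨ f = e34) → ψ (f u0) ∈ M →
          Link φ (fun g => ψ (f g)) := by
        intro f hf hM'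
        have hfm : f u0 ∈ aGrp ∧ (f u1 = z0 * f u0 * z0⁻¹ ∨ f u1 = z0⁻¹ * f u0 * z0) := by
          rcases hf with rfl | rfl
          · exact ⟨n0, hu⟩
          · refine ⟨(hw _ (by simp [wList, he34])).1, ?_⟩
            simp only [he34]; decide +kernel
        obtain ⟨h1, h2⟩ := hin _ hfm.1 hM'
        have h3 : ψ (f u1) ∈ M := by
          rcases hfm.2 with e | e <;> rw [e] <;> assumption
        exact ⟨(hcomm _ hM').1, (hcomm _ hM').2, (hcomm _ h3).1, (hcomm _ h3).2⟩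
      obtain ⟨h1, h2⟩ := hin q hqm htM
      rcases hcase with (e' | e' | e') | (e' | e' | e')
      · exact Or.inl (hmk id (Or.inl rfl) (by show ψ u0 ∈ M; rw [← e']; exact h1))
      · exact Or.inl (hmk id (Or.inl rfl) (by show ψ u0 ∈ M; rw [← e']; exact h2))
      · exact Or.inl (hmk id (Or.inl rfl) (by show ψ u0 ∈ M; rw [← e']; exact htM))
      · exact Or.inr (hmk e34 (Or.inr rfl) (by simp only [he34]; rw [← e']; exact h1))
      · exact Or.inr (hmk e34 (Or.inr rfl) (by simp only [he34]; rw [← e']; exact h2))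
      · exact Or.inr (hmk e34 (Or.inr rfl) (by simp only [he34]; rw [← e']; exact htM))
    · exfalso
      have hcom : Commute Z (ψ q) := by rw [hZ, ← d.ψz]; exact d.hψ.commute nz hq e.symm
      obtain ⟨v, hv, hve⟩ := hZV _ htM hcom
      have hv' : v ∈ list12 := List.mem_append_left _ (List.mem_append_left _ hv)
      obtain ⟨hvm, -, -, -, -, hv5⟩ := list12_facts v hv'
      have hva : a0 * v = v * a0 := (d.hφ.commute_iff ma hvm).1 (by rw [hve]; exact htA.eq)
      exact ht1 (by rw [← hve, hv5 hv hva, d.hφ.map_one])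
    · exact absurd hp1 e
    · exact absurd hp2 e
    · exact absurd hp3 e

end CfsgLib.Recog.AltEight
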