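import Cfsg.Agent.Lib.Recog.AltEight.Bad
import Cfsg.Agent.Lib.Recog.MoorePresentation
import Mathlib.GroupTheory.SpecificGroups.Alternating.Simple

/-!
The alternating group of degree eight inside a group with glued coordinates.
-/

set_option autoImplicit false
set_option linter.unusedSectionVars false
set_option maxRecDepth 8000

namespace CfsgLib.Recog.AltEight

open Subgroup CfsgLib.Recog.Moore

/-- Moore's generators of the alternating group of degree eight. -/
def gens8 : Fin 6 → P8 := ![x0, x1, x2, x3, x4, x5]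

theorem gens8_eq : ∀ i : Fin 6, adj 6 0 * adj 6 (i.val + 1) = gens8 i := by decide +kernel

theorem gens8_sign : ∀ i : Fin 6, Equiv.Perm.sign (gens8 i) = 1 := by decide +kernel

theorem gens8_mem (i : Fin 6) : gens8 i ∈ alternatingGroup (Fin 8) :=
  Equiv.Perm.mem_alternatingGroup.2 (gens8_sign i)

theorem closure_gens8 : closure (Set.range gens8) = alternatingGroup (Fin 8) := by
  set L := closure (Set.range gens8)
  set s := adj 6 0
  have hs : s * s = 1 := by decide +kernel
  have hsi : s⁻¹ = s := inv_eq_of_mul_eq_one_right hs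
  have hss : Equiv.Perm.sign s = -1 := by decide +kernel
  have hmem : ∀ i, gens8 i ∈ L := fun i => subset_closure ⟨i, rfl⟩
  have hnorm : ∀ g ∈ L, s * g * s ∈ L := by
    intro g hg
    induction hg using Subgroup.closure_induction with
    | mem g hg =>
      obtain ⟨i, rfl⟩ := hg
      rcases (show ∀ i : Fin 6, s * gens8 i * s = gens8 i ∨ s * gens8 i * s = (gens8 i)⁻¹ by decide +kernel) i with e | e <;>
        rw [e]
      · exact hmem i
      · exact inv_mem (hmem i)
    | one => rw [mul_one, hs]; exact one_mem _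
    | mul g h _ _ hg hh =>
      have : s * (g * h) * s = (s * g * s) * (s * h * s) := by
        calc s * (g * h) * s = s * g * (s * s) * h * s := by rw [hs]; group
          _ = _ := by group
      rw [this]; exact mul_mem hg hh
    | inv g _ hg =>
      have : s * g⁻¹ * s = (s * g * s)⁻¹ := by rw [mul_inv_rev, mul_inv_rev, hsi, mul_assoc]
      rw [this]; exact inv_mem hg
  refine le_antisymm ((closure_le _).2 (by rintro g ⟨i, rfl⟩; exact gens8_mem i)) fun g hg => ?_
  -- everything is in `L` or in its coset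
  let U : Subgroup P8 :=
    { carrier := {g | g ∈ L ∨ g * s ∈ L}
      one_mem' := Or.inl (one_mem _)
      mul_mem' := by
        rintro a b (ha | ha) (hb | hb)
        · exact Or.inl (mul_mem ha hb)
        · exact Or.inr (by rw [mul_assoc]; exact mul_mem ha hb)
        · right
          have := mul_mem ha (hnorm b hb)
          rwa [show a * s * (s * b * s) = a * (s * s) * b * s by group, hs, mul_one] at this
        · left
          have := mul_mem ha (hnorm _ hb)
          rwa [show a * s * (s * (b * s) * s) = a * (s * s) * b * (s * s) by group, hs, mul_one, mul_one] at this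
      inv_mem' := by
        rintro a (ha | ha)
        · exact Or.inl (inv_mem ha)
        · right
          have := hnorm _ (inv_mem ha)
          rwa [mul_inv_rev, hsi, show s * (s * a⁻¹) * s = (s * s) * a⁻¹ * s by group, hs, one_mul] at this }
  have hU : g ∈ U := by
    have htop : (⊤ : Submonoid P8) ≤ U.toSubmonoid := by
      rw [← Equiv.Perm.mclosure_swap_castSucc_succ, Submonoid.closure_le]
      rintro _ ⟨i, rfl⟩
      rcases Fin.eq_zero_or_eq_succ i with rfl | ⟨j, rfl⟩
      · exact Or.inr (by rw [show Equiv.swap (Fin.castSucc (0 : Fin 7)) (Fin.succ 0) * s = 1 by decide +kernel]; exact one_mem _)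
      · refine Or.inr ?_
        rcases (show ∀ j : Fin 6, Equiv.swap j.succ.castSucc j.succ.succ * s = gens8 j ∨
          Equiv.swap j.succ.castSucc j.succ.succ * s = (gens8 j)⁻¹ by decide +kernel) j with e | e <;> rw [e]
        · exact hmem j
        · exact inv_mem (hmem j)
    exact htop (Submonoid.mem_top g)
  rcases hU with h | h
  · exact h
  · exfalso
    have h1 : Equiv.Perm.sign (g * s) = 1 :=
      (show L ≤ alternatingGroup (Fin 8) from (closure_le _).2 (by rintro g ⟨i, rfl⟩; exact gens8_mem i)) h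
    rw [map_mul, Equiv.Perm.mem_alternatingGroup.1 hg, hss] at h1
    exact absurd h1 (by decide)

def zWords : List (List (Fin 6)) :=
  [[0, 1, 2, 1, 0], [2, 0, 1, 2], [1, 2], [2, 1, 0, 1], [1], [0, 0, 1, 0], [0, 1, 0, 0], [0], [0, 0], [4, 5],
    [5, 4], [4], []]

def aWords : List (List (Fin 6)) :=
  [[3, 4], [3, 4, 3, 5], [2, 3, 4, 5, 4, 3], [3, 2], [2, 3, 4, 3, 5, 4, 3, 2], [2, 4, 3, 2, 5, 4], [2, 3, 2, 5],
    [4, 5], [5, 4], [0], [0, 0], [4], []]

variable {G : Type*} [Group G] [Finite G] {P : Sylow 3 G} {φ ψ : P8 → G}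

/-- A glued pair of charts. -/
structure Glued (P : Sylow 3 G) (φ ψ Φ : P8 → G) : Prop where
  data : Data P φ ψ
  link : Link φ ψ
  hΦ : ∀ a ∈ alternatingGroup (Fin 8), ∀ b ∈ alternatingGroup (Fin 8), Φ (a * b) = Φ a * Φ b
  inj : ∀ a ∈ alternatingGroup (Fin 8), ∀ b ∈ alternatingGroup (Fin 8), Φ a = Φ b → a = b
  agreeφ : ∀ g ∈ zGrp, Φ g = φ g
  agreeψ : ∀ g ∈ aGrp, Φ g = ψ g

theorem Data.exists_glued (d : Data P φ ψ) (hl : Link φ ψ) : ∃ Φ : P8 → G, Glued P φ ψ Φ := by
  classical
  obtain ⟨⟨mz, ma, m1, m2, m4, m5⟩, nz, na, n2, n3, n4, n5, n0⟩ := basic_mem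
  let x : Fin 6 → G := ![φ x0, φ x1, φ x2, ψ x3, φ x4, φ x5]
  have hxψ : ∀ i : Fin 6, i ≠ 1 → gens8 i ∈ aGrp ∧ x i = ψ (gens8 i) := by
    intro i hi
    fin_cases i
    · exact ⟨na, d.ψa.symm⟩
    · exact absurd rfl hi
    · exact ⟨n2, d.ψ2.symm⟩
    · exact ⟨n3, rfl⟩
    · exact ⟨n4, d.ψ4.symm⟩
    · exact ⟨n5, d.ψ5.symm⟩
  have hxφ : ∀ i : Fin 6, i ≠ 3 → gens8 i ∈ zGrp ∧ x i = φ (gens8 i) := by
    intro i hi
    fin_cases i
    · exact ⟨ma, rfl⟩
    · exact ⟨m1, rfl⟩
    · exact ⟨m2, rfl⟩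
    · exact absurd rfl hi
    · exact ⟨m4, rfl⟩
    · exact ⟨m5, rfl⟩
  have e13 : x3 = x5 * u0 := by decide +kernel
  have h13 : Commute (x 1) (x 3) := by
    show Commute (φ x1) (ψ x3)
    rw [e13, d.hψ.mul _ n5 _ n0, d.ψ5]
    exact (d.hφ.commute m1 m5 (by decide +kernel)).mul_right hl.1
  have hpair : ∀ i j : Fin 6, ¬(i = 1 ∧ j = 3) → ¬(i = 3 ∧ j = 1) → ∀ n : ℕ, (gens8 i * gens8 j) ^ n = 1 →
      (x i * x j) ^ n = 1 := by
    intro i j h1 h2 n hn
    by_cases h3 : i = 3 ∨ j = 3
    · have hi : i ≠ 1 := by rintro rfl; rcases h3 with h | h; exact absurd h (by decide); exact h1 ⟨rfl, h⟩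
      have hj : j ≠ 1 := by rintro rfl; rcases h3 with h | h; exact h2 ⟨h, rfl⟩; exact absurd h (by decide)
      obtain ⟨mi, ei⟩ := hxψ i hi
      obtain ⟨mj, ej⟩ := hxψ j hj
      rw [ei, ej, ← d.hψ.mul _ mi _ mj, ← d.hψ.map_pow (mul_mem mi mj), hn, d.hψ.map_one]
    · push Not at h3
      obtain ⟨mi, ei⟩ := hxφ i h3.1
      obtain ⟨mj, ej⟩ := hxφ j h3.2
      rw [ei, ej, ← d.hφ.mul _ mi _ mj, ← d.hφ.map_pow (mul_mem mi mj), hn, d.hφ.map_one]
  have hsingle : ∀ (i : Fin 6) (n : ℕ), gens8 i ^ n = 1 → x i ^ n = 1 := by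
    intro i n hn
    by_cases hi : i = 3
    · obtain ⟨mi, ei⟩ := hxψ i (by rw [hi]; decide)
      rw [ei, ← d.hψ.map_pow mi, hn, d.hψ.map_one]
    · obtain ⟨mi, ei⟩ := hxφ i hi
      rw [ei, ← d.hφ.map_pow mi, hn, d.hφ.map_one]
  have hgood := good_perm 6
  have good : Good 6 x := by
    refine ⟨fun i hi => hsingle i 3 ?_, fun i hi => hsingle i 2 ?_, fun i j hij => hpair i j ?_ ?_ 3 ?_,
      fun i j hij => ?_⟩
    · rw [← gens8_eq]; exact hgood.cube i hi
    · rw [← gens8_eq]; exact hgood.sq i hi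
    · rintro ⟨rfl, rfl⟩; exact absurd hij (by decide)
    · rintro ⟨rfl, rfl⟩; exact absurd hij (by decide)
    · rw [← gens8_eq, ← gens8_eq]; exact hgood.next' i j hij
    · by_cases h : i = 1 ∧ j = 3
      · obtain ⟨rfl, rfl⟩ := h
        rw [h13.mul_pow, hsingle 1 2 (by decide +kernel), hsingle 3 2 (by decide +kernel), one_mul]
      · refine hpair i j h ?_ 2 ?_
        · rintro ⟨rfl, rfl⟩; exact absurd hij (by decide)
        · rw [← gens8_eq, ← gens8_eq]; exact hgood.far i j hij
  have goodA : Good 6 (fun i => (⟨gens8 i, gens8_mem i⟩ : alternatingGroup (Fin 8))) := by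
    refine ⟨fun i hi => Subtype.ext ?_, fun i hi => Subtype.ext ?_, fun i j hij => Subtype.ext ?_,
      fun i j hij => Subtype.ext ?_⟩ <;>
      simp only [SubgroupClass.coe_pow, Subgroup.coe_mul, Subgroup.coe_one, ← gens8_eq]
    · exact hgood.cube i hi
    · exact hgood.sq i hi
    · exact hgood.next' i j hij
    · exact hgood.far i j hij
  let π : PresentedGroup (rels 6) →* alternatingGroup (Fin 8) := PresentedGroup.toGroup (good_lift 6 goodA)
  have hπ : ∀ i, (π (PresentedGroup.of i) : P8) = gens8 i := fun i => by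
    show ((PresentedGroup.toGroup (good_lift 6 goodA) (PresentedGroup.of i) : alternatingGroup (Fin 8)) : P8) = _
    rw [PresentedGroup.toGroup.of]
  have hsurj : Function.Surjective π := by
    rintro ⟨g, hg⟩
    have : g ∈ (π.range).map (alternatingGroup (Fin 8)).subtype := by
      rw [← closure_gens8] at hg
      refine (closure_le _).2 ?_ hg
      rintro _ ⟨i, rfl⟩
      exact ⟨π (PresentedGroup.of i), ⟨_, rfl⟩, hπ i⟩
    obtain ⟨_, ⟨u, rfl⟩, hu⟩ := this
    exact ⟨u, Subtype.ext hu⟩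
  obtain ⟨e⟩ := nonempty_equiv 6
  haveI : Finite (PresentedGroup (rels 6)) := Finite.of_equiv _ e.symm.toEquiv
  have hbij : Function.Bijective π :=
    (Nat.bijective_iff_surjective_and_card π).2 ⟨hsurj, Nat.card_congr e.toEquiv⟩
  let πe := MulEquiv.ofBijective π hbij
  let F : alternatingGroup (Fin 8) →* G :=
    (PresentedGroup.toGroup (good_lift 6 good)).comp πe.symm.toMonoidHom
  have hF : ∀ i, F ⟨gens8 i, gens8_mem i⟩ = x i := fun i => by
    have h1 : πe.symm ⟨gens8 i, gens8_mem i⟩ = PresentedGroup.of i := by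
      rw [MulEquiv.symm_apply_eq]; exact Subtype.ext (hπ i).symm
    show PresentedGroup.toGroup (good_lift 6 good) (πe.symm _) = _
    rw [h1, PresentedGroup.toGroup.of]
  let Φ : P8 → G := fun g => if h : g ∈ alternatingGroup (Fin 8) then F ⟨g, h⟩ else 1
  have hΦ : ∀ g (h : g ∈ alternatingGroup (Fin 8)), Φ g = F ⟨g, h⟩ := fun g h => dif_pos h
  have hmul : ∀ a ∈ alternatingGroup (Fin 8), ∀ b ∈ alternatingGroup (Fin 8), Φ (a * b) = Φ a * Φ b := by
    intro a ha b hb
    rw [hΦ a ha, hΦ b hb, hΦ _ (mul_mem ha hb), ← map_mul]; rfl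
  have hinj : Function.Injective F := by
    rw [← MonoidHom.ker_eq_bot_iff]
    haveI : IsSimpleGroup (alternatingGroup (Fin 8)) := alternatingGroup.isSimpleGroup (by simp)
    refine (IsSimpleGroup.eq_bot_or_eq_top_of_normal F.ker inferInstance).resolve_right fun h => ?_
    have h1 : F ⟨gens8 1, gens8_mem 1⟩ = 1 := MonoidHom.mem_ker.1 (h ▸ mem_top _)
    rw [hF] at h1
    exact absurd ((d.hφ.eq_one_iff m1).1 h1) (by decide +kernel)
  have hinjΦ : ∀ a ∈ alternatingGroup (Fin 8), ∀ b ∈ alternatingGroup (Fin 8), Φ a = Φ b → a = b := by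
    intro a ha b hb he
    rw [hΦ a ha, hΦ b hb] at he
    exact congrArg Subtype.val (hinj he)
  have hzA : zGrp ≤ alternatingGroup (Fin 8) := fun g hg => Equiv.Perm.mem_alternatingGroup.2 hg.1
  have haA : aGrp ≤ alternatingGroup (Fin 8) := fun g hg => Equiv.Perm.mem_alternatingGroup.2 hg.1
  -- agreement on a list of products
  have agree : ∀ (f : P8 → G) (S : Subgroup P8) (N : Subgroup G), Chart f S N → S ≤ alternatingGroup (Fin 8) →
      ∀ (ws : List (List (Fin 6))), (∀ w ∈ ws, ∀ i ∈ w, gens8 i ∈ S ∧ x i = f (gens8 i)) →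
      ∀ ls : List (List P8), (∀ l ∈ ls, ∀ a ∈ l, ∃ w ∈ ws, (w.map gens8).prod = a) →
      ∀ p ∈ prods ls, p ∈ S ∧ Φ p = f p := by
    intro f S N hf hS ws hws ls
    have h1 : Φ 1 = f 1 := by
      rw [hf.map_one, hΦ 1 (one_mem _)]
      exact map_one F
    have hmulS : ∀ a b, a ∈ S ∧ Φ a = f a → b ∈ S ∧ Φ b = f b → a * b ∈ S ∧ Φ (a * b) = f (a * b) := by
      rintro a b ⟨ha, ea⟩ ⟨hb, eb⟩
      exact ⟨mul_mem ha hb, by rw [hmul a (hS ha) b (hS hb), hf.mul a ha b hb, ea, eb]⟩
    have hw : ∀ w : List (Fin 6), (∀ i ∈ w, gens8 i ∈ S ∧ x i = f (gens8 i)) →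
        (w.map gens8).prod ∈ S ∧ Φ (w.map gens8).prod = f (w.map gens8).prod := by
      intro w
      induction w with
      | nil => intro _; rw [List.map_nil, List.prod_nil]; exact ⟨one_mem S, h1⟩
      | cons i w ih =>
        intro hiw
        rw [List.map_cons, List.prod_cons]
        refine hmulS _ _ ?_ (ih fun j hj => hiw j (List.mem_cons_of_mem _ hj))
        obtain ⟨hi, he⟩ := hiw i (List.mem_cons_self ..)
        exact ⟨hi, by rw [hΦ _ (gens8_mem i), hF, he]⟩
    induction ls with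
    | nil => intro _ p hp; rw [List.mem_singleton.1 hp]; exact ⟨one_mem _, h1⟩
    | cons l ls ih =>
      intro hls p hp
      obtain ⟨a, ha, hp'⟩ := List.mem_flatMap.1 hp
      obtain ⟨b, hb, rfl⟩ := List.mem_map.1 hp'
      obtain ⟨w, hw', rfl⟩ := hls l (List.mem_cons_self ..) a ha
      exact hmulS _ _ (hw w (hws w hw')) (ih (fun l' hl' => hls l' (List.mem_cons_of_mem _ hl')) b hb)
  have hcover : ∀ g ∈ zGrp, g ∈ prods zFactors := fun g hg => by
    have := code_mem_zCodes hg
    rw [zCodes, ← map_code_prods] at this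
    exact mem_map_code.1 this
  have hcoverA : ∀ g ∈ aGrp, g ∈ prods (zFactors.map fun l => l.map fun f => rho * f * rho) := by
    intro g hg
    have key : ∀ ls : List (List P8), ∀ p ∈ prods ls,
        rho * p * rho ∈ prods (ls.map fun l => l.map fun f => rho * f * rho) := by
      intro ls
      induction ls with
      | nil =>
        intro p hp
        rw [List.mem_singleton.1 hp, mul_one, rho_mul]
        exact List.mem_singleton.2 rfl
      | cons l ls ih =>
        intro p hp
        obtain ⟨a, ha, hp'⟩ := List.mem_flatMap.1 hp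
        obtain ⟨b, hb, rfl⟩ := List.mem_map.1 hp'
        refine List.mem_flatMap.2 ⟨_, List.mem_map.2 ⟨a, ha, rfl⟩, List.mem_map.2 ⟨_, ih b hb, ?_⟩⟩
        calc rho * a * rho * (rho * b * rho) = rho * a * (rho * rho) * b * rho := by group
          _ = rho * (a * b) * rho := by rw [rho_mul]; group
    have := key _ _ (hcover _ (conj_rho_mem.1 hg))
    rwa [show rho * (rho * g * rho) * rho = (rho * rho) * g * (rho * rho) by group, rho_mul, one_mul, mul_one] at this
  refine ⟨Φ, d, hl, hmul, hinjΦ, ?_, ?_⟩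
  · intro g hg
    refine (agree φ zGrp _ d.hφ hzA zWords ?_ zFactors ?_ g (hcover g hg)).2
    · intro w hw i hi
      exact hxφ i ((show ∀ w ∈ zWords, ∀ i ∈ w, i ≠ 3 by decide +kernel) w hw i hi)
    · intro l hl a ha
      have : a ∈ zWords.map fun w => (w.map gens8).prod :=
        (show ∀ l ∈ zFactors, ∀ a ∈ l, a ∈ zWords.map fun w => (w.map gens8).prod by decide +kernel) l hl a ha
      obtain ⟨w, hw, rfl⟩ := List.mem_map.1 this
      exact ⟨w, hw, rfl⟩
  · intro g hg
    refine (agree ψ aGrp _ d.hψ haA aWords ?_ _ ?_ g (hcoverA g hg)).2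
    · intro w hw i hi
      exact hxψ i ((show ∀ w ∈ aWords, ∀ i ∈ w, i ≠ 1 by decide +kernel) w hw i hi)
    · intro l hl a ha
      obtain ⟨l₀, hl₀, rfl⟩ := List.mem_map.1 hl
      obtain ⟨f, hf, rfl⟩ := List.mem_map.1 ha
      have : rho * f * rho ∈ aWords.map fun w => (w.map gens8).prod :=
        (show ∀ l ∈ zFactors, ∀ f ∈ l, rho * f * rho ∈ aWords.map fun w => (w.map gens8).prod by decide +kernel)
          l₀ hl₀ f hf
      obtain ⟨w, hw, e⟩ := List.mem_map.1 this
      exact ⟨w, hw, e⟩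

end CfsgLib.Recog.AltEight
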