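import Mathlib.GroupTheory.Perm.Sign
import Mathlib.GroupTheory.Perm.Fin
import Mathlib.GroupTheory.SpecificGroups.Alternating
import Mathlib.Tactic

/-!
Eight points `{0,…,7}`: the even permutations preserving `{5,6,7}` (resp. `{0,1,2}`), and the finite facts about
them used in the three-local recognition of the alternating group of degree eight.
-/

set_option autoImplicit false

namespace CfsgLib.Recog.AltEight

abbrev P8 := Equiv.Perm (Fin 8)

/-- Prefer enumeration of the list to enumeration of all permutations. -/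
instance (priority := high) decidableBAllP8 (p : P8 → Prop) [DecidablePred p] (l : List P8) :
    Decidable (∀ x, x ∈ l → p x) :=
  List.decidableBAll p l

instance (priority := high) decidableBExP8 (p : P8 → Prop) [DecidablePred p] (l : List P8) :
    Decidable (∃ x, x ∈ l ∧ p x) :=
  List.decidableBEx p l

abbrev Pair := Equiv.Perm (Fin 3) × Equiv.Perm (Fin 5)

/-- `S5` on `{0,…,4}` and `S3` on `{5,6,7}`. -/
def emb : Pair →* P8 :=
  (MonoidHom.mk' (fun e => finSumFinEquiv.permCongr e) (fun a b => by ext x; simp [Equiv.permCongr_def])).comp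
    ((Equiv.Perm.sumCongrHom (Fin 5) (Fin 3)).comp (MulEquiv.prodComm : Pair ≃* _).toMonoidHom)

theorem emb_injective : Function.Injective emb := by
  intro a b h
  have h' : (Equiv.Perm.sumCongrHom (Fin 5) (Fin 3)) (a.2, a.1) =
      (Equiv.Perm.sumCongrHom (Fin 5) (Fin 3)) (b.2, b.1) := finSumFinEquiv.permCongr.injective h
  have := Equiv.Perm.sumCongrHom_injective h'
  simp only [Prod.mk.injEq] at this
  exact Prod.ext this.2 this.1

def sw (i j : Fin 8) : P8 := Equiv.swap i j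

def th (i j k : Fin 8) : P8 := sw i j * sw j k

def z0 : P8 := th 5 6 7
def a0 : P8 := th 0 1 2
def x0 : P8 := sw 0 1 * sw 1 2
def x1 : P8 := sw 0 1 * sw 2 3
def x2 : P8 := sw 0 1 * sw 3 4
def x3 : P8 := sw 0 1 * sw 4 5
def x4 : P8 := sw 0 1 * sw 5 6
def x5 : P8 := sw 0 1 * sw 6 7
/-- `(4 5)(6 7)`. -/
def u0 : P8 := sw 4 5 * sw 6 7
/-- `(0 5)(1 6)(2 7)`. -/
def rho : P8 := sw 0 5 * sw 1 6 * sw 2 7

theorem a0_eq : a0 = x0 := rfl

/-- Even, preserving `{5,6,7}`. -/
def zGrp : Subgroup P8 where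
  carrier := {g | Equiv.Perm.sign g = 1 ∧ ∀ i : Fin 8, 5 ≤ i ↔ 5 ≤ g i}
  mul_mem' := fun {a b} ha hb => ⟨by rw [map_mul, ha.1, hb.1, mul_one],
    fun i => (hb.2 i).trans (ha.2 (b i))⟩
  one_mem' := ⟨map_one _, fun _ => Iff.rfl⟩
  inv_mem' := fun {a} ha => ⟨by rw [map_inv, ha.1, inv_one], fun i => by
    have := ha.2 (a⁻¹ i)
    rw [← Equiv.Perm.mul_apply, mul_inv_cancel, Equiv.Perm.one_apply] at this
    exact this.symm⟩

instance : DecidablePred (· ∈ zGrp) := fun g =>
  inferInstanceAs (Decidable (Equiv.Perm.sign g = 1 ∧ ∀ i : Fin 8, 5 ≤ i ↔ 5 ≤ g i))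

/-- Even, preserving `{0,1,2}`. -/
def aGrp : Subgroup P8 where
  carrier := {g | Equiv.Perm.sign g = 1 ∧ ∀ i : Fin 8, i < 3 ↔ g i < 3}
  mul_mem' := fun {a b} ha hb => ⟨by rw [map_mul, ha.1, hb.1, mul_one],
    fun i => (hb.2 i).trans (ha.2 (b i))⟩
  one_mem' := ⟨map_one _, fun _ => Iff.rfl⟩
  inv_mem' := fun {a} ha => ⟨by rw [map_inv, ha.1, inv_one], fun i => by
    have := ha.2 (a⁻¹ i)
    rw [← Equiv.Perm.mul_apply, mul_inv_cancel, Equiv.Perm.one_apply] at this
    exact this.symm⟩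

instance : DecidablePred (· ∈ aGrp) := fun g =>
  inferInstanceAs (Decidable (Equiv.Perm.sign g = 1 ∧ ∀ i : Fin 8, i < 3 ↔ g i < 3))

/-- The even pairs. -/
def Even2 (u : Pair) : Prop := Equiv.Perm.sign u.1 = Equiv.Perm.sign u.2

instance : DecidablePred Even2 := fun u => by unfold Even2; infer_instance

theorem sign_emb (u : Pair) : Equiv.Perm.sign (emb u) = Equiv.Perm.sign u.2 * Equiv.Perm.sign u.1 := by
  show Equiv.Perm.sign (finSumFinEquiv.permCongr (Equiv.Perm.sumCongr u.2 u.1)) = _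
  rw [Equiv.Perm.sign_permCongr, Equiv.Perm.sign_sumCongr]

theorem emb_apply_castAdd (u : Pair) (i : Fin 5) : emb u (Fin.castAdd 3 i) = Fin.castAdd 3 (u.2 i) := by
  show finSumFinEquiv.permCongr (Equiv.Perm.sumCongr u.2 u.1) _ = _
  rw [Equiv.permCongr_apply, show finSumFinEquiv.symm (Fin.castAdd 3 i) = Sum.inl i from
    finSumFinEquiv_symm_apply_castAdd i]
  rfl

theorem emb_apply_natAdd (u : Pair) (i : Fin 3) : emb u (Fin.natAdd 5 i) = Fin.natAdd 5 (u.1 i) := by
  show finSumFinEquiv.permCongr (Equiv.Perm.sumCongr u.2 u.1) _ = _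
  rw [Equiv.permCongr_apply, show finSumFinEquiv.symm (Fin.natAdd 5 i) = Sum.inr i from
    finSumFinEquiv_symm_apply_natAdd i]
  rfl

theorem mem_zGrp_iff {g : P8} : g ∈ zGrp ↔ ∃ u : Pair, Even2 u ∧ emb u = g := by
  constructor
  · rintro ⟨hs, hg⟩
    have hmaps : Set.MapsTo (finSumFinEquiv.symm.permCongr g) (Set.range (Sum.inl : Fin 5 → Fin 5 ⊕ Fin 3))
        (Set.range Sum.inl) := by
      rintro _ ⟨i, rfl⟩
      have h : ¬ (5 : Fin 8) ≤ g (Fin.castAdd 3 i) := fun h => by
        have := (hg (Fin.castAdd 3 i)).2 h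
        simp [Fin.le_def] at this
        omega
      refine ⟨⟨(g (Fin.castAdd 3 i)).val, by simp [Fin.le_def] at h; omega⟩, ?_⟩
      simp [Equiv.permCongr_apply, Equiv.eq_symm_apply]
      rfl
    obtain ⟨⟨p, q⟩, hpq⟩ := Equiv.Perm.mem_sumCongrHom_range_of_perm_mapsTo_inl hmaps
    refine ⟨(q, p), ?_, ?_⟩
    · have he : emb (q, p) = g := by
        show finSumFinEquiv.permCongr (Equiv.Perm.sumCongrHom _ _ (p, q)) = g
        rw [hpq]; ext x; simp [Equiv.permCongr_apply]
      have := sign_emb (q, p)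
      rw [he, hs] at this
      rcases Int.units_eq_one_or (Equiv.Perm.sign q) with e | e <;>
        rcases Int.units_eq_one_or (Equiv.Perm.sign p) with f | f <;>
        simp [Even2, e, f] at this ⊢
    · show finSumFinEquiv.permCongr (Equiv.Perm.sumCongrHom _ _ (p, q)) = g
      rw [hpq]; ext x; simp [Equiv.permCongr_apply]
  · rintro ⟨u, hu, rfl⟩
    refine ⟨by rw [sign_emb, show Equiv.Perm.sign u.1 = Equiv.Perm.sign u.2 from hu]; exact Int.units_mul_self _,
      fun i => ?_⟩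
    refine Fin.addCases (m := 5) (n := 3) (fun j => ?_) (fun j => ?_) i
    · rw [emb_apply_castAdd]
      simp [Fin.le_def]
      omega
    · rw [emb_apply_natAdd]
      simp [Fin.le_def]

/-- Facts on `zGrp` may be checked on pairs. -/
theorem forall_zGrp {p : P8 → Prop} (h : ∀ u : Pair, Even2 u → p (emb u)) {g : P8} (hg : g ∈ zGrp) : p g := by
  obtain ⟨u, hu, rfl⟩ := mem_zGrp_iff.1 hg
  exact h u hu

theorem rho_mul : rho * rho = 1 := by decide +kernel

theorem rho_inv : rho⁻¹ = rho := inv_eq_of_mul_eq_one_right rho_mul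

theorem conj_rho_mem {g : P8} : g ∈ aGrp ↔ rho * g * rho ∈ zGrp := by
  have hsg : Equiv.Perm.sign (rho * g * rho) = Equiv.Perm.sign g := by
    rw [map_mul, map_mul, mul_comm (Equiv.Perm.sign rho), mul_assoc, ← map_mul, rho_mul, map_one, mul_one]
  have hlt : ∀ i : Fin 8, i < 3 ↔ 5 ≤ rho i := by decide +kernel
  constructor
  · rintro ⟨hs, hg⟩
    refine ⟨hsg.trans hs, fun i => ?_⟩
    have h1 := hlt (rho i)
    rw [← Equiv.Perm.mul_apply rho rho i, rho_mul, Equiv.Perm.one_apply] at h1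
    rw [← h1, hg (rho i)]
    simpa [Equiv.Perm.mul_apply] using hlt (g (rho i))
  · rintro ⟨hs, hg⟩
    refine ⟨hsg.symm.trans hs, fun i => ?_⟩
    rw [hlt i, hg (rho i), hlt (g i)]
    simp only [Equiv.Perm.mul_apply]
    rw [← Equiv.Perm.mul_apply rho rho i, rho_mul, Equiv.Perm.one_apply]

/-- Facts on `aGrp` may be checked on pairs. -/
theorem forall_aGrp {p : P8 → Prop} (h : ∀ u : Pair, Even2 u → p (rho * emb u * rho)) {g : P8}
    (hg : g ∈ aGrp) : p g := by
  obtain ⟨u, hu, he⟩ := mem_zGrp_iff.1 (conj_rho_mem.1 hg)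
  have := h u hu
  rwa [he, show rho * (rho * g * rho) * rho = (rho * rho) * g * (rho * rho) by group, rho_mul, one_mul,
    mul_one] at this

end CfsgLib.Recog.AltEight
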