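import Cfsg.Agent.Lib.Recog.AltEight.Hom

/-!
The image of the alternating group of degree eight contains the three-local subgroups and the centraliser
of the four-group `{(0 1)(2 3), (0 2)(1 3)}`.
-/

set_option autoImplicit false
set_option linter.unusedSectionVars false
set_option linter.style.haveILetI false
set_option maxRecDepth 8000

namespace CfsgLib.Recog.AltEight

open Subgroup

local notation "A8" => alternatingGroup (Fin 8)

variable {G : Type*} [Group G] [Finite G] {P : Sylow 3 G} {φ ψ Φ : P8 → G}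

theorem zGrp_le : zGrp ≤ A8 := fun _ hg => Equiv.Perm.mem_alternatingGroup.2 hg.1

theorem aGrp_le : aGrp ≤ A8 := fun _ hg => Equiv.Perm.mem_alternatingGroup.2 hg.1

namespace Glued

/-- The embedding of the alternating group. -/
def hom (h : Glued P φ ψ Φ) : A8 →* G :=
  MonoidHom.mk' (fun a => Φ a.1) fun a b => h.hΦ a.1 a.2 b.1 b.2

/-- Its image. -/
def img (h : Glued P φ ψ Φ) : Subgroup G := h.hom.range

variable (h : Glued P φ ψ Φ)
include h

theorem chart : Chart Φ A8 h.img where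
  mul := h.hΦ
  mem a ha := ⟨⟨a, ha⟩, rfl⟩
  surj n hn := by
    obtain ⟨a, rfl⟩ := hn
    exact ⟨a.1, a.2, rfl⟩
  inj := h.inj

theorem normZ_le : normalizer (zpowers (φ z0) : Set G) ≤ h.img := fun n hn => by
  obtain ⟨g, hg, rfl⟩ := h.data.hφ.surj n hn
  rw [← h.agreeφ g hg]
  exact h.chart.mem g (zGrp_le hg)

theorem normA_le : normalizer (zpowers (φ a0) : Set G) ≤ h.img := fun n hn => by
  obtain ⟨g, hg, rfl⟩ := h.data.hψ.surj n hn
  rw [← h.agreeψ g hg]
  exact h.chart.mem g (aGrp_le hg)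

/-- The image contains the centraliser of a conjugate of an element with this property. -/
theorem cent_conj {x : G} (hx : centralizer ({x} : Set G) ≤ h.img) {q : G} (hq : q ∈ h.img) :
    centralizer ({q * x * q⁻¹} : Set G) ≤ h.img := by
  intro g hg
  have : q⁻¹ * g * q ∈ centralizer ({x} : Set G) := by
    rw [mem_centralizer_singleton_iff] at hg ⊢
    calc q⁻¹ * g * q * x = q⁻¹ * (g * (q * x * q⁻¹)) * q := by group
      _ = q⁻¹ * (q * x * q⁻¹ * g) * q := by rw [hg]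
      _ = x * (q⁻¹ * g * q) := by group
  have := mul_mem (mul_mem hq (hx this)) (inv_mem hq)
  simpa [mul_assoc] using this

/-- The nine elements of the Sylow subgroup. -/
theorem sylow_surj {s : G} (hs : s ∈ (P : Subgroup G)) : ∃ q ∈ nine, φ q = s := by
  have d := h.data
  have h9 : ∀ q ∈ nine, q ∈ zGrp := by decide +kernel
  rw [d.hD] at hs
  induction hs using Subgroup.closure_induction with
  | mem s hs =>
    rcases hs with rfl | rfl
    · exact ⟨z0, by decide, rfl⟩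
    · exact ⟨a0, by decide, rfl⟩
  | one => exact ⟨1, by decide, d.hφ.map_one⟩
  | mul s t _ _ hs ht =>
    obtain ⟨q, hq, rfl⟩ := hs
    obtain ⟨r, hr, rfl⟩ := ht
    have hclosed : ∀ q ∈ nine, ∀ r ∈ nine, q * r ∈ nine := by decide +kernel
    exact ⟨q * r, hclosed q hq r hr, d.hφ.mul _ (h9 q hq) _ (h9 r hr)⟩
  | inv s _ hs =>
    obtain ⟨q, hq, rfl⟩ := hs
    have hclosed : ∀ q ∈ nine, q⁻¹ ∈ nine := by decide +kernel
    exact ⟨q⁻¹, hclosed q hq, d.hφ.map_inv (h9 q hq)⟩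

theorem sylow_le : (P : Subgroup G) ≤ h.img := fun s hs => by
  obtain ⟨q, hq, rfl⟩ := h.sylow_surj hs
  have hq' : q ∈ zGrp := (show ∀ q ∈ nine, q ∈ zGrp by decide +kernel) q hq
  rw [← h.agreeφ q hq']
  exact h.chart.mem q (zGrp_le hq')

theorem normP_le : normalizer ((P : Subgroup G) : Set G) ≤ h.img := by
  intro n hn
  have d := h.data
  have hZ : φ z0 ∈ (P : Subgroup G) := by rw [d.hD]; exact subset_closure (by simp)
  obtain ⟨q, hq, hqe⟩ := h.sylow_surj ((mem_normalizer_iff.1 hn _).1 hZ)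
  have hconj : IsConj (φ q) (φ z0) := (isConj_iff.2 ⟨n, hqe.symm⟩).symm
  have hcases : ∀ q ∈ nine, (q = 1 ∨ q = z0 ∨ q = z0 * z0 ∨ q = a0 ∨ q = a0 * a0) ∨
      (q = z0 * a0 ∨ x2 * q * x2⁻¹ = z0 * a0 ∨ x4 * q * x4⁻¹ = z0 * a0 ∨
        (x2 * x4) * q * (x2 * x4)⁻¹ = z0 * a0) := by decide +kernel
  obtain ⟨⟨mz, ma, -, m2, m4, -⟩, -⟩ := basic_mem
  have hqm : q ∈ zGrp := (show ∀ q ∈ nine, q ∈ zGrp by decide +kernel) q hq
  -- `(0 5)(1 6)(2 7)(3 4)` exchanges the two lines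
  obtain ⟨hrs, hrz, hrz2⟩ : Equiv.Perm.sign (rho * sw 3 4) = 1 ∧ (rho * sw 3 4) * z0 * (rho * sw 3 4)⁻¹ = a0 ∧
      (rho * sw 3 4) * (z0 * z0) * (rho * sw 3 4)⁻¹ = a0 * a0 := by decide +kernel
  have hrm : rho * sw 3 4 ∈ A8 := Equiv.Perm.mem_alternatingGroup.2 hrs
  set r := Φ (rho * sw 3 4) with hr
  have hrA : r * φ z0 * r⁻¹ = φ a0 := by
    rw [hr, ← h.agreeφ z0 mz, ← h.agreeφ a0 ma, ← h.chart.map_conj hrm (zGrp_le mz), hrz]
  have hsame : ∀ s : G, s ∈ zpowers (φ z0) → n * φ z0 * n⁻¹ = s → n ∈ h.img := fun s hs e =>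
    h.normZ_le (mem_normalizer_zpowers_of_conj (e ▸ hs))
  have hother : ∀ s : G, s ∈ zpowers (φ z0) → n * φ z0 * n⁻¹ = r * s * r⁻¹ → n ∈ h.img := by
    intro s hs e
    have : r⁻¹ * n ∈ h.img := h.normZ_le (mem_normalizer_zpowers_of_conj (by
      rw [show r⁻¹ * n * φ z0 * (r⁻¹ * n)⁻¹ = r⁻¹ * (n * φ z0 * n⁻¹) * r by group, e,
        show r⁻¹ * (r * s * r⁻¹) * r = s by group]
      exact hs))
    have h' := mul_mem (show r ∈ h.img from h.chart.mem _ hrm) this
    simpa using h'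
  rcases hcases q hq with (e | e | e | e | e) | e
  · exfalso
    rw [e, d.hφ.map_one, eq_comm, conj_eq_one_iff, d.hφ.eq_one_iff mz] at hqe
    exact absurd hqe (by decide +kernel)
  · exact hsame _ (mem_zpowers _) (by rw [← hqe, e])
  · exact hsame _ (mul_mem (mem_zpowers _) (mem_zpowers _)) (by rw [← hqe, e, d.hφ.mul _ mz _ mz])
  · exact hother _ (mem_zpowers _) (by rw [hrA, ← hqe, e])
  · refine hother _ (mul_mem (mem_zpowers (φ z0)) (mem_zpowers _)) ?_
    rw [← hqe, e, d.hφ.mul _ ma _ ma, ← hrA]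
    group
  · exfalso
    have h18 : ∀ p ∈ zGrp, p * q * p⁻¹ = z0 * a0 → False := by
      intro p hp he
      refine d.card_cent_ne hconj ?_
      rw [← card_centralizer_conj (φ p) (φ q), ← d.hφ.map_conj hp hqm, he, d.hφ.mul _ mz _ ma]
      exact d.cyCard
    rcases e with e | e | e | e
    · exact h18 1 (one_mem _) (by rw [e]; group)
    · exact h18 x2 m2 e
    · exact h18 x4 m4 e
    · exact h18 _ (mul_mem m2 m4) e

/-- The centralisers of the non-trivial elements of the Sylow subgroup. -/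
theorem cent_sylow_le {s : G} (hs : s ∈ (P : Subgroup G)) (h1 : s ≠ 1) :
    centralizer ({s} : Set G) ≤ h.img := by
  have d := h.data
  obtain ⟨⟨mz, ma, -, m2, m4, -⟩, -⟩ := basic_mem
  obtain ⟨q, hq, rfl⟩ := h.sylow_surj hs
  have hqm : q ∈ zGrp := (show ∀ q ∈ nine, q ∈ zGrp by decide +kernel) q hq
  have hpos : ∀ x : G, normalizer (zpowers x : Set G) ≤ h.img →
      centralizer ({x} : Set G) ≤ h.img ∧ (x ^ 3 = 1 → centralizer ({x * x} : Set G) ≤ h.img) := by
    intro x hx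
    refine ⟨fun g hg => hx (mem_normalizer_zpowers_of_commute (mem_centralizer_singleton_iff.1 hg)),
      fun h3 g hg => hx (mem_normalizer_zpowers_of_commute ?_)⟩
    have hc : Commute g (x * x) := mem_centralizer_singleton_iff.1 hg
    have e : x = (x * x) * (x * x) := by
      calc x = x ^ 3 * x := by rw [h3, one_mul]
        _ = _ := by simp [pow_succ, mul_assoc]
    exact e.symm ▸ hc.mul_right hc
  have hZ3 := d.Z3
  have hA3 : φ a0 ^ 3 = 1 := by
    rw [← d.hφ.map_pow ma, show a0 ^ 3 = 1 by decide +kernel, d.hφ.map_one]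
  have hcases : ∀ q ∈ nine, (q = 1 ∨ q = z0 ∨ q = z0 * z0 ∨ q = a0 ∨ q = a0 * a0) ∨
      (q = z0 * a0 ∨ x2 * q * x2⁻¹ = z0 * a0 ∨ x4 * q * x4⁻¹ = z0 * a0 ∨
        (x2 * x4) * q * (x2 * x4)⁻¹ = z0 * a0) := by decide +kernel
  rcases hcases q hq with (e | e | e | e | e) | e
  · exact absurd (by rw [e, d.hφ.map_one]) h1
  · exact e ▸ (hpos _ h.normZ_le).1
  · rw [e, d.hφ.mul _ mz _ mz]; exact (hpos _ h.normZ_le).2 hZ3
  · exact e ▸ (hpos _ h.normA_le).1
  · rw [e, d.hφ.mul _ ma _ ma]; exact (hpos _ h.normA_le).2 hA3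
  · have hy : centralizer ({φ (z0 * a0)} : Set G) ≤ h.img := by
      rw [d.hφ.mul _ mz _ ma]; exact d.cyNorm.trans h.normP_le
    have key : ∀ p ∈ zGrp, p * q * p⁻¹ = z0 * a0 → centralizer ({φ q} : Set G) ≤ h.img := by
      intro p hp he
      have hq' : φ q = (φ p)⁻¹ * φ (z0 * a0) * ((φ p)⁻¹)⁻¹ := by
        rw [← he, d.hφ.map_conj hp hqm]; group
      rw [hq']
      exact h.cent_conj hy (inv_mem (h.agreeφ p hp ▸ h.chart.mem p (zGrp_le hp)))
    rcases e with e | e | e | e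
    · exact key 1 (one_mem _) (by rw [e]; group)
    · exact key x2 m2 e
    · exact key x4 m4 e
    · exact key _ (mul_mem m2 m4) e

/-- The image contains the centraliser of the four-group. -/
theorem centV_le : centV φ ≤ h.img := by
  classical
  haveI : Fact (Nat.Prime 3) := ⟨Nat.prime_three⟩
  have d := h.data
  obtain ⟨⟨mz, ma, m1, -⟩, -⟩ := basic_mem
  have my : y1 ∈ zGrp := by decide +kernel
  set C := centV φ with hC
  have hZC : φ z0 ∈ C :=
    mem_centV.2 ⟨d.hφ.commute mz m1 (by decide +kernel), d.hφ.commute mz my (by decide +kernel)⟩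
  have hle : C ≤ centralizer ({φ x1} : Set G) := fun t ht => mem_centralizer_singleton_iff.2 (mem_centV.1 ht).1
  obtain ⟨R, hReq⟩ := d.exists_sylow_cent hle hZC
  obtain ⟨R', K, hK, hKR⟩ := CfsgLib.Transfer.hasNormalPComplement_of_normalizer_le_centralizer R (by
    intro t ht
    have hconj : (t : G) * φ z0 * (t : G)⁻¹ ∈ zpowers (φ z0) := by
      have h' := (mem_normalizer_iff.1 ht ⟨φ z0, hZC⟩).1 (hReq ▸ mem_zpowers _)
      rw [hReq] at h'
      obtain ⟨k, hk⟩ := h'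
      exact ⟨k, by simpa using congrArg Subtype.val hk⟩
    obtain ⟨v, hvm, hve⟩ := d.hφ.surj _ (mem_normalizer_zpowers_of_conj hconj)
    obtain ⟨h1, h2⟩ := mem_centV.1 t.2
    have hv : v ∈ list12 :=
      cent_v hvm ((d.hφ.commute_iff hvm m1).1 (by rw [hve]; exact h1))
        ((d.hφ.commute_iff hvm my).1 (by rw [hve]; exact h2))
    obtain ⟨-, hvz, -⟩ := list12_facts v hv
    refine mem_centralizer_iff.2 fun s hs => ?_
    rw [hReq] at hs
    obtain ⟨k, rfl⟩ := hs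
    apply Subtype.ext
    have hc : Commute (φ z0) (t : G) := hve ▸ d.hφ.commute mz hvm hvz.symm
    simpa using (hc.zpow_left k).eq)
  have hRc : Nat.card (R' : Subgroup C) = 3 := by
    rw [Nat.card_congr (R'.equiv R).toEquiv, hReq, Nat.card_zpowers, Subgroup.orderOf_mk, d.orderZ]
  have hKi : K.index = 3 := hKR.symm.index_eq_card.trans hRc
  have hKcop : ¬ 3 ∣ Nat.card K := by
    rw [← hKR.index_eq_card]
    exact R'.not_dvd_index
  let M : Subgroup G := K.map C.subtype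
  have hMC : M ≤ C := map_subtype_le K
  have hM3 : ¬ 3 ∣ Nat.card M := by
    rwa [Nat.card_congr (equivMapOfInjective K _ C.subtype_injective).toEquiv.symm]
  have hMmem : ∀ t ∈ C, ¬ 3 ∣ orderOf t → t ∈ M := by
    intro t ht hn
    refine ⟨⟨t, ht⟩, ?_, rfl⟩
    show (⟨t, ht⟩ : C) ∈ K
    rw [← QuotientGroup.eq_one_iff (N := K), ← orderOf_eq_one_iff]
    refine Nat.eq_one_of_dvd_coprimes (a := orderOf t) (b := 3) ?_ ?_ ?_
    · exact ((Nat.prime_three.coprime_iff_not_dvd).2 hn).symm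
    · refine orderOf_dvd_of_pow_eq_one ?_
      rw [← QuotientGroup.mk_pow, show (⟨t, ht⟩ : C) ^ orderOf t = 1 from
        Subtype.ext (by simp [pow_orderOf_eq_one])]
      rfl
    · rw [← hKi, index_eq_card]; exact orderOf_dvd_natCard _
  have hVcl : ∀ v ∈ vList, φ v ∈ closure ({φ x1, φ y1} : Set G) := by
    intro v hv
    simp only [vList, List.mem_cons, List.not_mem_nil, or_false] at hv
    rcases hv with rfl | rfl | rfl | rfl
    · rw [d.hφ.map_one]; exact one_mem _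
    · exact subset_closure (by simp)
    · exact subset_closure (by simp)
    · rw [d.hφ.mul _ m1 _ my]; exact mul_mem (subset_closure (by simp)) (subset_closure (by simp))
  have hnineN : ∀ q ∈ nine, q ∈ zGrp ∧ q⁻¹ * x1 * q ∈ vList ∧ q⁻¹ * y1 * q ∈ vList := by decide +kernel
  have hDM : (P : Subgroup G) ≤ normalizer (M : Set G) :=
    CfsgLib.Comp.le_normalizer_of_conj_mem fun s hs t ht => by
      obtain ⟨q, hq, rfl⟩ := h.sylow_surj hs
      obtain ⟨hqm, h1, h2⟩ := hnineN q hq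
      refine hMmem _ (conj_mem_centV (hMC ht) ?_ ?_) ?_
      · rw [show (φ q)⁻¹ * φ x1 * φ q = φ (q⁻¹ * x1 * q) by
          rw [d.hφ.mul _ (mul_mem (inv_mem hqm) m1) _ hqm, d.hφ.mul _ (inv_mem hqm) _ m1, d.hφ.map_inv hqm]]
        exact hVcl _ h1
      · rw [show (φ q)⁻¹ * φ y1 * φ q = φ (q⁻¹ * y1 * q) by
          rw [d.hφ.mul _ (mul_mem (inv_mem hqm) my) _ hqm, d.hφ.mul _ (inv_mem hqm) _ my, d.hφ.map_inv hqm]]
        exact hVcl _ h2
      · rw [show φ q * t * (φ q)⁻¹ = MulAut.conj (φ q) t from rfl, MulEquiv.orderOf_eq]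
        intro h3
        refine hM3 (h3.trans ?_)
        have := orderOf_dvd_natCard (⟨t, ht⟩ : M)
        rwa [Subgroup.orderOf_mk] at this
  have hnine : ∀ s ∈ (P : Subgroup G), ∃ q ∈ nine, φ q = s := fun s hs => h.sylow_surj hs
  have hDea : Cfsg.IsElementaryAbelian 3 (P : Subgroup G) := by
    have hc : ∀ q ∈ nine, q ^ 3 = 1 ∧ ∀ r ∈ nine, q * r = r * q := by decide +kernel
    refine ⟨⟨⟨fun s t => Subtype.ext ?_⟩⟩, fun s hs => ?_⟩
    · obtain ⟨q, hq, hqs⟩ := hnine s s.2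
      obtain ⟨r, hr, hrt⟩ := hnine t t.2
      show (s : G) * t = t * s
      rw [← hqs, ← hrt]
      exact (d.hφ.commute (hnineN q hq).1 (hnineN r hr).1 ((hc q hq).2 r hr)).eq
    · obtain ⟨q, hq, rfl⟩ := hnine s hs
      rw [← d.hφ.map_pow (hnineN q hq).1, (hc q hq).1, d.hφ.map_one]
  have hMgen := CfsgLib.Comp.eq_iSup_centralizer_hyperplane hDea
    (fun e => by have := d.card9; rw [e, Subgroup.card_bot] at this; omega) hM3 hDM
  have hMH : M ≤ h.img := by
    rw [hMgen]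
    refine iSup_le fun B => ?_
    obtain ⟨B, hBD, hBi⟩ := B
    have hB3 : Nat.card B = 3 := by
      have h1 := relIndex_mul_relIndex ⊥ B (P : Subgroup G) bot_le hBD
      rw [relIndex_bot_left, relIndex_bot_left, hBi, d.card9] at h1
      omega
    haveI : Nontrivial B := Finite.one_lt_card_iff_nontrivial.1 (by omega)
    obtain ⟨⟨b, hb⟩, hb1⟩ := exists_ne (1 : B)
    intro t ht
    refine h.cent_sylow_le (hBD hb) (fun e => hb1 (Subtype.ext e)) ?_
    exact mem_centralizer_singleton_iff.2 (mem_centralizer_iff.1 (mem_inf.1 ht).2 b hb).symm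
  intro t ht
  let S : Subgroup C := h.img.comap C.subtype
  have hKS : K ≤ S := fun k hk => hMH ⟨k, hk, rfl⟩
  have hZS : (⟨φ z0, hZC⟩ : C) ∈ S := by
    show φ z0 ∈ h.img
    rw [← h.agreeφ z0 mz]
    exact h.chart.mem z0 (zGrp_le mz)
  have hZK : (⟨φ z0, hZC⟩ : C) ∉ K := by
    intro hk
    refine hM3 ?_
    have hm : φ z0 ∈ M := ⟨_, hk, rfl⟩
    have h' := orderOf_dvd_natCard (⟨φ z0, hm⟩ : M)
    rwa [Subgroup.orderOf_mk, d.orderZ] at h'
  have hS : S = ⊤ := by
    have hd : S.index ∣ 3 := hKi ▸ index_dvd_of_le hKS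
    rcases (Nat.dvd_prime Nat.prime_three).1 hd with e | e
    · exact index_eq_one.1 e
    · exfalso
      have h' := relIndex_mul_index hKS
      rw [e, hKi] at h'
      exact hZK (relIndex_eq_one.1 (by omega) hZS)
  have : (⟨t, ht⟩ : C) ∈ S := hS ▸ mem_top _
  exact this

/-- The centraliser of a conjugate of the four-group. -/
theorem cent_four_le {p : P8} (hp : p ∈ A8) {t : G} (h1 : Commute t (Φ (p * x1 * p⁻¹)))
    (h2 : Commute t (Φ (p * y1 * p⁻¹))) : t ∈ h.img := by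
  obtain ⟨⟨-, -, m1, -⟩, -⟩ := basic_mem
  have my : y1 ∈ zGrp := by decide +kernel
  rw [h.chart.map_conj hp (zGrp_le m1), h.agreeφ x1 m1] at h1
  rw [h.chart.map_conj hp (zGrp_le my), h.agreeφ y1 my] at h2
  have hmem : (Φ p)⁻¹ * t * Φ p ∈ centV φ := by
    have key : ∀ x, Commute t (Φ p * x * (Φ p)⁻¹) → Commute ((Φ p)⁻¹ * t * Φ p) x := by
      intro x hx
      have := hx.map (MulAut.conj (Φ p)⁻¹).toMonoidHom
      simpa [MulAut.conj_apply, mul_assoc] using this
    exact mem_centV.2 ⟨(key _ h1).eq, (key _ h2).eq⟩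
  have := mul_mem (mul_mem (h.chart.mem p hp) (h.centV_le hmem)) (inv_mem (h.chart.mem p hp))
  simpa [mul_assoc] using this

/-- The image contains the normaliser of the four-group. -/
theorem normV_le {n : G}
    (h1 : n * φ x1 * n⁻¹ ∈ [φ x1, φ y1, φ (x1 * y1)])
    (h2 : n * φ y1 * n⁻¹ ∈ [φ x1, φ y1, φ (x1 * y1)]) : n ∈ h.img := by
  have d := h.data
  obtain ⟨⟨-, -, m1, -⟩, -⟩ := basic_mem
  have my : y1 ∈ zGrp := by decide +kernel
  have hall : ∀ u ∈ [x1, y1, x1 * y1], ∀ v ∈ [x1, y1, x1 * y1], u = v ∨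
      ∃ p ∈ [1, sw 1 2 * sw 5 6, sw 1 3 * sw 5 6, sw 2 3 * sw 5 6, th 1 2 3, th 1 3 2],
        p ∈ zGrp ∧ p * x1 * p⁻¹ = u ∧ p * y1 * p⁻¹ = v := by decide +kernel
  obtain ⟨u, hu, hue⟩ : ∃ u ∈ [x1, y1, x1 * y1], φ u = n * φ x1 * n⁻¹ := by
    simp only [List.mem_cons, List.not_mem_nil, or_false] at h1 ⊢
    rcases h1 with e | e | e <;> exact ⟨_, by tauto, e.symm⟩
  obtain ⟨v, hv, hve⟩ : ∃ v ∈ [x1, y1, x1 * y1], φ v = n * φ y1 * n⁻¹ := by
    simp only [List.mem_cons, List.not_mem_nil, or_false] at h2 ⊢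
    rcases h2 with e | e | e <;> exact ⟨_, by tauto, e.symm⟩
  rcases hall u hu v hv with rfl | ⟨p, -, hp, rfl, rfl⟩
  · exfalso
    have he : φ x1 = φ y1 := mul_left_cancel (mul_right_cancel (hue.symm.trans hve))
    exact absurd (d.hφ.inj _ m1 _ my he) (by decide +kernel)
  · have hq : (φ p)⁻¹ * n ∈ centV φ := by
      refine mem_centV.2 ⟨?_, ?_⟩
      · calc (φ p)⁻¹ * n * φ x1 = (φ p)⁻¹ * (n * φ x1 * n⁻¹) * n := by group
          _ = _ := by rw [← hue, d.hφ.map_conj hp m1]; group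
      · calc (φ p)⁻¹ * n * φ y1 = (φ p)⁻¹ * (n * φ y1 * n⁻¹) * n := by group
          _ = _ := by rw [← hve, d.hφ.map_conj hp my]; group
    have := mul_mem (h.agreeφ p hp ▸ h.chart.mem p (zGrp_le hp)) (h.centV_le hq)
    simpa using this

end Glued

end CfsgLib.Recog.AltEight
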