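import Cfsg.Agent.Lib.Recog.AltEight.Code

/-!
Finite facts about the two three-point stabilisers.
-/

set_option autoImplicit false
set_option maxRecDepth 8000

namespace CfsgLib.Recog.AltEight

def nine : List P8 := [1, a0, a0 * a0, z0, a0 * z0, a0 * a0 * z0, z0 * z0, a0 * (z0 * z0), a0 * a0 * (z0 * z0)]

def list36 : List P8 := nine ++ nine.map (· * x2) ++ nine.map (· * x4) ++ nine.map (· * (x2 * x4))

def toTriple : List P8 :=
  [1, sw 2 4 * sw 4 3, sw 2 3 * sw 3 4, sw 1 3 * sw 3 2, sw 1 3 * sw 3 4, sw 1 3 * sw 2 4,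
    sw 0 3 * sw 3 1, sw 0 3 * sw 3 4, sw 0 3 * sw 2 4, sw 0 3 * sw 1 4]

theorem toTriple_mem : ∀ g ∈ toTriple, g ∈ zGrp ∧ g * z0 = z0 * g := by decide +kernel

theorem nine_mem : ∀ q ∈ nine, q ∈ zGrp := by decide +kernel

theorem basic_mem :
    (z0 ∈ zGrp ∧ a0 ∈ zGrp ∧ x1 ∈ zGrp ∧ x2 ∈ zGrp ∧ x4 ∈ zGrp ∧ x5 ∈ zGrp) ∧
    (z0 ∈ aGrp ∧ a0 ∈ aGrp ∧ x2 ∈ aGrp ∧ x3 ∈ aGrp ∧ x4 ∈ aGrp ∧ x5 ∈ aGrp ∧ u0 ∈ aGrp) := by decide +kernel

theorem x5_eq : x5 = z0 * x4 * z0⁻¹ ∨ x5 = z0⁻¹ * x4 * z0 := by decide +kernel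

theorem code_eq_one8_iff {g : P8} : code g = one8 ↔ g = 1 := code_inj

/-- Translate an equation of words to codes. -/
theorem code_eq_of {a b : P8} (h : a = b) : code a = code b := congrArg code h

theorem normal_three {w : P8} (hw : w ∈ zGrp) (h3 : w * w * w = 1) (h1 : w ≠ 1)
    (hc1 : th 0 1 2 * w = w * th 0 1 2) (hc2 : th 2 3 4 * w = w * th 2 3 4) : w = z0 ∨ w = z0 * z0 := by
  have := zCheck hw (fun c => comp (comp c c) c = one8 → c ≠ one8 →
    comp (code (th 0 1 2)) c = comp c (code (th 0 1 2)) → comp (code (th 2 3 4)) c = comp c (code (th 2 3 4)) →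
    c ∈ [z0, z0 * z0].map code) (by decide +kernel)
  simp only [← code_mul, one8, code_inj, ne_eq, mem_map_code] at this
  simpa using this h3 h1 hc1 hc2

theorem to_nine {v : P8} (hv : v ∈ zGrp) (h3 : v * v * v = 1) (hc : z0 * v = v * z0)
    (hn : v ∉ [1, z0, z0 * z0]) : ∃ g ∈ toTriple, g * v * g⁻¹ ∈ nine := by
  have := zCheck hv (fun c => comp (comp c c) c = one8 → comp (code z0) c = comp c (code z0) →
    ¬ c ∈ [1, z0, z0 * z0].map code →
    (toTriple.any fun g => decide (comp (comp (code g) c) (code g⁻¹) ∈ nine.map code)) = true) (by decide +kernel)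
  simp only [← code_mul, one8, code_inj, mem_map_code, List.any_eq_true, decide_eq_true_eq] at this
  exact this h3 hc hn

theorem norm_nine {g : P8} (hg : g ∈ zGrp) (h : g * a0 * g⁻¹ ∈ nine) :
    g ∈ list36 ∧ (g * a0 * g⁻¹ = a0 ∨ g * a0 * g⁻¹ = a0 * a0) := by
  obtain ⟨r, hr, he⟩ : ∃ r ∈ nine, g * a0 = r * g := ⟨_, h, by group⟩
  have := zCheck hg (fun c => (nine.all fun r => decide (comp c (code a0) = comp (code r) c →
    c ∈ list36.map code ∧ (comp c (code a0) = comp (code a0) c ∨ comp c (code a0) = comp (code (a0 * a0)) c))) =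
    true) (by decide +kernel)
  simp only [← code_mul, code_inj, mem_map_code, List.all_eq_true, decide_eq_true_eq] at this
  obtain ⟨h1, h2 | h2⟩ := this r hr he
  · exact ⟨h1, Or.inl (mul_inv_eq_iff_eq_mul.2 h2)⟩
  · exact ⟨h1, Or.inr (mul_inv_eq_iff_eq_mul.2 h2)⟩

theorem inverter {q : P8} (hq : q ∈ aGrp) (e1 : q * a0 = a0 * a0 * q) (e2 : q * z0 = z0 * z0 * q)
    (e3 : q * q = 1) : ∃ τ ∈ nine, τ * x4 * τ⁻¹ = q := by
  have := aCheck hq (fun c => comp c (code a0) = comp (code (a0 * a0)) c →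
    comp c (code z0) = comp (code (z0 * z0)) c → comp c c = one8 →
    c ∈ (nine.map fun τ => τ * x4 * τ⁻¹).map code) (by decide +kernel)
  simp only [← code_mul, one8, code_inj, List.mem_map] at this
  obtain ⟨_, ⟨τ, hτ, rfl⟩, hτe⟩ := this e1 e2 e3
  exact ⟨τ, hτ, hτe⟩

theorem x2_unique {q : P8} (hq : q ∈ aGrp) (e1 : q * a0 = a0 * a0 * q) (e2 : q * z0 = z0 * q)
    (e3 : q * x4 = x4 * q) (e4 : q * q = 1) : q = x2 := by
  have := aCheck hq (fun c => comp c (code a0) = comp (code (a0 * a0)) c →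
    comp c (code z0) = comp (code z0) c → comp c (code x4) = comp (code x4) c → comp c c = one8 →
    c = code x2) (by decide +kernel)
  simp only [← code_mul, one8, code_inj] at this
  exact this e1 e2 e3 e4

end CfsgLib.Recog.AltEight
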