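import Cfsg.Agent.Lib.Recog.AltEight.Chart
import Cfsg.Agent.Lib.Recog.AltEight.ZFacts
import Mathlib.GroupTheory.Sylow
import Mathlib.GroupTheory.SpecificGroups.Dihedral

/-!
From the three-local data to compatible coordinates on the normalisers of the two classes of subgroups of
order three.
-/

set_option autoImplicit false
set_option linter.unusedSectionVars false

namespace CfsgLib.Recog.AltEight

open Subgroup

variable {G : Type*} [Group G] [Finite G]

/-- Compatible coordinates on the normalisers of `φ z0` and `φ a0`. -/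
structure Data (P : Sylow 3 G) (φ ψ : P8 → G) : Prop where
  hφ : Chart φ zGrp (normalizer (zpowers (φ z0) : Set G))
  hψ : Chart ψ aGrp (normalizer (zpowers (φ a0) : Set G))
  ψa : ψ a0 = φ a0
  ψz : ψ z0 = φ z0
  ψ2 : ψ x2 = φ x2
  ψ4 : ψ x4 = φ x4
  ψ5 : ψ x5 = φ x5
  hD : (P : Subgroup G) = closure {φ z0, φ a0}
  card9 : Nat.card (P : Subgroup G) = 9
  selfCent : centralizer ((P : Subgroup G) : Set G) = P
  cardN : Nat.card (normalizer ((P : Subgroup G) : Set G)) = 72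
  cyCard : Nat.card (centralizer ({φ z0 * φ a0} : Set G)) = 18
  conjAZ : IsConj (φ a0) (φ z0)
  cyNorm : centralizer ({φ z0 * φ a0} : Set G) ≤ normalizer ((P : Subgroup G) : Set G)

theorem Data.twist {P : Sylow 3 G} {φ ψ : P8 → G} (d : Data P φ ψ) :
    Data P φ (fun g => ψ (sw 3 4 * g * (sw 3 4)⁻¹)) := by
  obtain ⟨⟨-, -, -, -, -, -⟩, mz, ma, m2, -, m4, m5, -⟩ := basic_mem
  have hs : ∀ g, g ∈ aGrp ↔ sw 3 4 * g * (sw 3 4)⁻¹ ∈ aGrp := by
    intro g
    have hlt : ∀ i : Fin 8, i < 3 ↔ sw 3 4 i < 3 := by decide +kernel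
    have hlt' : ∀ i : Fin 8, i < 3 ↔ (sw 3 4)⁻¹ i < 3 := by decide +kernel
    have hsg : Equiv.Perm.sign (sw 3 4 * g * (sw 3 4)⁻¹) = Equiv.Perm.sign g := by
      simp [mul_comm (Equiv.Perm.sign (sw 3 4)), mul_assoc]
    constructor
    · rintro ⟨h1, h2⟩
      exact ⟨hsg.trans h1, fun i => (hlt' i).trans ((h2 _).trans (hlt _))⟩
    · rintro ⟨h1, h2⟩
      refine ⟨hsg.symm.trans h1, fun i => ?_⟩
      rw [hlt i, h2 (sw 3 4 i), hlt (g i)]
      simp [Equiv.Perm.mul_apply, sw]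
  have fixd : sw 3 4 * a0 * (sw 3 4)⁻¹ = a0 ∧ sw 3 4 * z0 * (sw 3 4)⁻¹ = z0 ∧ sw 3 4 * x2 * (sw 3 4)⁻¹ = x2 ∧
      sw 3 4 * x4 * (sw 3 4)⁻¹ = x4 ∧ sw 3 4 * x5 * (sw 3 4)⁻¹ = x5 := by decide +kernel
  obtain ⟨fa, fz, f2, f4, f5⟩ := fixd
  exact { d with
    hψ := d.hψ.conjIn (sw 3 4) aGrp hs
    ψa := by simp only [fa]; exact d.ψa
    ψz := by simp only [fz]; exact d.ψz
    ψ2 := by simp only [f2]; exact d.ψ2
    ψ4 := by simp only [f4]; exact d.ψ4
    ψ5 := by simp only [f5]; exact d.ψ5 }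

theorem cube_cases {x : G} (hx : x ^ 3 = 1) {g : G} (hg : g ∈ zpowers x) : g = 1 ∨ g = x ∨ g = x * x := by
  obtain ⟨k, rfl⟩ := mem_zpowers_iff.1 hg
  rw [show k = k % 3 + 3 * (k / 3) by omega, _root_.zpow_add, _root_.zpow_mul, show x ^ (3 : ℤ) = 1 by exact_mod_cast hx,
    one_zpow, mul_one]
  rcases (by omega : k % 3 = 0 ∨ k % 3 = 1 ∨ k % 3 = 2) with e | e | e <;> rw [e]
  · exact Or.inl (zpow_zero _)
  · exact Or.inr (Or.inl (zpow_one _))
  · exact Or.inr (Or.inr (zpow_two x))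

theorem card_centralizer_conj (c x : G) :
    Nat.card (centralizer ({c * x * c⁻¹} : Set G)) = Nat.card (centralizer ({x} : Set G)) := by
  have e : centralizer ({c * x * c⁻¹} : Set G) = (centralizer ({x} : Set G)).map (MulAut.conj c).toMonoidHom := by
    ext g
    rw [mem_centralizer_singleton_iff, mem_map]
    constructor
    · intro hg
      refine ⟨c⁻¹ * g * c, mem_centralizer_singleton_iff.2 ?_, by simp [MulAut.conj_apply, mul_assoc]⟩
      have := congrArg (fun t => c⁻¹ * t * c) hg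
      simpa [mul_assoc] using this
    · rintro ⟨h, hh, rfl⟩
      rw [mem_centralizer_singleton_iff] at hh
      simp [MulAut.conj_apply, mul_assoc, ← mul_assoc h x, hh]
  rw [e]
  exact Nat.card_congr (equivMapOfInjective _ _ (MulAut.conj c).injective).toEquiv.symm

theorem mem_zpowers_of_normal {N : Subgroup G} {x n : G} (hN : N = normalizer (zpowers x : Set G)) (hn : n ∈ N) :
    n * x * n⁻¹ ∈ zpowers x := by
  subst hN
  exact (mem_normalizer_iff.1 hn x).1 (mem_zpowers x)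

/-- The coordinates exist. -/
theorem exists_data (P : Sylow 3 G) (D : Subgroup G) (hDP : D = P) (y z : G)
    (hgen : closure {y, z} = D) (hcard : Nat.card D = 9) (hexp : ∀ a ∈ D, a ^ 3 = 1)
    (hcomm : IsMulCommutative D) (hC : centralizer (D : Set G) = D)
    (eN : normalizer (D : Set G) ⧸ D.subgroupOf (normalizer (D : Set G)) ≃* DihedralGroup 4)
    (hycard : Nat.card (centralizer ({y} : Set G)) = 18)
    (hyn : (D.subgroupOf (centralizer ({y} : Set G))).Normal)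
    (eL : normalizer (zpowers z : Set G) ≃*
      (((Equiv.Perm.sign).comp (MonoidHom.fst (Equiv.Perm (Fin 3)) (Equiv.Perm (Fin 5)))) *
        ((Equiv.Perm.sign).comp (MonoidHom.snd (Equiv.Perm (Fin 3)) (Equiv.Perm (Fin 5))))).ker) :
    ∃ φ ψ : P8 → G, Data P φ ψ := by
  classical
  subst hDP
  set D : Subgroup G := (P : Subgroup G) with hDdef
  have hyD : y ∈ D := hgen ▸ subset_closure (by simp)
  have hzD : z ∈ D := hgen ▸ subset_closure (by simp)
  have hDc : ∀ a ∈ D, ∀ b ∈ D, a * b = b * a := fun a ha b hb =>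
    congrArg Subtype.val (hcomm.is_comm.comm ⟨a, ha⟩ ⟨b, hb⟩)
  have hz3 := hexp z hzD
  have hy3 := hexp y hyD
  have hzo : Nat.card (zpowers z) ≤ 3 := by
    rw [Nat.card_zpowers]; exact Nat.le_of_dvd (by norm_num) (orderOf_dvd_of_pow_eq_one hz3)
  have hyz : y ∉ zpowers z := by
    intro h
    have : D ≤ zpowers z := hgen ▸ (closure_le _).2 (by rintro g (rfl | rfl); exacts [h, mem_zpowers g])
    have := Subgroup.card_le_of_le this
    omega
  have hz1 : z ≠ 1 := by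
    rintro rfl
    have : D ≤ zpowers y := hgen ▸ (closure_le _).2 (by rintro g (rfl | rfl); exacts [mem_zpowers g, one_mem _])
    have h := Subgroup.card_le_of_le this
    rw [hcard, Nat.card_zpowers] at h
    have := Nat.le_of_dvd (by norm_num) (orderOf_dvd_of_pow_eq_one hy3)
    omega
  -- the chart from the given isomorphism
  set N := normalizer (zpowers z : Set G) with hNdef
  have hker : ∀ u : Pair, u ∈ (((Equiv.Perm.sign).comp (MonoidHom.fst (Equiv.Perm (Fin 3)) (Equiv.Perm (Fin 5)))) *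
      ((Equiv.Perm.sign).comp (MonoidHom.snd (Equiv.Perm (Fin 3)) (Equiv.Perm (Fin 5))))).ker ↔ Even2 u := by
    intro u
    rw [MonoidHom.mem_ker, MonoidHom.mul_apply]
    show Equiv.Perm.sign u.1 * Equiv.Perm.sign u.2 = 1 ↔ Equiv.Perm.sign u.1 = Equiv.Perm.sign u.2
    rcases Int.units_eq_one_or (Equiv.Perm.sign u.1) with e | e <;>
      rcases Int.units_eq_one_or (Equiv.Perm.sign u.2) with f | f <;> simp [e, f]
  let φ0 : P8 → G := fun g => if h : g ∈ zGrp then
    (eL.symm ⟨Classical.choose (mem_zGrp_iff.1 h), (hker _).2 (Classical.choose_spec (mem_zGrp_iff.1 h)).1⟩ : N)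
    else 1
  have hφ0 : ∀ (u : Pair) (hu : Even2 u), φ0 (emb u) = ((eL.symm ⟨u, (hker u).2 hu⟩ : N) : G) := by
    intro u hu
    have hm : emb u ∈ zGrp := mem_zGrp_iff.2 ⟨u, hu, rfl⟩
    simp only [φ0, dif_pos hm]
    congr 2
    exact Subtype.ext (emb_injective (Classical.choose_spec (mem_zGrp_iff.1 hm)).2)
  have c0 : Chart φ0 zGrp N := by
    refine ⟨?_, ?_, ?_, ?_⟩
    · intro a ha b hb
      obtain ⟨u, hu, rfl⟩ := mem_zGrp_iff.1 ha
      obtain ⟨v, hv, rfl⟩ := mem_zGrp_iff.1 hb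
      have huv : Even2 (u * v) := (hker _).1 (mul_mem ((hker u).2 hu) ((hker v).2 hv))
      rw [← map_mul, hφ0 u hu, hφ0 v hv, hφ0 _ huv, ← Subgroup.coe_mul, ← map_mul]
      rfl
    · intro a ha
      obtain ⟨u, hu, rfl⟩ := mem_zGrp_iff.1 ha
      rw [hφ0 u hu]; exact Subtype.prop _
    · intro n hn
      refine ⟨emb (eL ⟨n, hn⟩).1, mem_zGrp_iff.2 ⟨_, (hker _).1 (eL ⟨n, hn⟩).2, rfl⟩, ?_⟩
      rw [hφ0 _ ((hker _).1 (eL ⟨n, hn⟩).2), Subtype.coe_eta, eL.symm_apply_apply]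
    · intro a ha b hb e
      obtain ⟨u, hu, rfl⟩ := mem_zGrp_iff.1 ha
      obtain ⟨v, hv, rfl⟩ := mem_zGrp_iff.1 hb
      rw [hφ0 u hu, hφ0 v hv] at e
      have := eL.symm.injective (Subtype.ext e)
      simp only [Subtype.mk.injEq] at this
      rw [this]
  -- the given element generates the three-cycle factor
  obtain ⟨w, hw, hwz⟩ := c0.surj z (le_normalizer (mem_zpowers z))
  have hwT : w = z0 ∨ w = z0 * z0 := by
    have hcube : w ^ 3 = 1 := by
      rw [← c0.eq_one_iff (zGrp.pow_mem hw 3), c0.map_pow hw, hwz, hz3]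
    have hne : w ≠ 1 := fun e => hz1 (by rw [← hwz, e, c0.map_one])
    -- elements of order prime to two normalising a group of order three centralise it
    have hcent : ∀ g ∈ zGrp, g ^ 3 = 1 → g * w = w * g := by
      intro g hg hg3
      refine (c0.commute_iff hg hw).1 ?_
      rw [hwz]
      set n := φ0 g with hn
      have hn3 : n ^ 3 = 1 := by rw [hn, ← c0.map_pow hg, hg3, c0.map_one]
      have hm : n * z * n⁻¹ ∈ zpowers z := mem_zpowers_of_normal hNdef (c0.mem g hg)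
      rcases cube_cases hz3 hm with e | e | e
      · exact absurd (conj_eq_one_iff.1 e) hz1
      · exact mul_inv_eq_iff_eq_mul.1 e
      · exfalso
        have e2 : n * (n * z * n⁻¹) * n⁻¹ = z := by
          conv_lhs => rw [e]
          rw [show n * (z * z) * n⁻¹ = (n * z * n⁻¹) * (n * z * n⁻¹) by group, e]
          calc z * z * (z * z) = z ^ 3 * z := by simp [pow_succ, mul_assoc]
            _ = z := by rw [hz3, one_mul]
        have e3 : n * z * n⁻¹ = z := by
          have h := congrArg (fun t => n * t * n⁻¹) e2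
          rw [← h]
          calc n * (n * (n * z * n⁻¹) * n⁻¹) * n⁻¹ = (n ^ 3) * z * (n ^ 3)⁻¹ := by simp [pow_succ, mul_assoc]
            _ = z := by rw [hn3]; simp
        rw [e] at e3
        exact hz1 (mul_eq_left.1 e3)
    have m : ((th 0 1 2 : P8) ∈ zGrp ∧ (th 0 1 2 : P8) ^ 3 = 1) ∧ ((th 2 3 4 : P8) ∈ zGrp ∧ (th 2 3 4 : P8) ^ 3 = 1) := by
      decide +kernel
    exact normal_three hw (by simpa [pow_succ] using hcube) hne (hcent _ m.1.1 m.1.2) (hcent _ m.2.1 m.2.2)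
  obtain ⟨⟨mz, ma, m1, m2, m4, m5⟩, nz, na, n2, n3, n4, n5, -⟩ := basic_mem
  have hφ0z : zpowers (φ0 z0) = zpowers z := by
    have h3 : φ0 z0 ^ 3 = 1 := by rw [← c0.map_pow mz, show z0 ^ 3 = 1 by decide +kernel, c0.map_one]
    rcases hwT with e | e <;> rw [← hwz, e]
    rw [c0.mul _ mz _ mz]
    refine le_antisymm (zpowers_le.2 ?_) (zpowers_le.2 (mul_mem (mem_zpowers _) (mem_zpowers _)))
    have : φ0 z0 = (φ0 z0 * φ0 z0) * (φ0 z0 * φ0 z0) := by
      calc φ0 z0 = φ0 z0 ^ 3 * φ0 z0 := by rw [h3, one_mul]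
        _ = _ := by simp [pow_succ, mul_assoc]
    exact (congrArg (· ∈ zpowers (φ0 z0 * φ0 z0)) this).mpr (mul_mem (mem_zpowers _) (mem_zpowers _))
  -- move the Sylow subgroup into standard position
  have hDN : D ≤ N := fun d hd => by
    refine centralizer_le_normalizer _ ?_
    rw [mem_centralizer_iff]
    rintro _ ⟨k, rfl⟩
    exact hDc _ (zpow_mem hzD k) _ hd
  obtain ⟨v, hv, hvy⟩ := c0.surj y (hDN hyD)
  have hvz : z0 * v = v * z0 := by
    rw [← c0.commute_iff mz hv, hvy]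
    exact hDc _ (zpowers_le.2 hzD (hφ0z ▸ mem_zpowers _)) _ hyD
  have hv3 : v ^ 3 = 1 := by rw [← c0.eq_one_iff (zGrp.pow_mem hv 3), c0.map_pow hv, hvy, hy3]
  have hvnot : v ∉ [1, z0, z0 * z0] := by
    intro h
    refine hyz ?_
    rw [← hvy, ← hφ0z]
    simp only [List.mem_cons, List.not_mem_nil, or_false] at h
    rcases h with rfl | rfl | rfl
    · rw [c0.map_one]; exact one_mem _
    · exact mem_zpowers _
    · rw [c0.mul _ mz _ mz]; exact mul_mem (mem_zpowers _) (mem_zpowers _)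
  obtain ⟨g, hgL, hgv⟩ := to_nine hv (by simpa [pow_succ] using hv3) hvz hvnot
  obtain ⟨hgm, hgz⟩ := toTriple_mem g hgL
  let φ : P8 → G := fun a => φ0 (g⁻¹ * a * (g⁻¹)⁻¹)
  have hφz : φ z0 = φ0 z0 := by
    show φ0 (g⁻¹ * z0 * (g⁻¹)⁻¹) = _
    rw [inv_inv, mul_assoc, ← hgz, inv_mul_cancel_left]
  have cφ : Chart φ zGrp (normalizer (zpowers (φ z0) : Set G)) := by
    rw [hφz, hφ0z]; exact c0.conjIn_mem (zGrp.inv_mem hgm)
  have hzz : zpowers (φ z0) = zpowers z := by rw [hφz]; exact hφ0z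
  set Z := φ z0 with hZ
  set A := φ a0 with hA
  have hZD : Z ∈ D := zpowers_le.2 hzD (hzz ▸ mem_zpowers _)
  have hZ3 : Z ^ 3 = 1 := by rw [hZ, ← cφ.map_pow mz, show z0 ^ 3 = 1 by decide +kernel, cφ.map_one]
  have hA3 : A ^ 3 = 1 := by rw [hA, ← cφ.map_pow ma, show a0 ^ 3 = 1 by decide +kernel, cφ.map_one]
  have hDeq : D = closure {Z, A} := by
    have h9 : ∀ p ∈ nine, p ∈ zGrp := by decide +kernel
    have hcl : ∀ p ∈ nine, φ p ∈ closure {Z, A} := by
      have hz' : Z ∈ closure ({Z, A} : Set G) := subset_closure (by simp)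
      have ha' : A ∈ closure ({Z, A} : Set G) := subset_closure (by simp)
      intro p hp
      simp only [nine, List.mem_cons, List.not_mem_nil, or_false] at hp
      have mza : a0 * a0 ∈ zGrp := mul_mem ma ma
      have mzz : z0 * z0 ∈ zGrp := mul_mem mz mz
      rcases hp with rfl | rfl | rfl | rfl | rfl | rfl | rfl | rfl | rfl <;>
        simp only [cφ.map_one, cφ.mul _ ma _ ma, cφ.mul _ mz _ mz, cφ.mul _ ma _ mz, cφ.mul _ mza _ mz,
          cφ.mul _ ma _ mzz, cφ.mul _ mza _ mzz, ← hZ, ← hA] <;>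
        first
          | exact one_mem _
          | exact hz'
          | exact ha'
          | exact mul_mem ha' hz'
          | exact mul_mem ha' ha'
          | exact mul_mem hz' hz'
          | exact mul_mem (mul_mem ha' ha') hz'
          | exact mul_mem ha' (mul_mem hz' hz')
          | exact mul_mem (mul_mem ha' ha') (mul_mem hz' hz')
    have hzin : z ∈ closure ({Z, A} : Set G) := by
      have : z ∈ zpowers Z := hzz.symm ▸ mem_zpowers z
      exact (zpowers_le.2 (subset_closure (by simp))) this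
    have hyin : y ∈ closure ({Z, A} : Set G) := by
      have : φ (g * v * g⁻¹) = y := by
        show φ0 (g⁻¹ * (g * v * g⁻¹) * (g⁻¹)⁻¹) = y
        rw [show g⁻¹ * (g * v * g⁻¹) * (g⁻¹)⁻¹ = v by group, hvy]
      exact this ▸ hcl _ hgv
    have hle : D ≤ closure ({Z, A} : Set G) := hgen ▸ (closure_le _).2 (by
      rintro t (rfl | rfl); exacts [hyin, hzin])
    refine Subgroup.eq_of_le_of_card_ge hle ?_
    have hcomAZ : Commute Z A := cφ.commute mz ma (by decide +kernel)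
    let f : Fin 3 × Fin 3 → G := fun p => Z ^ (p.1 : ℕ) * A ^ (p.2 : ℕ)
    have hsub : (closure ({Z, A} : Set G) : Set G) ⊆ Set.range f := by
      intro t ht
      induction ht using Subgroup.closure_induction with
      | mem t ht =>
        rcases ht with rfl | rfl
        · exact ⟨(1, 0), by simp [f]⟩
        · exact ⟨(0, 1), by simp [f]⟩
      | one => exact ⟨(0, 0), by simp [f]⟩
      | mul s t _ _ hs ht =>
        obtain ⟨⟨i, j⟩, rfl⟩ := hs
        obtain ⟨⟨k, l⟩, rfl⟩ := ht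
        refine ⟨(i + k, j + l), ?_⟩
        simp only [f, Fin.val_add]
        rw [← pow_eq_pow_mod _ hZ3, ← pow_eq_pow_mod _ hA3, pow_add, pow_add, mul_assoc, mul_assoc,
          ← mul_assoc (Z ^ (k : ℕ)), (hcomAZ.pow_pow (k : ℕ) (j : ℕ)).eq, mul_assoc]
      | inv s _ hs =>
        obtain ⟨⟨i, j⟩, rfl⟩ := hs
        refine ⟨(-i, -j), ?_⟩
        simp only [f]
        refine eq_inv_of_mul_eq_one_left ?_
        rw [mul_assoc, ← mul_assoc (A ^ ((-j : Fin 3) : ℕ)), ((hcomAZ.symm).pow_pow _ (i : ℕ)).eq,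
          mul_assoc (Z ^ (i : ℕ)), ← mul_assoc, ← pow_add, ← pow_add, pow_eq_pow_mod _ hZ3, pow_eq_pow_mod _ hA3,
          ← Fin.val_add, ← Fin.val_add, neg_add_cancel, neg_add_cancel]
        simp
    rw [hcard]
    calc Nat.card (closure ({Z, A} : Set G)) ≤ Nat.card (Set.range f) :=
          Nat.card_mono (Set.toFinite _) hsub
      _ ≤ Nat.card (Fin 3 × Fin 3) := Finite.card_range_le f
      _ = 9 := by simp
  -- the normaliser of the Sylow subgroup
  set ND := normalizer (D : Set G) with hND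
  have hAD : A ∈ D := hDeq ▸ subset_closure (by simp)
  have hNDcard : Nat.card ND = 72 := by
    have h1 := Subgroup.card_mul_index (D.subgroupOf ND)
    rw [Nat.card_congr (Subgroup.subgroupOfEquivOfLe Subgroup.le_normalizer).toEquiv, hcard,
      Subgroup.index_eq_card, Nat.card_congr eN.toEquiv, DihedralGroup.nat_card] at h1
    omega
  have hstab : ∀ n ∈ ND, n * Z * n⁻¹ ∈ zpowers Z →
      n ∈ list36.map φ ∧ (n * A * n⁻¹ = A ∨ n * A * n⁻¹ = A * A) := by
    intro n hn hnZ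
    have hnN : n ∈ normalizer (zpowers Z : Set G) := by
      refine mem_normalizer_iff.2 fun t => ⟨fun ht => ?_, fun ht => ?_⟩
      · obtain ⟨k, rfl⟩ := mem_zpowers_iff.1 ht
        rw [← conj_zpow]; exact zpow_mem hnZ k
      · have hmap : (zpowers Z).map (MulAut.conj n).toMonoidHom = zpowers Z :=
          Subgroup.eq_of_le_of_card_ge (by
            rw [Subgroup.map_le_iff_le_comap, zpowers_le]; simpa [MulAut.conj_apply] using hnZ)
            (le_of_eq (Nat.card_congr (equivMapOfInjective _ _ (MulAut.conj n).injective).toEquiv))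
        rw [← hmap] at ht
        obtain ⟨s, hs, e⟩ := ht
        simp only [MulEquiv.coe_toMonoidHom, MulAut.conj_apply] at e
        rwa [← mul_left_cancel (mul_right_cancel e)]
    obtain ⟨p, hp, rfl⟩ := cφ.surj n hnN
    have hconjA : φ p * A * (φ p)⁻¹ ∈ D := (mem_normalizer_iff.1 hn A).1 hAD
    have h9 : ∀ q ∈ nine, q ∈ zGrp := by decide +kernel
    have hpA : p * a0 * p⁻¹ ∈ zGrp := mul_mem (mul_mem hp ma) (inv_mem hp)
    have himg : ∀ t ∈ D, ∃ q ∈ nine, φ q = t := by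
      intro t ht
      rw [hDeq] at ht
      induction ht using Subgroup.closure_induction with
      | mem t ht =>
        rcases ht with rfl | rfl
        · exact ⟨z0, by decide, rfl⟩
        · exact ⟨a0, by decide, rfl⟩
      | one => exact ⟨1, by decide, cφ.map_one⟩
      | mul s t _ _ hs ht =>
        obtain ⟨q, hq, rfl⟩ := hs
        obtain ⟨r, hr, rfl⟩ := ht
        have hclosed : ∀ q ∈ nine, ∀ r ∈ nine, q * r ∈ nine := by decide +kernel
        exact ⟨q * r, hclosed q hq r hr, cφ.mul _ (h9 q hq) _ (h9 r hr)⟩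
      | inv s _ hs =>
        obtain ⟨q, hq, rfl⟩ := hs
        have hclosed : ∀ q ∈ nine, q⁻¹ ∈ nine := by decide +kernel
        exact ⟨q⁻¹, hclosed q hq, cφ.map_inv (h9 q hq)⟩
    obtain ⟨q, hq, hqe⟩ := himg _ hconjA
    rw [hA, ← cφ.map_conj hp ma] at hqe
    have he := cφ.inj _ (h9 q hq) _ hpA hqe
    obtain ⟨h36, h2⟩ := norm_nine hp (he ▸ hq)
    refine ⟨List.mem_map.2 ⟨_, h36, rfl⟩, ?_⟩
    rcases h2 with e | e
    · exact Or.inl (by rw [hA, ← cφ.map_conj hp ma, e])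
    · exact Or.inr (by rw [hA, ← cφ.map_conj hp ma, e, cφ.mul _ ma _ ma])
  -- an element moving `Z`
  let S : Subgroup G := ND ⊓ normalizer (zpowers Z : Set G)
  have hS36 : Nat.card S ≤ 36 := by
    have hsub : (S : Set G) ⊆ (list36.map φ).toFinset := fun n hn =>
      List.mem_toFinset.2 (hstab n hn.1 (mem_zpowers_of_normal rfl hn.2)).1
    calc Nat.card S ≤ Nat.card ↥((list36.map φ).toFinset : Set G) := Nat.card_mono (Set.toFinite _) hsub
      _ ≤ 36 := by
        rw [Nat.card_coe_set_eq, Set.ncard_coe_finset]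
        exact (List.toFinset_card_le _).trans (by simp [list36, nine])
  obtain ⟨σ, hσ, hσZ⟩ : ∃ σ ∈ ND, σ * Z * σ⁻¹ ∉ zpowers Z := by
    by_contra hcon
    push Not at hcon
    have : ND ≤ S := fun n hn => ⟨hn, by
      obtain ⟨-, hA'⟩ := hstab n hn (hcon n hn)
      refine mem_normalizer_iff.2 fun t => ⟨fun ht => ?_, fun ht => ?_⟩
      · obtain ⟨k, rfl⟩ := mem_zpowers_iff.1 ht
        rw [← conj_zpow]; exact zpow_mem (hcon n hn) k
      · obtain ⟨k, hk⟩ := mem_zpowers_iff.1 ht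
        have h' := hcon n⁻¹ (inv_mem hn)
        rw [inv_inv] at h'
        have : t = (n⁻¹ * Z * n) ^ k := by
          rw [show n⁻¹ * Z * n = n⁻¹ * Z * (n⁻¹)⁻¹ by rw [inv_inv], conj_zpow, hk]; group
        rw [this]; exact zpow_mem h' k⟩
    have := Subgroup.card_le_of_le this
    omega
  -- the Klein group of diagonal elements
  have hc : φ x2 * Z * (φ x2)⁻¹ = Z ∧ φ x2 * A * (φ x2)⁻¹ = A * A := by
    constructor
    · rw [hZ, ← cφ.map_conj m2 mz, show x2 * z0 * x2⁻¹ = z0 by decide +kernel]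
    · rw [hA, ← cφ.map_conj m2 ma, ← cφ.mul _ ma _ ma, show x2 * a0 * x2⁻¹ = a0 * a0 by decide +kernel]
  have hclosedD : ∀ n : G, n * Z * n⁻¹ ∈ D → n * A * n⁻¹ ∈ D → n ∈ ND := by
    intro n h1 h2
    have hmap : D.map (MulAut.conj n).toMonoidHom = D := Subgroup.eq_of_le_of_card_ge (by
        rw [Subgroup.map_le_iff_le_comap, hDeq, closure_le, ← hDeq]
        rintro t (rfl | rfl)
        · simpa [MulAut.conj_apply] using h1
        · simpa [MulAut.conj_apply] using h2)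
      (le_of_eq (Nat.card_congr (equivMapOfInjective _ _ (MulAut.conj n).injective).toEquiv))
    refine mem_normalizer_iff.2 fun t => ⟨fun ht => ?_, fun ht => ?_⟩
    · rw [← hmap]; exact ⟨t, ht, rfl⟩
    · rw [← hmap] at ht
      obtain ⟨s, hs, e⟩ := ht
      simp only [MulEquiv.coe_toMonoidHom, MulAut.conj_apply] at e
      rwa [← mul_left_cancel (mul_right_cancel e)]
  have hc2 : φ x2 ∈ ND := hclosedD _ (hc.1.symm ▸ hZD) (hc.2.symm ▸ mul_mem hAD hAD)
  -- centralisers of `Z` are large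
  have hbig : ∀ x : G, IsConj x Z → Nat.card (centralizer ({x} : Set G)) ≠ 18 := by
    intro x hx h18
    obtain ⟨c, hc'⟩ := isConj_iff.1 hx
    rw [← card_centralizer_conj c x, hc'] at h18
    have mf : th 0 1 2 * th 2 3 4 ∈ zGrp ∧ z0 * (th 0 1 2 * th 2 3 4) = (th 0 1 2 * th 2 3 4) * z0 ∧
        (th 0 1 2 * th 2 3 4) ≠ 1 ∧ (th 0 1 2 * th 2 3 4) ^ 5 = 1 := by decide +kernel
    obtain ⟨mf, cf, nf, pf⟩ := mf
    have ho : orderOf (φ (th 0 1 2 * th 2 3 4)) = 5 := by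
      rw [cφ.orderOf_eq mf]
      exact orderOf_eq_prime (hp := ⟨by norm_num⟩) pf nf
    have hm : φ (th 0 1 2 * th 2 3 4) ∈ centralizer ({Z} : Set G) :=
      mem_centralizer_singleton_iff.2 (cφ.commute mz mf cf).eq.symm
    have h5 := orderOf_dvd_natCard (⟨_, hm⟩ : centralizer ({Z} : Set G))
    rw [Subgroup.orderOf_mk, ho, h18] at h5
    norm_num at h5
  -- the line of `σ Z σ⁻¹` is fixed by the stabiliser
  have hSi : (S.subgroupOf ND).index = 2 := by
    have h1 := Subgroup.card_mul_index (S.subgroupOf ND)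
    rw [Nat.card_congr (Subgroup.subgroupOfEquivOfLe (inf_le_left : S ≤ ND)).toEquiv, hNDcard] at h1
    have h2 : 36 ≤ Nat.card S := by
      have hinj : Function.Injective (fun p : {p : P8 // p ∈ list36.toFinset} =>
          (⟨φ p.1, ?_⟩ : S)) := ?_
      · have := Nat.card_le_card_of_injective _ hinj
        rw [Nat.card_eq_fintype_card, Fintype.card_coe] at this
        exact le_trans (by decide +kernel) this
      · have h36 : ∀ p ∈ list36, p ∈ zGrp ∧ p * a0 * p⁻¹ ∈ nine ∧ (p * z0 * p⁻¹ = z0 ∨ p * z0 * p⁻¹ = z0 * z0) ∧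
            (p * a0 * p⁻¹ = a0 ∨ p * a0 * p⁻¹ = a0 * a0) := by decide +kernel
        obtain ⟨hp, -, hpz, hpa⟩ := h36 p.1 (List.mem_toFinset.1 p.2)
        refine ⟨hclosedD _ ?_ ?_, cφ.mem _ hp⟩
        · rcases hpz with e | e <;> rw [hZ, ← cφ.map_conj hp mz, e]
          · exact hZD
          · rw [cφ.mul _ mz _ mz]; exact mul_mem hZD hZD
        · rcases hpa with e | e <;> rw [hA, ← cφ.map_conj hp ma, e]
          · exact hAD
          · rw [cφ.mul _ ma _ ma]; exact mul_mem hAD hAD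
      · intro p q e
        have h36 : ∀ p ∈ list36, p ∈ zGrp := by decide +kernel
        exact Subtype.ext (cφ.inj _ (h36 _ (List.mem_toFinset.1 p.2)) _ (h36 _ (List.mem_toFinset.1 q.2))
          (congrArg Subtype.val e))
    have h3 : Nat.card S = 36 := le_antisymm hS36 h2
    rw [h3] at h1
    omega
  have hSN : (S.subgroupOf ND).Normal := normal_of_index_eq_two hSi
  have hσA : σ * Z * σ⁻¹ ∈ zpowers A := by
    have hcS : φ x2 ∈ S := ⟨hc2, cφ.mem _ m2⟩
    have h1 : σ⁻¹ * φ x2 * σ ∈ S := by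
      have := hSN.conj_mem ⟨φ x2, hc2⟩ (mem_subgroupOf.2 hcS) ⟨σ, hσ⟩⁻¹
      simpa [mem_subgroupOf] using this
    have h2 := (hstab _ h1.1 (mem_zpowers_of_normal rfl h1.2)).2
    have h3 : φ x2 * (σ * Z * σ⁻¹) * (φ x2)⁻¹ = σ * ((σ⁻¹ * φ x2 * σ) * Z * (σ⁻¹ * φ x2 * σ)⁻¹) * σ⁻¹ := by group
    have h4 := mem_zpowers_of_normal (x := Z) rfl h1.2
    set t := σ * Z * σ⁻¹ with ht
    have ht3 : t ^ 3 = 1 := by rw [ht, conj_pow, hZ3]; simp
    have h5 : φ x2 * t * (φ x2)⁻¹ ∈ zpowers t := by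
      rw [h3]
      obtain ⟨k, hk⟩ := mem_zpowers_iff.1 h4
      rw [← hk, ← conj_zpow, ← ht]
      exact zpow_mem (mem_zpowers _) k
    have htD : t ∈ D := (mem_normalizer_iff.1 hσ Z).1 hZD
    have hexists : ∃ i j : Fin 3, t = Z ^ (i : ℕ) * A ^ (j : ℕ) := by
      rw [hDeq] at htD
      have hcomAZ : Commute Z A := cφ.commute mz ma (by decide +kernel)
      clear_value t
      clear ht ht3 h3 h5 h4 hσZ
      induction htD using Subgroup.closure_induction with
      | mem s hs =>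
        rcases hs with rfl | rfl
        · exact ⟨1, 0, by simp⟩
        · exact ⟨0, 1, by simp⟩
      | one => exact ⟨0, 0, by simp⟩
      | mul r s _ _ hr hs =>
        obtain ⟨i, j, rfl⟩ := hr
        obtain ⟨k, l, rfl⟩ := hs
        refine ⟨i + k, j + l, ?_⟩
        simp only [Fin.val_add]
        rw [← pow_eq_pow_mod _ hZ3, ← pow_eq_pow_mod _ hA3, pow_add, pow_add, mul_assoc, mul_assoc,
          ← mul_assoc (A ^ (j : ℕ)), (hcomAZ.symm.pow_pow (j : ℕ) (k : ℕ)).eq, mul_assoc]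
      | inv r _ hr =>
        obtain ⟨i, j, rfl⟩ := hr
        refine ⟨-i, -j, inv_eq_of_mul_eq_one_right ?_⟩
        rw [mul_assoc, ← mul_assoc (A ^ (j : ℕ)), (hcomAZ.symm.pow_pow (j : ℕ) _).eq,
          mul_assoc (Z ^ ((-i : Fin 3) : ℕ)), ← mul_assoc, ← pow_add, ← pow_add, pow_eq_pow_mod _ hZ3,
          pow_eq_pow_mod _ hA3, ← Fin.val_add, ← Fin.val_add, add_neg_cancel, add_neg_cancel]
        simp
    obtain ⟨i, j, hij⟩ := hexists
    fin_cases i
    · rw [hij]; simp only [pow_zero, one_mul]; exact pow_mem (mem_zpowers _) _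
    all_goals
      fin_cases j
      · exfalso; apply hσZ; rw [hij]; simp only [pow_zero, mul_one]; exact pow_mem (mem_zpowers _) _
      all_goals
        exfalso
        -- `x2` would not fix the line
        have mZA : ∀ (i j : Fin 3), z0 ^ (i : ℕ) * a0 ^ (j : ℕ) ∈ zGrp := fun i j =>
          mul_mem (zGrp.pow_mem mz _) (zGrp.pow_mem ma _)
        have key : ∀ (i j k : Fin 3), i ≠ 0 → j ≠ 0 →
            x2 * (z0 ^ (i : ℕ) * a0 ^ (j : ℕ)) * x2⁻¹ ≠ (z0 ^ (i : ℕ) * a0 ^ (j : ℕ)) ^ (k : ℕ) := by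
          decide +kernel
        have hk : ∃ k : Fin 3, φ x2 * t * (φ x2)⁻¹ = t ^ (k : ℕ) := by
          rcases cube_cases ht3 h5 with e | e | e
          · exact ⟨0, by simpa using e⟩
          · exact ⟨1, by simpa using e⟩
          · exact ⟨2, by rw [e]; exact (pow_two t).symm⟩
        obtain ⟨k, hk⟩ := hk
        rw [hij, hZ, hA, ← cφ.map_pow mz, ← cφ.map_pow ma,
          ← cφ.mul _ (zGrp.pow_mem mz _) _ (zGrp.pow_mem ma _), ← cφ.map_conj m2 (mZA _ _),
          ← cφ.map_pow (mZA _ _)] at hk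
        exact key _ _ k (by decide) (by decide)
          (cφ.inj _ (mul_mem (mul_mem m2 (mZA _ _)) (inv_mem m2)) _ (zGrp.pow_mem (mZA _ _) _) hk)
  have hAz : σ * A * σ⁻¹ ∈ zpowers Z := by
    have h1 : σ * σ ∈ S := by
      refine ⟨mul_mem hσ hσ, ?_⟩
      have : (⟨σ, hσ⟩ : ND) * ⟨σ, hσ⟩ ∈ S.subgroupOf ND :=
        (Subgroup.mul_mem_iff_of_index_two hSi).2 Iff.rfl
      exact (mem_subgroupOf.1 this).2
    have h2 := mem_zpowers_of_normal (x := Z) rfl h1.2
    rcases cube_cases hA3 hσA with e | e | e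
    · exact absurd (conj_eq_one_iff.1 e) (fun e' => hz1 (by
        have := hzz ▸ mem_zpowers z
        rw [e', zpowers_one_eq_bot, mem_bot] at this; exact this))
    · rw [show σ * σ * Z * (σ * σ)⁻¹ = σ * (σ * Z * σ⁻¹) * σ⁻¹ by group, e] at h2; exact h2
    · rw [show σ * σ * Z * (σ * σ)⁻¹ = σ * (σ * Z * σ⁻¹) * σ⁻¹ by group, e,
        show σ * (A * A) * σ⁻¹ = (σ * A * σ⁻¹) * (σ * A * σ⁻¹) by group] at h2
      have h3 : (σ * A * σ⁻¹) ^ 3 = 1 := by rw [conj_pow, hA3]; simp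
      have : σ * A * σ⁻¹ = (σ * A * σ⁻¹ * (σ * A * σ⁻¹)) * (σ * A * σ⁻¹ * (σ * A * σ⁻¹)) := by
        calc σ * A * σ⁻¹ = (σ * A * σ⁻¹) ^ 3 * (σ * A * σ⁻¹) := by rw [h3, one_mul]
          _ = _ := by simp [pow_succ, mul_assoc]
      rw [this]; exact mul_mem h2 h2
  -- which cosets are `y`
  have mza : z0 * a0 ∈ zGrp := mul_mem mz ma
  have mzaa : z0 * (a0 * a0) ∈ zGrp := mul_mem mz (mul_mem ma ma)
  have hAconj : IsConj A Z ∧ IsConj (A * A) Z := by
    have hinvc : φ x4 * A * (φ x4)⁻¹ = A * A := by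
      rw [hA, ← cφ.map_conj m4 ma, ← cφ.mul _ ma _ ma, show x4 * a0 * x4⁻¹ = a0 * a0 by decide +kernel]
    have hAne : A ≠ 1 := fun e => by
      have := (cφ.eq_one_iff ma).1 e
      exact absurd this (by decide +kernel)
    have hinvz : φ x4 * Z * (φ x4)⁻¹ = Z * Z := by
      rw [hZ, ← cφ.map_conj m4 mz, ← cφ.mul _ mz _ mz, show x4 * z0 * x4⁻¹ = z0 * z0 by decide +kernel]
    have hAA : IsConj A (A * A) := isConj_iff.2 ⟨_, hinvc⟩
    rcases cube_cases hZ3 hAz with e | e | e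
    · exact absurd (conj_eq_one_iff.1 e) hAne
    · exact ⟨isConj_iff.2 ⟨σ, e⟩, hAA.symm.trans (isConj_iff.2 ⟨σ, e⟩)⟩
    · have hZZ : IsConj Z (Z * Z) := isConj_iff.2 ⟨_, hinvz⟩
      have h := (isConj_iff.2 ⟨σ, e⟩ : IsConj A (Z * Z)).trans hZZ.symm
      exact ⟨h, hAA.symm.trans h⟩
  have hy_cases : IsConj y (Z * A) := by
    have hyD' := hyD
    rw [hDeq] at hyD'
    have hcomAZ : Commute Z A := cφ.commute mz ma (by decide +kernel)
    have hcases : ∃ q ∈ nine, φ q = y := ⟨g * v * g⁻¹, hgv, by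
      show φ0 (g⁻¹ * (g * v * g⁻¹) * (g⁻¹)⁻¹) = y
      rw [show g⁻¹ * (g * v * g⁻¹) * (g⁻¹)⁻¹ = v by group, hvy]⟩
    obtain ⟨q, hq, hqy⟩ := hcases
    have hno : q ∉ [1, z0, z0 * z0] ∧ q ∉ [a0, a0 * a0] := by
      constructor
      · intro h
        refine hyz ?_
        rw [← hqy, ← hzz]
        simp only [List.mem_cons, List.not_mem_nil, or_false] at h
        rcases h with rfl | rfl | rfl
        · rw [cφ.map_one]; exact one_mem _
        · exact mem_zpowers _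
        · rw [cφ.mul _ mz _ mz]; exact mul_mem (mem_zpowers _) (mem_zpowers _)
      · intro h
        simp only [List.mem_cons, List.not_mem_nil, or_false] at h
        rcases h with rfl | rfl
        · exact hbig y (hqy ▸ hAconj.1) hycard
        · exact hbig y (hqy ▸ by rw [cφ.mul _ ma _ ma]; exact hAconj.2) hycard
    have hlist : ∀ q ∈ nine, q ∉ [1, z0, z0 * z0] → q ∉ [a0, a0 * a0] →
        q = z0 * a0 ∨ x2 * q * x2⁻¹ = z0 * a0 ∨ x4 * q * x4⁻¹ = z0 * a0 ∨
          (x2 * x4) * q * (x2 * x4)⁻¹ = z0 * a0 := by decide +kernel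
    have hqm : q ∈ zGrp := (show ∀ q ∈ nine, q ∈ zGrp by decide +kernel) q hq
    have hZA : φ (z0 * a0) = Z * A := cφ.mul _ mz _ ma
    rcases hlist q hq hno.1 hno.2 with e | e | e | e
    · rw [← hqy, e, hZA]
    · exact isConj_iff.2 ⟨φ x2, by rw [← hqy, ← cφ.map_conj m2 hqm, e, hZA]⟩
    · exact isConj_iff.2 ⟨φ x4, by rw [← hqy, ← cφ.map_conj m4 hqm, e, hZA]⟩
    · exact isConj_iff.2 ⟨φ (x2 * x4), by rw [← hqy, ← cφ.map_conj (mul_mem m2 m4) hqm, e, hZA]⟩
  obtain ⟨c, hcy⟩ := isConj_iff.1 hy_cases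
  have hyN : centralizer ({Z * A} : Set G) ≤ ND := by
    intro t ht
    have hcD : c * y * c⁻¹ ∈ D := hcy.symm ▸ mul_mem hZD hAD
    -- the subgroup is the only one of order nine in the centraliser
    have hu : c⁻¹ * t * c ∈ centralizer ({y} : Set G) := by
      rw [mem_centralizer_singleton_iff] at ht ⊢
      rw [← hcy] at ht
      have := congrArg (fun s => c⁻¹ * s * c) ht
      simpa [mul_assoc] using this
    have hDy : D ≤ centralizer ({y} : Set G) := fun d hd =>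
      mem_centralizer_singleton_iff.2 (hDc d hd y hyD)
    have hsub : (P : Subgroup G).subgroupOf (centralizer ({y} : Set G)) =
        (D.map (MulAut.conj c⁻¹).toMonoidHom).subgroupOf (centralizer ({y} : Set G)) := by
      have hle : D.map (MulAut.conj c⁻¹).toMonoidHom ≤ centralizer ({y} : Set G) := by
        rintro _ ⟨d, hd, rfl⟩
        rw [mem_centralizer_singleton_iff]
        have := hDc d hd _ hcD
        have := congrArg (fun s => c⁻¹ * s * c) this
        simpa [MulAut.conj_apply, mul_assoc] using this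
      have hc9 : Nat.card (D.map (MulAut.conj c⁻¹).toMonoidHom) = 9 := by
        rw [← hcard]
        exact (Nat.card_congr (equivMapOfInjective _ _ (MulAut.conj c⁻¹).injective).toEquiv).symm
      symm
      refine Subgroup.eq_of_le_of_card_ge ?_ ?_
      · haveI := hyn
        set C := centralizer ({y} : Set G)
        intro t ht
        have hq : Nat.card (C ⧸ D.subgroupOf C) = 2 := by
          have h1 := Subgroup.card_mul_index (D.subgroupOf C)
          rw [Nat.card_congr (Subgroup.subgroupOfEquivOfLe hDy).toEquiv, hcard, hycard, index_eq_card] at h1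
          omega
        have h1 : orderOf (QuotientGroup.mk' (D.subgroupOf C) t) ∣ 2 := hq ▸ orderOf_dvd_natCard _
        have h2 : orderOf (QuotientGroup.mk' (D.subgroupOf C) t) ∣ 3 := by
          refine orderOf_dvd_of_pow_eq_one ?_
          obtain ⟨d, hd, he⟩ := ht
          have : t ^ 3 = 1 := Subtype.ext (by
            have he' : (MulAut.conj c⁻¹).toMonoidHom d = (t : G) := he
            rw [Subgroup.coe_pow, ← he', ← map_pow, hexp d hd, map_one]; rfl)
          rw [← map_pow, this, map_one]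
        have h3 := Nat.dvd_gcd h1 h2
        norm_num at h3
        exact h3
      · rw [Nat.card_congr (Subgroup.subgroupOfEquivOfLe hDy).toEquiv,
          Nat.card_congr (Subgroup.subgroupOfEquivOfLe hle).toEquiv, hc9, hcard]
    have hn : ∀ d ∈ D, c⁻¹ * d * c ∈ D ∧ (c⁻¹ * t * c) * d * (c⁻¹ * t * c)⁻¹ ∈ D := by
      intro d hd
      constructor
      · have hm : c⁻¹ * d * c ∈ D.map (MulAut.conj c⁻¹).toMonoidHom := ⟨d, hd, by simp [MulAut.conj_apply]⟩
        have hcen : c⁻¹ * d * c ∈ centralizer ({y} : Set G) := by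
          rw [mem_centralizer_singleton_iff]
          have := congrArg (fun s => c⁻¹ * s * c) (hDc d hd _ hcD)
          simpa [mul_assoc] using this
        have : (⟨_, hcen⟩ : centralizer ({y} : Set G)) ∈ (D.map (MulAut.conj c⁻¹).toMonoidHom).subgroupOf _ :=
          mem_subgroupOf.2 hm
        rw [← hsub] at this
        exact mem_subgroupOf.1 this
      · have := hyn.conj_mem ⟨d, hDy hd⟩ (mem_subgroupOf.2 hd) ⟨_, hu⟩
        simpa [mem_subgroupOf] using this
    have hcND : c⁻¹ ∈ ND := hclosedD _ (by simpa using (hn Z hZD).1) (by simpa using (hn A hAD).1)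
    have htND : c⁻¹ * t * c ∈ ND := hclosedD _ (hn Z hZD).2 (hn A hAD).2
    have := mul_mem (mul_mem (inv_mem hcND) htND) hcND
    simpa [mul_assoc] using this
  have hcy18 : Nat.card (centralizer ({Z * A} : Set G)) = 18 := by
    rw [← hcy, card_centralizer_conj]; exact hycard
  -- the chart on the second normaliser
  let ψ0 : P8 → G := fun a => σ * φ (rho * a * rho⁻¹) * σ⁻¹
  have hσN : ∀ n, n ∈ normalizer (zpowers Z : Set G) ↔ σ * n * σ⁻¹ ∈ normalizer (zpowers A : Set G) := by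
    have e : zpowers A = (zpowers Z).map (MulAut.conj σ).toMonoidHom := by
      rw [MonoidHom.map_zpowers]
      show zpowers A = zpowers (σ * Z * σ⁻¹)
      refine (Subgroup.eq_of_le_of_card_ge (zpowers_le.2 hσA) ?_).symm
      rw [Nat.card_zpowers, Nat.card_zpowers, show σ * Z * σ⁻¹ = MulAut.conj σ Z from rfl,
        MulEquiv.orderOf_eq (MulAut.conj σ) Z]
      rw [cφ.orderOf_eq ma, cφ.orderOf_eq mz]
      exact le_of_eq (by
        rw [orderOf_eq_prime (p := 3) (by decide +kernel) (by decide +kernel),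
          orderOf_eq_prime (p := 3) (by decide +kernel) (by decide +kernel)])
    intro n
    rw [e, ← Subgroup.map_equiv_normalizer_eq]
    exact ⟨fun h => ⟨n, h, rfl⟩, fun ⟨m, hm, he⟩ => by
      simp only [MulEquiv.coe_toMonoidHom, MulAut.conj_apply] at he
      rwa [← mul_left_cancel (mul_right_cancel he)]⟩
  have cψ0 : Chart ψ0 aGrp (normalizer (zpowers A : Set G)) :=
    (cφ.conjOut σ _ hσN).conjIn rho aGrp fun a => by rw [rho_inv]; exact conj_rho_mem
  have eρ : rho * a0 * rho⁻¹ = z0 ∧ rho * z0 * rho⁻¹ = a0 := by decide +kernel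
  have hψa : ψ0 a0 ∈ zpowers A := by
    show σ * φ (rho * a0 * rho⁻¹) * σ⁻¹ ∈ _; rw [eρ.1]; exact hσA
  have hψz : ψ0 z0 ∈ zpowers Z := by
    show σ * φ (rho * z0 * rho⁻¹) * σ⁻¹ ∈ _; rw [eρ.2]; exact hAz
  -- fix the generators
  obtain ⟨e, he, hea, hez⟩ : ∃ e : P8, (∀ a, a ∈ aGrp ↔ e * a * e⁻¹ ∈ aGrp) ∧
      ψ0 (e * a0 * e⁻¹) = A ∧ ψ0 (e * z0 * e⁻¹) = Z := by
    have hstep : ∀ (a : P8), a ∈ aGrp → a ^ 3 = 1 → a ≠ 1 → ∀ (X : G), X ^ 3 = 1 → ψ0 a ∈ zpowers X →
        ψ0 a = X ∨ ψ0 (a * a) = X := by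
      intro a ha ha3 ha1 X hX hmem
      rcases cube_cases hX hmem with h | h | h
      · exact absurd ((cψ0.eq_one_iff ha).1 h) ha1
      · exact Or.inl h
      · right
        rw [cψ0.mul _ ha _ ha, h]
        calc X * X * (X * X) = X ^ 3 * X := by simp [pow_succ, mul_assoc]
          _ = X := by rw [hX, one_mul]
    have mall : ∀ e ∈ [(1 : P8), sw 0 1, sw 5 6, sw 0 1 * sw 5 6],
        (∀ i : Fin 8, i < 3 ↔ e i < 3) ∧ (∀ i : Fin 8, i < 3 ↔ e⁻¹ i < 3) := by decide +kernel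
    have hmem : ∀ e ∈ [(1 : P8), sw 0 1, sw 5 6, sw 0 1 * sw 5 6], ∀ a, a ∈ aGrp ↔ e * a * e⁻¹ ∈ aGrp := by
      intro e he a
      obtain ⟨h1, h2⟩ := mall e he
      have hsg : Equiv.Perm.sign (e * a * e⁻¹) = Equiv.Perm.sign a := by
        simp [mul_comm (Equiv.Perm.sign e), mul_assoc]
      constructor
      · rintro ⟨s1, s2⟩
        exact ⟨hsg.trans s1, fun i => (h2 i).trans ((s2 _).trans (h1 _))⟩
      · rintro ⟨s1, s2⟩
        refine ⟨hsg.symm.trans s1, fun i => ?_⟩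
        rw [h1 i, s2 (e i), h1 (a i)]
        simp [Equiv.Perm.mul_apply]
    have k : (1 * a0 * (1 : P8)⁻¹ = a0 ∧ 1 * z0 * (1 : P8)⁻¹ = z0) ∧
        (sw 0 1 * a0 * (sw 0 1)⁻¹ = a0 * a0 ∧ sw 0 1 * z0 * (sw 0 1)⁻¹ = z0) ∧
        (sw 5 6 * a0 * (sw 5 6)⁻¹ = a0 ∧ sw 5 6 * z0 * (sw 5 6)⁻¹ = z0 * z0) ∧
        (sw 0 1 * sw 5 6 * a0 * (sw 0 1 * sw 5 6)⁻¹ = a0 * a0 ∧
          sw 0 1 * sw 5 6 * z0 * (sw 0 1 * sw 5 6)⁻¹ = z0 * z0) := by decide +kernel
    obtain ⟨⟨k1, k2⟩, ⟨k3, k4⟩, ⟨k5, k6⟩, k7, k8⟩ := k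
    rcases hstep a0 na (by decide +kernel) (by decide +kernel) A hA3 hψa with ea | ea <;>
      rcases hstep z0 nz (by decide +kernel) (by decide +kernel) Z hZ3 hψz with ez | ez
    · exact ⟨1, hmem 1 (by simp), by rw [k1]; exact ea, by rw [k2]; exact ez⟩
    · exact ⟨sw 5 6, hmem _ (by simp), by rw [k5]; exact ea, by rw [k6]; exact ez⟩
    · exact ⟨sw 0 1, hmem _ (by simp), by rw [k3]; exact ea, by rw [k4]; exact ez⟩
    · exact ⟨sw 0 1 * sw 5 6, hmem _ (by simp), by rw [k7]; exact ea, by rw [k8]; exact ez⟩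
  let ψ1 : P8 → G := fun a => ψ0 (e * a * e⁻¹)
  have cψ1 : Chart ψ1 aGrp (normalizer (zpowers A : Set G)) := cψ0.conjIn e aGrp he
  -- the inverting involution
  have h4N : φ x4 ∈ normalizer (zpowers A : Set G) := by
    have hi : φ x4 * A * (φ x4)⁻¹ = A * A := by
      rw [hA, ← cφ.map_conj m4 ma, ← cφ.mul _ ma _ ma, show x4 * a0 * x4⁻¹ = a0 * a0 by decide +kernel]
    have h2 : φ x4 * φ x4 = 1 := by
      rw [← cφ.mul _ m4 _ m4, show x4 * x4 = 1 by decide +kernel, cφ.map_one]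
    have hinv : (φ x4)⁻¹ = φ x4 := inv_eq_of_mul_eq_one_right h2
    have hf : ∀ t ∈ zpowers A, φ x4 * t * (φ x4)⁻¹ ∈ zpowers A := by
      intro t ht
      obtain ⟨k, rfl⟩ := mem_zpowers_iff.1 ht
      rw [← conj_zpow, hi]; exact zpow_mem (mul_mem (mem_zpowers _) (mem_zpowers _)) k
    refine mem_normalizer_iff.2 fun t => ⟨hf t, fun ht => ?_⟩
    have := hf _ ht
    rw [hinv] at this
    rwa [show φ x4 * (φ x4 * t * φ x4) * φ x4 = (φ x4 * φ x4) * t * (φ x4 * φ x4) by group, h2, one_mul,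
      mul_one] at this
  obtain ⟨q4, hq4, hq4e⟩ := cψ1.surj _ h4N
  obtain ⟨τ, hτ, hτe⟩ : ∃ τ ∈ nine, τ * x4 * τ⁻¹ = q4 := by
    have e1 : q4 * a0 = a0 * a0 * q4 := cψ1.inj _ (mul_mem hq4 na) _ (mul_mem (mul_mem na na) hq4) (by
      rw [cψ1.mul _ hq4 _ na, cψ1.mul _ (mul_mem na na) _ hq4, cψ1.mul _ na _ na, hq4e,
        show ψ1 a0 = A from hea, hA, ← cφ.mul _ m4 _ ma, ← cφ.mul _ ma _ ma, ← cφ.mul _ (mul_mem ma ma) _ m4,
        show x4 * a0 = a0 * a0 * x4 by decide +kernel])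
    have e2 : q4 * z0 = z0 * z0 * q4 := cψ1.inj _ (mul_mem hq4 nz) _ (mul_mem (mul_mem nz nz) hq4) (by
      rw [cψ1.mul _ hq4 _ nz, cψ1.mul _ (mul_mem nz nz) _ hq4, cψ1.mul _ nz _ nz, hq4e,
        show ψ1 z0 = Z from hez, hZ, ← cφ.mul _ m4 _ mz, ← cφ.mul _ mz _ mz, ← cφ.mul _ (mul_mem mz mz) _ m4,
        show x4 * z0 = z0 * z0 * x4 by decide +kernel])
    have e3 : q4 * q4 = 1 := by
      rw [← cψ1.eq_one_iff (mul_mem hq4 hq4), cψ1.mul _ hq4 _ hq4, hq4e, ← cφ.mul _ m4 _ m4,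
        show x4 * x4 = 1 by decide +kernel, cφ.map_one]
    exact inverter hq4 e1 e2 e3
  have hnineA : ∀ τ ∈ nine, τ ∈ aGrp ∧ τ * a0 * τ⁻¹ = a0 ∧ τ * z0 * τ⁻¹ = z0 := by decide +kernel
  obtain ⟨hτm, hτa, hτz⟩ := hnineA τ hτ
  let ψ : P8 → G := fun a => ψ1 (τ * a * τ⁻¹)
  have cψ : Chart ψ aGrp (normalizer (zpowers A : Set G)) := cψ1.conjIn_mem hτm
  have sa : ψ a0 = φ a0 := by show ψ1 (τ * a0 * τ⁻¹) = _; rw [hτa]; exact hea
  have sz : ψ z0 = φ z0 := by show ψ1 (τ * z0 * τ⁻¹) = _; rw [hτz]; exact hez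
  have s4 : ψ x4 = φ x4 := by show ψ1 (τ * x4 * τ⁻¹) = _; rw [hτe]; exact hq4e
  have s5 : ψ x5 = φ x5 := by
    rcases x5_eq with e' | e'
    · rw [e', cψ.map_conj nz n4, cφ.map_conj mz m4, sz, s4]
    · rw [e', show z0⁻¹ * x4 * z0 = z0⁻¹ * x4 * (z0⁻¹)⁻¹ by rw [inv_inv],
        cψ.map_conj (inv_mem nz) n4, cφ.map_conj (inv_mem mz) m4, cψ.map_inv nz, cφ.map_inv mz, sz, s4]
  have h2N : φ x2 ∈ normalizer (zpowers A : Set G) := by
    have hi : φ x2 * A * (φ x2)⁻¹ = A * A := hc.2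
    have h2 : φ x2 * φ x2 = 1 := by
      rw [← cφ.mul _ m2 _ m2, show x2 * x2 = 1 by decide +kernel, cφ.map_one]
    have hinv : (φ x2)⁻¹ = φ x2 := inv_eq_of_mul_eq_one_right h2
    have hf : ∀ t ∈ zpowers A, φ x2 * t * (φ x2)⁻¹ ∈ zpowers A := by
      intro t ht
      obtain ⟨k, rfl⟩ := mem_zpowers_iff.1 ht
      rw [← conj_zpow, hi]; exact zpow_mem (mul_mem (mem_zpowers _) (mem_zpowers _)) k
    refine mem_normalizer_iff.2 fun t => ⟨hf t, fun ht => ?_⟩
    have := hf _ ht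
    rw [hinv] at this
    rwa [show φ x2 * (φ x2 * t * φ x2) * φ x2 = (φ x2 * φ x2) * t * (φ x2 * φ x2) by group, h2, one_mul,
      mul_one] at this
  obtain ⟨q2, hq2, hq2e⟩ := cψ.surj _ h2N
  have s2 : ψ x2 = φ x2 := by
    have e1 : q2 * a0 = a0 * a0 * q2 := cψ.inj _ (mul_mem hq2 na) _ (mul_mem (mul_mem na na) hq2) (by
      rw [cψ.mul _ hq2 _ na, cψ.mul _ (mul_mem na na) _ hq2, cψ.mul _ na _ na, hq2e, sa,
        ← cφ.mul _ m2 _ ma, ← cφ.mul _ ma _ ma, ← cφ.mul _ (mul_mem ma ma) _ m2,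
        show x2 * a0 = a0 * a0 * x2 by decide +kernel])
    have e2 : q2 * z0 = z0 * q2 := cψ.inj _ (mul_mem hq2 nz) _ (mul_mem nz hq2) (by
      rw [cψ.mul _ hq2 _ nz, cψ.mul _ nz _ hq2, hq2e, sz, ← cφ.mul _ m2 _ mz, ← cφ.mul _ mz _ m2,
        show x2 * z0 = z0 * x2 by decide +kernel])
    have e3 : q2 * x4 = x4 * q2 := cψ.inj _ (mul_mem hq2 n4) _ (mul_mem n4 hq2) (by
      rw [cψ.mul _ hq2 _ n4, cψ.mul _ n4 _ hq2, hq2e, s4, ← cφ.mul _ m2 _ m4, ← cφ.mul _ m4 _ m2,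
        show x2 * x4 = x4 * x2 by decide +kernel])
    have e4 : q2 * q2 = 1 := by
      rw [← cψ.eq_one_iff (mul_mem hq2 hq2), cψ.mul _ hq2 _ hq2, hq2e, ← cφ.mul _ m2 _ m2,
        show x2 * x2 = 1 by decide +kernel, cφ.map_one]
    have := x2_unique hq2 e1 e2 e3 e4
    exact (congrArg ψ this).symm.trans hq2e
  exact ⟨φ, ψ, cφ, cψ, sa, sz, s2, s4, s5, hDeq, hcard, hC, hNDcard, hcy18, hAconj.1, hyN⟩

end CfsgLib.Recog.AltEight
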