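import Cfsg.Agent.Lib.Recog.AltEight.Range
import Cfsg.Agent.Lib.Recog.AltEight.Eight
import Cfsg.Agent.Lib.Recog.SymEight.Tools

/-!
The centralisers of involutions lie in the image of the alternating group of degree eight.
-/

set_option autoImplicit false
set_option linter.unusedSectionVars false
set_option linter.style.haveILetI false
set_option maxRecDepth 8000
set_option maxHeartbeats 1000000

namespace CfsgLib.Recog.AltEight

open Subgroup
open CfsgLib.Recog.SymEight (fixCount fixCount_conj powB pairMaps inverts_of_no_fixed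
  eq_one_of_inverted_centralized commute_of_isolated isConj_half_mul)

local notation "A8" => alternatingGroup (Fin 8)

theorem x1_mem8 : x1 ∈ A8 := zGrp_le (by decide +kernel)
theorem y1_mem8 : y1 ∈ A8 := zGrp_le (by decide +kernel)
theorem z0_mem8 : z0 ∈ A8 := zGrp_le (by decide +kernel)
theorem u0_mem8 : u0 ∈ A8 := aGrp_le (by decide +kernel)
theorem u1_mem8 : u1 ∈ A8 := aGrp_le (by decide +kernel)
theorem w8_mem8 : w8 ∈ A8 := Equiv.Perm.mem_alternatingGroup.2 (by decide +kernel)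
theorem s8_mem8 : s8 ∈ A8 := Equiv.Perm.mem_alternatingGroup.2 (by decide +kernel)
theorem x4_mem8 : x4 ∈ A8 := Equiv.Perm.mem_alternatingGroup.2 (by decide +kernel)

variable {G : Type*} [Group G] [Finite G] {P : Sylow 3 G} {φ ψ Φ : P8 → G}

namespace Glued

variable (h : Glued P φ ψ Φ)
include h

theorem orderOf_two {a : P8} (ha : a ∈ A8) (h2 : a * a = 1) (h1 : a ≠ 1) : orderOf (Φ a) = 2 := by
  haveI : Fact (Nat.Prime 2) := ⟨Nat.prime_two⟩
  rw [h.chart.orderOf_eq ha]
  exact orderOf_eq_prime (by rw [pow_two, h2]) h1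

theorem lift_invol {v : G} (hv : v ∈ h.img) (ho : orderOf v = 2) :
    ∃ a ∈ A8, Φ a = v ∧ a * a = 1 ∧ a ≠ 1 := by
  obtain ⟨a, ha, rfl⟩ := h.chart.surj v hv
  rw [h.chart.orderOf_eq ha] at ho
  refine ⟨a, ha, rfl, by rw [← pow_two, ← ho, pow_orderOf_eq_one], fun e => ?_⟩
  rw [e, orderOf_one] at ho
  omega

theorem T_x1 : φ x1 = Φ x1 := (h.agreeφ x1 (by decide +kernel)).symm

theorem T_y1 : φ y1 = Φ y1 := (h.agreeφ y1 (by decide +kernel)).symm

theorem T_xy : φ (x1 * y1) = Φ x1 * Φ y1 := by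
  rw [← h.chart.mul _ x1_mem8 _ y1_mem8, h.agreeφ (x1 * y1) (by decide +kernel)]

theorem order_of_isConj {v : G} (hv : IsConj (Φ x1) v) : orderOf v = 2 := by
  obtain ⟨c, rfl⟩ := isConj_iff.1 hv
  rw [show c * Φ x1 * c⁻¹ = MulAut.conj c (Φ x1) from rfl, MulEquiv.orderOf_eq]
  exact h.orderOf_two x1_mem8 (by decide +kernel) (by decide +kernel)

/-- The class of `Φ x1` is read off from the fixed points. -/
theorem isConj_iff_fix {a : P8} (ha : a ∈ A8) (h2 : a * a = 1) (h1 : a ≠ 1) :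
    IsConj (Φ x1) (Φ a) ↔ fixCount a = 4 := by
  rcases invol_alt ha h2 h1 with ⟨⟨p, hp, rfl⟩, h4⟩ | ⟨⟨p, hp, rfl⟩, h0⟩
  · refine iff_of_true (isConj_iff.2 ⟨Φ p, ?_⟩) h4
    rw [h.chart.map_conj hp x1_mem8]
  · refine iff_of_false (fun hc => ?_) (by omega)
    have h' : IsConj (φ x1) (Φ w8) := by
      rw [h.T_x1]
      refine hc.trans (isConj_iff.2 ⟨(Φ p)⁻¹, ?_⟩)
      rw [h.chart.map_conj hp w8_mem8]
      group
    refine h.data.not_isConj_w ?_ h'
    obtain ⟨⟨mz, ma, -⟩, -⟩ := basic_mem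
    rw [← h.data.hφ.mul _ mz _ ma, ← h.agreeφ _ (mul_mem mz ma)]
    exact h.chart.commute w8_mem8 (zGrp_le (mul_mem mz ma)) (by decide +kernel)

theorem isConj_y1 : IsConj (Φ x1) (Φ y1) :=
  (h.isConj_iff_fix y1_mem8 (by decide +kernel) (by decide +kernel)).2 (by decide +kernel)

/-- Further elements of the class centralising the four-group lie on the other side. -/
theorem four_profile {c : G} (hc : c ∈ centV φ) (hT : IsConj (Φ x1) c) (n1 : c ≠ Φ x1) (n2 : c ≠ Φ y1)
    (n3 : c ≠ Φ x1 * Φ y1) : ¬ IsConj (Φ x1) (c * Φ x1) ∧ ¬ IsConj (Φ x1) (c * Φ y1) := by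
  obtain ⟨h1, h2⟩ := mem_centV.1 hc
  obtain ⟨a, ha, rfl, ha2, ha1⟩ := h.lift_invol (h.centV_le hc) (h.order_of_isConj hT)
  rw [h.T_x1] at h1
  rw [h.T_y1] at h2
  have hx : Commute a x1 := (h.chart.commute_iff ha x1_mem8).1 h1
  have hy : Commute a y1 := (h.chart.commute_iff ha y1_mem8).1 h2
  have h4 := (h.isConj_iff_fix ha ha2 ha1).1 hT
  rcases four_cent hx hy ha2 ha1 h4 with rfl | rfl | rfl | ⟨e1, e2⟩
  · exact absurd rfl n1
  · exact absurd rfl n2
  · exact absurd (h.chart.mul _ x1_mem8 _ y1_mem8) n3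
  · rw [← h.chart.mul _ ha _ x1_mem8, ← h.chart.mul _ ha _ y1_mem8,
      h.isConj_iff_fix (mul_mem ha x1_mem8) ?_ (ne_one_of_fix e1 (by omega)),
      h.isConj_iff_fix (mul_mem ha y1_mem8) ?_ (ne_one_of_fix e2 (by omega))]
    · omega
    · rw [← pow_two, hy.mul_pow, pow_two, pow_two, ha2, show y1 * y1 = 1 by decide +kernel, one_mul]
    · rw [← pow_two, hx.mul_pow, pow_two, pow_two, ha2, show x1 * x1 = 1 by decide +kernel, one_mul]

/-- A subgroup of odd order normalised by the centraliser of `Φ x1` and centralising it is trivial. -/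
theorem odd_trivial {O : Subgroup G} (hOK : O ≤ centralizer ({Φ x1} : Set G))
    (hn : ∀ k ∈ centralizer ({Φ x1} : Set G), ∀ r ∈ O, k * r * k⁻¹ ∈ O) (hodd : Odd (Nat.card O)) :
    O = ⊥ := by
  have hOH : ∀ r ∈ O, r ∈ h.img → r = 1 := by
    intro r hr hH
    obtain ⟨a, ha, rfl⟩ := h.chart.surj r hH
    have hax : Commute a x1 := (h.chart.commute_iff ha x1_mem8).1 (mem_centralizer_singleton_iff.1 (hOK hr))
    have hpow : ∀ b ∈ A8, Φ b ∈ O → b ^ 105 = 1 := by
      intro b hb hbO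
      have ho : Odd (orderOf b) := by
        rw [← h.chart.orderOf_eq hb]
        refine hodd.of_dvd_nat ?_
        have := orderOf_dvd_natCard (⟨Φ b, hbO⟩ : O)
        rwa [Subgroup.orderOf_mk] at this
      rw [← orderOf_dvd_iff_pow_eq_one, ← Equiv.Perm.lcm_cycleType, Multiset.lcm_dvd]
      intro n hn
      have h1 : n ∣ orderOf b := Equiv.Perm.dvd_of_mem_cycleType hn
      have h2 := Equiv.Perm.two_le_of_mem_cycleType hn
      have h3 : n ≤ 8 := (Equiv.Perm.le_card_support_of_mem_cycleType hn).trans (by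
        simpa using Finset.card_le_univ b.support)
      obtain ⟨m, rfl⟩ := ho.of_dvd_nat h1
      rcases (show m = 1 ∨ m = 2 ∨ m = 3 by omega) with rfl | rfl | rfl <;> norm_num
    have hU : Φ u0 ∈ centralizer ({Φ x1} : Set G) :=
      mem_centralizer_singleton_iff.2 (h.chart.commute u0_mem8 x1_mem8 (by decide +kernel)).eq
    have hu2 : u0 * u0 = 1 := by decide +kernel
    have hmem : a * u0 * a⁻¹ * u0 ∈ A8 := mul_mem (mul_mem (mul_mem ha u0_mem8) (inv_mem ha)) u0_mem8
    have hco : (a * u0 * a⁻¹ * u0) ^ 105 = 1 := hpow _ hmem (by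
      rw [show a * u0 * a⁻¹ * u0 = a * (u0 * a⁻¹ * u0⁻¹) by
          rw [inv_eq_of_mul_eq_one_right hu2]; group,
        h.chart.mul _ ha _ (mul_mem (mul_mem u0_mem8 (inv_mem ha)) (inv_mem u0_mem8)),
        h.chart.map_conj u0_mem8 (inv_mem ha), h.chart.map_inv ha]
      exact mul_mem hr (hn _ hU _ (inv_mem hr)))
    rw [odd_cent_x1 hax (hpow a ha hr) hco, h.chart.map_one]
  have hYK : Φ y1 ∈ centralizer ({Φ x1} : Set G) :=
    mem_centralizer_singleton_iff.2 (h.chart.commute y1_mem8 x1_mem8 (by decide +kernel)).eq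
  have hZK : Φ z0 ∈ centralizer ({Φ x1} : Set G) :=
    mem_centralizer_singleton_iff.2 (h.chart.commute z0_mem8 x1_mem8 (by decide +kernel)).eq
  have hU0K : Φ u0 ∈ centralizer ({Φ x1} : Set G) :=
    mem_centralizer_singleton_iff.2 (h.chart.commute u0_mem8 x1_mem8 (by decide +kernel)).eq
  have hU1K : Φ u1 ∈ centralizer ({Φ x1} : Set G) :=
    mem_centralizer_singleton_iff.2 (h.chart.commute u1_mem8 x1_mem8 (by decide +kernel)).eq
  have hY2 : Φ y1 * Φ y1 = 1 := by
    rw [← h.chart.mul _ y1_mem8 _ y1_mem8, show y1 * y1 = 1 by decide +kernel, h.chart.map_one]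
  -- it is abelian
  have hYinv : ∀ r ∈ O, Φ y1 * r * Φ y1 = r⁻¹ := by
    refine inverts_of_no_fixed hY2 (fun r hr => ?_) fun r hr hc => hOH r hr (h.centV_le ?_)
    · have := hn _ hYK r hr
      rwa [inv_eq_of_mul_eq_one_right hY2] at this
    · rw [mem_centV, h.T_x1, h.T_y1]
      exact ⟨mem_centralizer_singleton_iff.1 (hOK hr), hc.eq.symm⟩
  have hab : ∀ r ∈ O, ∀ s ∈ O, r * s = s * r := by
    intro r hr s hs
    have e : Φ y1 * (r * s) * Φ y1 = r⁻¹ * s⁻¹ := by
      calc Φ y1 * (r * s) * Φ y1 = Φ y1 * r * (Φ y1 * Φ y1) * s * Φ y1 := by rw [hY2]; group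
        _ = Φ y1 * r * Φ y1 * (Φ y1 * s * Φ y1) := by group
        _ = _ := by rw [hYinv r hr, hYinv s hs]
    rw [hYinv _ (mul_mem hr hs), mul_inv_rev] at e
    calc r * s = (s⁻¹ * r⁻¹)⁻¹ := by group
      _ = (r⁻¹ * s⁻¹)⁻¹ := by rw [e]
      _ = s * r := by group
  set Z := Φ z0 with hZdef
  set U := Φ u0 with hUdef
  set V := Φ u1 with hVdef
  obtain ⟨cu, cv, cuv, ez, eu, ev⟩ : u0 * u0 = 1 ∧ u1 * u1 = 1 ∧ u0 * u1 = u1 * u0 ∧ z0 * z0 * z0 = 1 ∧
      z0 * u0 * z0⁻¹ = u1 ∧ z0 * u1 * z0⁻¹ = u0 * u1 := by decide +kernel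
  have hU2 : U * U = 1 := by rw [hUdef, ← h.chart.mul _ u0_mem8 _ u0_mem8, cu, h.chart.map_one]
  have hV2 : V * V = 1 := by rw [hVdef, ← h.chart.mul _ u1_mem8 _ u1_mem8, cv, h.chart.map_one]
  have hUV : U * V = V * U := h.chart.commute u0_mem8 u1_mem8 cuv
  have hZ3 : Z * Z * Z = 1 := by
    rw [hZdef, ← h.chart.mul _ z0_mem8 _ z0_mem8, ← h.chart.mul _ (mul_mem z0_mem8 z0_mem8) _ z0_mem8, ez,
      h.chart.map_one]
  have hZU : Z * U * Z⁻¹ = V := by rw [hZdef, hUdef, ← h.chart.map_conj z0_mem8 u0_mem8, eu]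
  have hZV : Z * V * Z⁻¹ = U * V := by
    rw [hZdef, hVdef, ← h.chart.map_conj z0_mem8 u1_mem8, ev, h.chart.mul _ u0_mem8 _ u1_mem8]
  have hWfix : ∀ r ∈ O, Commute r U → Commute r V → r = 1 := by
    intro r hr hrU hrV
    obtain ⟨p, hp, e1, e2⟩ : ∃ p : P8, Equiv.Perm.sign p = 1 ∧ p * x1 * p⁻¹ = u0 ∧ p * y1 * p⁻¹ = u1 :=
      ⟨sw 0 4 * sw 1 5 * sw 2 6 * sw 3 7, by decide +kernel⟩
    exact hOH r hr (h.cent_four_le (Equiv.Perm.mem_alternatingGroup.2 hp) (by rw [e1]; exact hrU)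
      (by rw [e2]; exact hrV))
  have hZfix : ∀ r ∈ O, Z * r * Z⁻¹ = r → r = 1 := by
    intro r hr hc
    refine hOH r hr (h.normZ_le (mem_normalizer_zpowers_of_commute ?_))
    rw [← h.agreeφ z0 (by decide +kernel)]
    exact (mul_inv_eq_iff_eq_mul.1 hc).symm
  have conj_inv : ∀ {k x r : G}, x * r * x = r⁻¹ →
      (k * x * k⁻¹) * (k * r * k⁻¹) * (k * x * k⁻¹) = (k * r * k⁻¹)⁻¹ := by
    intro k x r e
    calc (k * x * k⁻¹) * (k * r * k⁻¹) * (k * x * k⁻¹) = k * (x * r * x) * k⁻¹ := by group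
      _ = _ := by rw [e]; group
  have hUfix : ∀ r ∈ O, Commute r U → r = 1 := by
    intro r hr hrU
    refine hWfix r hr hrU ?_
    have hVr : V * r * V ∈ O := by
      have := hn _ hU1K r hr
      rwa [inv_eq_of_mul_eq_one_right hV2] at this
    have hq : r * (V * r * V)⁻¹ ∈ O := mul_mem hr (inv_mem hVr)
    obtain ⟨q, hqdef⟩ : ∃ q, r * (V * r * V)⁻¹ = q := ⟨_, rfl⟩
    rw [hqdef] at hq
    have hVi : V⁻¹ = V := inv_eq_of_mul_eq_one_right hV2
    have hUi : U⁻¹ = U := inv_eq_of_mul_eq_one_right hU2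
    have hqU : U * q * U = q := by
      have hc : Commute q U := by
        have hVU : Commute V U := hUV.symm
        rw [← hqdef]
        exact hrU.mul_left ((hVU.mul_left hrU).mul_left hVU).inv_left
      rw [← hc.eq, mul_assoc, hU2, mul_one]
    have hqV : V * q * V = q⁻¹ := by
      rw [← hqdef]
      simp only [mul_inv_rev, hVi, inv_inv, mul_assoc, hV2, mul_one]
    set q1 := Z * q * Z⁻¹
    set q2 := Z * q1 * Z⁻¹
    have hq1 : q1 ∈ O := hn _ hZK q hq
    have hq2 : q2 ∈ O := hn _ hZK q1 hq1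
    have hq1V : V * q1 * V = q1 := by
      calc V * q1 * V = (Z * U * Z⁻¹) * (Z * q * Z⁻¹) * (Z * U * Z⁻¹) := by rw [hZU]
        _ = Z * (U * q * U) * Z⁻¹ := by group
        _ = q1 := by rw [hqU]
    have hq1W : (U * V) * q1 * (U * V) = q1⁻¹ := hZV ▸ conj_inv hqV
    have hq1U : U * q1 * U = q1⁻¹ := by
      calc U * q1 * U = U * (V * q1 * V) * U := by rw [hq1V]
        _ = (U * V) * q1 * (V * U) := by group
        _ = q1⁻¹ := by rw [← hUV, hq1W]
    have hZW : Z * (U * V) * Z⁻¹ = U := by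
      calc Z * (U * V) * Z⁻¹ = (Z * U * Z⁻¹) * (Z * V * Z⁻¹) := by group
        _ = V * (V * U) := by rw [hZU, hZV, hUV]
        _ = U := by rw [← mul_assoc, hV2, one_mul]
    have hq2U : U * q2 * U = q2⁻¹ := hZW ▸ conj_inv hq1W
    have hprod : q * q1 * q2 = 1 := by
      refine hZfix _ (mul_mem (mul_mem hq hq1) hq2) ?_
      have e3 : Z * q2 * Z⁻¹ = q := by
        calc Z * q2 * Z⁻¹ = (Z * Z * Z) * q * (Z * Z * Z)⁻¹ := by simp only [q2, q1]; group
          _ = q := by rw [hZ3]; group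
      calc Z * (q * q1 * q2) * Z⁻¹ = (Z * q * Z⁻¹) * (Z * q1 * Z⁻¹) * (Z * q2 * Z⁻¹) := by group
        _ = (q1 * q2) * q := by rw [e3]
        _ = q * (q1 * q2) := hab _ (mul_mem hq1 hq2) _ hq
        _ = q * q1 * q2 := by group
    have e : q * q1⁻¹ * q2⁻¹ = 1 := by
      calc q * q1⁻¹ * q2⁻¹ = (U * q * U) * (U * q1 * U) * (U * q2 * U) := by rw [hqU, hq1U, hq2U]
        _ = U * q * (U * U) * q1 * (U * U) * q2 * U := by group
        _ = U * (q * q1 * q2) * U := by rw [hU2]; group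
        _ = 1 := by rw [hprod, mul_one, hU2]
    have hqq : q = q⁻¹ := by
      have h1 : q1 * q2 = q⁻¹ := eq_inv_of_mul_eq_one_right (by rw [← mul_assoc, hprod])
      have h2 : q = q2 * q1 := by
        calc q = (q * q1⁻¹ * q2⁻¹) * (q2 * q1) := by group
          _ = q2 * q1 := by rw [e, one_mul]
      rw [← h1, hab _ hq1 _ hq2]
      exact h2
    have hq1' := eq_one_of_inverted_centralized hodd hq hqq
    rw [← hqdef, mul_inv_eq_one] at hq1'
    calc r * V = (V * r * V) * V := by rw [← hq1']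
      _ = V * r := by rw [mul_assoc (V * r), hV2, mul_one]
  have hUinv : ∀ r ∈ O, U * r * U = r⁻¹ := by
    refine inverts_of_no_fixed hU2 (fun r hr => ?_) fun r hr hc => hUfix r hr hc.symm
    have := hn _ hU0K r hr
    rwa [inv_eq_of_mul_eq_one_right hU2] at this
  have hback : ∀ r ∈ O, Z⁻¹ * r * Z ∈ O := fun r hr => by
    have := hn _ (inv_mem hZK) r hr
    rwa [inv_inv] at this
  have hVinv : ∀ r ∈ O, V * r * V = r⁻¹ := fun r hr => by
    have := conj_inv (k := Z) (hUinv _ (hback r hr))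
    rwa [hZU, show Z * (Z⁻¹ * r * Z) * Z⁻¹ = r by group] at this
  have hWinv : ∀ r ∈ O, (U * V) * r * (U * V) = r⁻¹ := fun r hr => by
    have := conj_inv (k := Z) (hVinv _ (hback r hr))
    rwa [hZV, show Z * (Z⁻¹ * r * Z) * Z⁻¹ = r by group] at this
  rw [eq_bot_iff]
  intro r hr
  rw [mem_bot]
  refine eq_one_of_inverted_centralized hodd hr ?_
  calc r = U * (V * r * V) * U := by
        rw [hVinv r hr, hUinv _ (inv_mem hr), inv_inv]
    _ = (U * V) * r * (V * U) := by group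
    _ = r⁻¹ := by rw [← hUV, hWinv r hr]

/-- The centraliser of `Φ x1`. -/
theorem cent_x1_le : centralizer ({Φ x1} : Set G) ≤ h.img := by
  classical
  haveI : Fact (Nat.Prime 2) := ⟨Nat.prime_two⟩
  set T := Φ x1 with hT
  set Y := Φ y1 with hY
  set K := centralizer ({T} : Set G) with hK
  have hTo : orderOf T = 2 := h.order_of_isConj (IsConj.refl _)
  have hTY : Commute T Y := h.chart.commute x1_mem8 y1_mem8 (by decide +kernel)
  have hYo : orderOf Y = 2 := h.order_of_isConj h.isConj_y1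
  have hTYne : T ≠ Y := fun e => absurd (h.chart.inj _ x1_mem8 _ y1_mem8 e) (by decide +kernel)
  let tK : K := ⟨T, mem_centralizer_singleton_iff.2 rfl⟩
  let yK : K := ⟨Y, mem_centralizer_singleton_iff.2 hTY.eq.symm⟩
  let N : Subgroup K := zpowers tK
  have hNc : N ≤ center K := zpowers_le.2 (mem_center_iff.2 fun g => Subtype.ext
    (mem_centralizer_singleton_iff.1 g.2))
  haveI hNn : N.Normal := ⟨fun n hn g => by
    have hg : g * n = n * g := mem_center_iff.1 (hNc hn) g
    rwa [hg, mul_inv_cancel_right]⟩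
  have hto : orderOf tK = 2 := by rw [Subgroup.orderOf_mk, hTo]
  have hN2 : Nat.card N = 2 := by rw [Nat.card_zpowers, hto]
  have hNcases : ∀ n ∈ N, (n : G) = 1 ∨ (n : G) = T := by
    intro n hn
    obtain ⟨k, rfl⟩ := mem_zpowers_iff.1 hn
    rw [← zpow_mod_orderOf, hto]
    rcases Int.emod_two_eq_zero_or_one k with e | e <;> simp [e, tK]
  -- the odd core is trivial
  have hO : Cfsg.oddCore K = ⊥ := by
    haveI hn : (Cfsg.oddCore K).Normal := CfsgLib.Solvable.pPrimeCore_normal 2 _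
    have hmap : (Cfsg.oddCore K).map K.subtype = ⊥ := by
      refine h.odd_trivial (map_subtype_le _) ?_ ?_
      · rintro k hk _ ⟨r, hr, rfl⟩
        exact ⟨_, hn.conj_mem r hr ⟨k, hk⟩, by simp⟩
      · rw [Nat.card_congr (equivMapOfInjective _ _ K.subtype_injective).toEquiv.symm]
        exact CfsgLib.Invol.odd_card_oddCore K
    exact (map_eq_bot_iff_of_injective _ K.subtype_injective).1 hmap
  have hOq : Cfsg.oddCore (K ⧸ N) = ⊥ := CfsgLib.Perm.AbelianZStar.oddCore_quotient_eq_bot hO N hNc hN2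
  have hmkN : ∀ a b : K, (QuotientGroup.mk a : K ⧸ N) = QuotientGroup.mk b → (b : G) = a ∨ (b : G) = a * T := by
    intro a b e
    rcases hNcases _ (QuotientGroup.eq.1 e) with e' | e'
    · left
      simpa [inv_mul_eq_one, eq_comm] using e'
    · right
      simpa [inv_mul_eq_iff_eq_mul] using e'
  -- the image of `Φ y1` is isolated
  have hiso : Cfsg.IsIsolatedInvolution (QuotientGroup.mk yK : K ⧸ N) := by
    refine ⟨orderOf_eq_prime ?_ ?_, fun gq => ?_⟩
    · rw [← QuotientGroup.mk_pow, show yK ^ 2 = 1 from Subtype.ext (by simp [yK, ← hYo, pow_orderOf_eq_one])]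
      rfl
    · intro e
      rcases hNcases _ ((QuotientGroup.eq_one_iff yK).1 e) with e' | e'
      · have e'' : Y = 1 := e'
        rw [e'', orderOf_one] at hYo
        omega
      · exact hTYne e'.symm
    obtain ⟨g, rfl⟩ := QuotientGroup.mk_surjective gq
    intro hcom
    set i : G := (g : G) * Y * (g : G)⁻¹ with hi
    have hgT : Commute (g : G) T := mem_centralizer_singleton_iff.1 g.2
    have hiT : Commute i T := (hgT.mul_left hTY.symm).mul_left hgT.inv_left
    have hiY : i * Y * i⁻¹ = Y ∨ i * Y * i⁻¹ = T * Y := by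
      have e : (QuotientGroup.mk (yK * (g * yK * g⁻¹)) : K ⧸ N) = QuotientGroup.mk ((g * yK * g⁻¹) * yK) := hcom
      rcases hmkN _ _ e with e' | e'
      · left
        have e'' : i * Y = Y * i := e'
        rw [e'', mul_inv_cancel_right]
      · right
        have e'' : i * Y = Y * i * T := e'
        calc i * Y * i⁻¹ = Y * (i * T * i⁻¹) := by rw [e'']; group
          _ = Y * T := by rw [hiT.eq, mul_inv_cancel_right]
          _ = T * Y := hTY.eq.symm
    have hTi : IsConj T i := h.isConj_y1.trans (isConj_iff.2 ⟨g, rfl⟩)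
    have hiimg : i ∈ h.img := by
      refine h.normV_le ?_ ?_
      · rw [h.T_x1, h.T_y1, h.T_xy, hiT.eq, mul_inv_cancel_right]
        simp
        exact Or.inl hT
      · rw [h.T_x1, h.T_y1, h.T_xy]
        rcases hiY with e | e <;> simp [← hT, ← hY, e]
    obtain ⟨a, ha, hae, ha2, ha1⟩ := h.lift_invol hiimg (h.order_of_isConj hTi)
    have hax : Commute a x1 := (h.chart.commute_iff ha x1_mem8).1 (by rw [hae]; exact hiT.eq)
    have ha4 : fixCount a = 4 := (h.isConj_iff_fix ha ha2 ha1).1 (hae.symm ▸ hTi)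
    have hax2 : (a * x1) * (a * x1) = 1 := by
      rw [← pow_two, hax.mul_pow, pow_two, pow_two, ha2, show x1 * x1 = 1 by decide +kernel, one_mul]
    have hax1 : a * x1 ≠ 1 := by
      intro e
      have ea : a = x1 := by rw [eq_inv_of_mul_eq_one_left e]; decide +kernel
      rw [ea, ← hT] at hae
      have : T = Y := by
        calc T = (g : G)⁻¹ * (T * g) := by rw [← hgT.eq]; group
          _ = (g : G)⁻¹ * ((g * Y * (g : G)⁻¹) * g) := by rw [← hi, ← hae]
          _ = Y := by group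
      exact hTYne this
    have hiTT : IsConj T (i * T) := by
      have h1 : IsConj T (Y * T) := by
        rw [hT, hY, ← h.chart.mul _ y1_mem8 _ x1_mem8]
        exact (h.isConj_iff_fix (mul_mem y1_mem8 x1_mem8) (by decide +kernel) (by decide +kernel)).2
          (by decide +kernel)
      refine h1.trans (isConj_iff.2 ⟨g, ?_⟩)
      calc (g : G) * (Y * T) * (g : G)⁻¹ = i * ((g : G) * T * (g : G)⁻¹) := by rw [hi]; group
        _ = i * T := by rw [hgT.eq, mul_inv_cancel_right]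
    have hax4 : fixCount (a * x1 : P8) = 4 :=
      (h.isConj_iff_fix (mul_mem ha x1_mem8) hax2 hax1).1 (by
        rw [h.chart.mul _ ha _ x1_mem8, hae]; exact hiTT)
    rcases cand_exists hax ha2 ha1 ha4 hax4 with rfl | rfl | ⟨c, hc, hca, hc1, hc2, hc3, hc4⟩
    · show (QuotientGroup.mk (g * yK * g⁻¹) : K ⧸ N) = _
      congr 1
      exact Subtype.ext hae.symm
    · show (QuotientGroup.mk (g * yK * g⁻¹) : K ⧸ N) = _
      rw [show g * yK * g⁻¹ = tK * yK from Subtype.ext
        (hae.symm.trans (h.chart.mul _ x1_mem8 _ y1_mem8)), QuotientGroup.mk_mul,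
        (QuotientGroup.eq_one_iff tK).2 (mem_zpowers tK), one_mul]
    · exfalso
      obtain ⟨hcs, hcc, hcne, hc4', hcx⟩ := cands_facts c hc
      have hcm : c ∈ A8 := Equiv.Perm.mem_alternatingGroup.2 hcs
      set C := Φ c with hC
      have hCT : Commute C T := h.chart.commute hcm x1_mem8 hcx
      have hCi : Commute C i := hae ▸ h.chart.commute hcm ha hca
      set c' := (g : G)⁻¹ * C * g with hc'
      have hback : C = g * c' * (g : G)⁻¹ := by rw [hc']; group
      have hgT' : (g : G) * T * (g : G)⁻¹ = T := by rw [hgT.eq, mul_inv_cancel_right]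
      have hc'V : c' ∈ centV φ := by
        rw [mem_centV, h.T_x1, h.T_y1, ← hT, ← hY]
        constructor
        · calc c' * T = (g : G)⁻¹ * (C * (g * T * (g : G)⁻¹)) * g := by rw [hc']; group
            _ = (g : G)⁻¹ * ((g * T * (g : G)⁻¹) * C) * g := by rw [hgT', hCT.eq]
            _ = T * c' := by rw [hc']; group
        · calc c' * Y = (g : G)⁻¹ * (C * i) * g := by rw [hc', hi]; group
            _ = (g : G)⁻¹ * (i * C) * g := by rw [hCi.eq]
            _ = Y * c' := by rw [hc', hi]; group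
      have hTC : IsConj T C := (h.isConj_iff_fix hcm hcc hcne).2 hc4'
      have hTc' : IsConj T c' := hTC.trans (isConj_iff.2 ⟨(g : G)⁻¹, by rw [hc']; group⟩)
      have hn1 : c' ≠ T := fun e => hc1 (h.chart.inj _ hcm _ x1_mem8 (by
        rw [← hC, hback, e, hgT']))
      have hn2 : c' ≠ Y := fun e => hc2 (h.chart.inj _ hcm _ ha (by
        rw [← hC, hback, e, ← hi, hae]))
      have hn3 : c' ≠ T * Y := fun e => hc3 (h.chart.inj _ hcm _ (mul_mem ha x1_mem8) (by
        rw [← hC, hback, e, h.chart.mul _ ha _ x1_mem8, hae, hiT.eq]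
        calc (g : G) * (T * Y) * (g : G)⁻¹ = (g * T * (g : G)⁻¹) * (g * Y * (g : G)⁻¹) := by group
          _ = T * i := by rw [hgT', ← hi]))
      obtain ⟨p1, p2⟩ := h.four_profile hc'V hTc' hn1 hn2 hn3
      rcases hc4 with e | e
      · refine p1 (IsConj.trans ((h.isConj_iff_fix (mul_mem hcm x1_mem8) ?_ (ne_one_of_fix e (by omega))).2 e)
          (isConj_iff.2 ⟨(g : G)⁻¹, ?_⟩))
        · rw [← pow_two, (show Commute c x1 from hcx).mul_pow, pow_two, pow_two, hcc,
            show x1 * x1 = 1 by decide +kernel, one_mul]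
        · rw [h.chart.mul _ hcm _ x1_mem8, ← hC, ← hT]
          calc (g : G)⁻¹ * (C * T) * (g : G)⁻¹⁻¹ = c' * ((g : G)⁻¹ * (T * g)) := by rw [hc']; group
            _ = c' * T := by rw [← hgT.eq]; group
      · refine p2 (IsConj.trans ((h.isConj_iff_fix (mul_mem hcm ha) ?_ (ne_one_of_fix e (by omega))).2 e)
          (isConj_iff.2 ⟨(g : G)⁻¹, ?_⟩))
        · rw [← pow_two, (show Commute c a from hca).mul_pow, pow_two, pow_two, hcc, ha2, one_mul]
        · rw [h.chart.mul _ hcm _ ha, ← hC, hae, ← hY, hc', hi]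
          group
  intro k hk
  have hc := (commute_of_isolated hiso hOq (QuotientGroup.mk (⟨k, hk⟩ : K))).eq
  have hkT : Commute k T := mem_centralizer_singleton_iff.1 hk
  refine h.normV_le ?_ ?_
  · rw [h.T_x1, h.T_y1, h.T_xy, ← hT, hkT.eq, mul_inv_cancel_right]
    simp
  · rw [h.T_x1, h.T_y1, h.T_xy, ← hT, ← hY]
    rcases hmkN (yK * (⟨k, hk⟩ : K)) ((⟨k, hk⟩ : K) * yK)
        (by rw [QuotientGroup.mk_mul, QuotientGroup.mk_mul]; exact hc.symm) with e | e
    · have e' : k * Y = Y * k := e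
      rw [e', mul_inv_cancel_right]
      simp
    · have e' : k * Y = Y * k * T := e
      have : k * Y * k⁻¹ = T * Y := by
        calc k * Y * k⁻¹ = Y * (k * T * k⁻¹) := by rw [e']; group
          _ = Y * T := by rw [hkT.eq, mul_inv_cancel_right]
          _ = T * Y := hTY.eq.symm
      rw [this]
      simp

/-- The centralisers of the members of the class in the image. -/
theorem cent_T_le {v : G} (hv : v ∈ h.img) (hT : IsConj (Φ x1) v) :
    centralizer ({v} : Set G) ≤ h.img := by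
  obtain ⟨a, ha, rfl, ha2, ha1⟩ := h.lift_invol hv (h.order_of_isConj hT)
  rcases invol_alt ha ha2 ha1 with ⟨⟨p, hp, rfl⟩, -⟩ | ⟨-, h0⟩
  · rw [h.chart.map_conj hp x1_mem8]
    exact h.cent_conj h.cent_x1_le (h.chart.mem p hp)
  · have := (h.isConj_iff_fix ha ha2 ha1).1 hT
    omega

/-- The centraliser of `Φ w8`. -/
theorem cent_w8_le : centralizer ({Φ w8} : Set G) ≤ h.img := by
  haveI : Fact (Nat.Prime 2) := ⟨Nat.prime_two⟩
  intro g hg
  set W := Φ w8 with hW
  set S := Φ s8 with hS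
  set C := Φ x4 with hC
  have hgW : Commute g W := mem_centralizer_singleton_iff.1 hg
  obtain ⟨fs, fsw, fc, fcw, fs2, fsw2, fc2, fcw2, hsw, hcw⟩ : fixCount s8 = 4 ∧ fixCount (s8 * w8 : P8) = 4 ∧
      fixCount x4 = 4 ∧ fixCount (x4 * w8 : P8) = 0 ∧ s8 * s8 = 1 ∧ (s8 * w8) * (s8 * w8) = 1 ∧
      x4 * x4 = 1 ∧ (x4 * w8) * (x4 * w8) = 1 ∧ s8 * w8 = w8 * s8 ∧ x4 * w8 = w8 * x4 := by decide +kernel
  have hTS : IsConj (Φ x1) S :=
    (h.isConj_iff_fix s8_mem8 fs2 (ne_one_of_fix fs (by omega))).2 fs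
  have hTSW : IsConj (Φ x1) (S * W) := by
    rw [hS, hW, ← h.chart.mul _ s8_mem8 _ w8_mem8]
    exact (h.isConj_iff_fix (mul_mem s8_mem8 w8_mem8) fsw2 (ne_one_of_fix fsw (by omega))).2 fsw
  have hTC : IsConj (Φ x1) C := (h.isConj_iff_fix x4_mem8 fc2 (ne_one_of_fix fc (by omega))).2 fc
  have hTCW : ¬ IsConj (Φ x1) (C * W) := by
    rw [hC, hW, ← h.chart.mul _ x4_mem8 _ w8_mem8,
      h.isConj_iff_fix (mul_mem x4_mem8 w8_mem8) fcw2 (ne_one_of_fix fcw (by omega))]
    omega
  have hCW : Commute C W := h.chart.commute x4_mem8 w8_mem8 hcw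
  set v := g * S * g⁻¹ with hv
  have hTv : IsConj (Φ x1) v := hTS.trans (isConj_iff.2 ⟨g, rfl⟩)
  have hSW : Commute S W := h.chart.commute s8_mem8 w8_mem8 hsw
  have hvW : Commute v W := (hgW.mul_left hSW).mul_left hgW.inv_left
  have hgW' : g * W * g⁻¹ = W := by rw [hgW.eq, mul_inv_cancel_right]
  have hTvW : IsConj (Φ x1) (v * W) := hTSW.trans (isConj_iff.2 ⟨g, by
    calc g * (S * W) * g⁻¹ = v * (g * W * g⁻¹) := by rw [hv]; group
      _ = v * W := by rw [hgW']⟩)
  have hCo : orderOf C = 2 := h.order_of_isConj hTC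
  have hvo : orderOf v = 2 := h.order_of_isConj hTv
  suffices hvimg : v ∈ h.img by
    obtain ⟨a, ha, hae, ha2, ha1⟩ := h.lift_invol hvimg hvo
    have haw : Commute a w8 := (h.chart.commute_iff ha w8_mem8).1 (by rw [hae]; exact hvW.eq)
    have haw4 : fixCount (a * w8 : P8) = 4 := by
      refine (h.isConj_iff_fix (mul_mem ha w8_mem8) ?_ ?_).1 (by
        rw [h.chart.mul _ ha _ w8_mem8, hae]; exact hTvW)
      · rw [← pow_two, haw.mul_pow, pow_two, pow_two, ha2, show w8 * w8 = 1 by decide +kernel, one_mul]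
      · intro e
        have := h.order_of_isConj hTvW
        rw [← hae, hW, ← h.chart.mul _ ha _ w8_mem8, e, h.chart.map_one, orderOf_one] at this
        omega
    obtain ⟨p, hp, hpe⟩ := cent_w8_class haw ha2 ha1 ((h.isConj_iff_fix ha ha2 ha1).1 (hae.symm ▸ hTv)) haw4
    have hpm : p ∈ A8 := Equiv.Perm.mem_alternatingGroup.2 (pairMaps_facts p hp).1
    have hmem : (Φ p)⁻¹ * g ∈ centralizer ({S} : Set G) := by
      rw [mem_centralizer_singleton_iff]
      have e : Φ p * S * (Φ p)⁻¹ = g * S * g⁻¹ := by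
        rw [hS, ← h.chart.map_conj hpm s8_mem8, hpe, hae, hv]
      calc (Φ p)⁻¹ * g * S = (Φ p)⁻¹ * (g * S * g⁻¹) * g := by group
        _ = S * ((Φ p)⁻¹ * g) := by rw [← e]; group
    have := mul_mem (h.chart.mem p hpm) (h.cent_T_le (h.chart.mem _ s8_mem8) hTS hmem)
    simpa using this
  -- a common centralising involution
  set L := centralizer ({W} : Set G) with hL
  let cL : L := ⟨C, mem_centralizer_singleton_iff.2 hCW.eq⟩
  let vL : L := ⟨v, mem_centralizer_singleton_iff.2 hvW.eq⟩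
  have hne : ¬ IsConj cL vL := by
    rintro hc
    obtain ⟨c, hce⟩ := isConj_iff.1 hc
    have hce' : (c : G) * C * (c : G)⁻¹ = v := congrArg Subtype.val hce
    refine hTCW (hTvW.trans (isConj_iff.2 ⟨(c : G)⁻¹, ?_⟩))
    have hcW : Commute (c : G) W := mem_centralizer_singleton_iff.1 c.2
    calc (c : G)⁻¹ * (v * W) * (c : G)⁻¹⁻¹ = C * ((c : G)⁻¹ * (W * c)) := by rw [← hce']; group
      _ = C * W := by rw [← hcW.eq]; group
  obtain ⟨jL, hjo, hjc, hjv, hjz⟩ := exists_commuting_involution (x := cL) (v := vL)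
    (by rw [Subgroup.orderOf_mk, hCo]) (by rw [Subgroup.orderOf_mk, hvo]) hne
  set j : G := (jL : G) with hj
  have hjo' : orderOf j = 2 := by rw [hj, Subgroup.orderOf_coe, hjo]
  have hjC : Commute j C := congrArg Subtype.val hjc.eq
  have hjv' : Commute j v := congrArg Subtype.val hjv.eq
  have hjW : Commute j W := mem_centralizer_singleton_iff.1 jL.2
  have hjimg : j ∈ h.img :=
    h.cent_T_le (h.chart.mem _ x4_mem8) hTC (mem_centralizer_singleton_iff.2 hjC.eq)
  by_cases hTj : IsConj (Φ x1) j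
  · exact h.cent_T_le hjimg hTj (mem_centralizer_singleton_iff.2 hjv'.eq.symm)
  obtain ⟨k, hk⟩ : ∃ k : ℕ, (C * v) ^ k = j := by
    obtain ⟨k, hk⟩ := mem_powers_iff_mem_zpowers.2 hjz
    exact ⟨k, by simpa using congrArg Subtype.val hk⟩
  have hjj : j⁻¹ = j := inv_eq_of_mul_eq_one_right (by rw [← pow_two, ← hjo', pow_orderOf_eq_one])
  have hTjC : IsConj (Φ x1) (j * C) := by
    rw [← hk]
    rcases isConj_half_mul hCo hvo k with e | e
    · exact hTC.trans e
    · exact hTv.trans e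
  have hTjv : IsConj (Φ x1) (j * v) := by
    have e : (v * C) ^ k = j := by
      have hi : v * C = (C * v)⁻¹ := by
        rw [mul_inv_rev, inv_eq_of_mul_eq_one_right (by rw [← pow_two, ← hvo, pow_orderOf_eq_one]),
          inv_eq_of_mul_eq_one_right (by rw [← pow_two, ← hCo, pow_orderOf_eq_one])]
      rw [hi, inv_pow, hk, hjj]
    rw [← e]
    rcases isConj_half_mul hvo hCo k with e' | e'
    · exact hTv.trans e'
    · exact hTC.trans e'
  have hjneW : j ≠ W := fun e => hTCW (by rw [hCW.eq, ← e]; exact hTjC)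
  -- transport to the centraliser of `S`
  set j' := g⁻¹ * j * g with hj'
  have hj'S : Commute j' S := by
    have := hjv'.map (MulAut.conj g⁻¹).toMonoidHom
    simpa [MulAut.conj_apply, hv, hj', mul_assoc] using this
  have hWc : g⁻¹ * W * g = W := by rw [mul_assoc, ← hgW.eq, inv_mul_cancel_left]
  have hj'W : Commute j' W := by
    have := hjW.map (MulAut.conj g⁻¹).toMonoidHom
    rw [MulEquiv.coe_toMonoidHom, MulAut.conj_apply, MulAut.conj_apply, inv_inv, hWc] at this
    exact this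
  have hj'img : j' ∈ h.img :=
    h.cent_T_le (h.chart.mem _ s8_mem8) hTS (mem_centralizer_singleton_iff.2 hj'S.eq)
  have hj'o : orderOf j' = 2 := by
    rw [show j' = MulAut.conj g⁻¹ j by simp [hj'], MulEquiv.orderOf_eq, hjo']
  obtain ⟨a, ha, hae, ha2, ha1⟩ := h.lift_invol hj'img hj'o
  have has : Commute a s8 := (h.chart.commute_iff ha s8_mem8).1 (by rw [hae]; exact hj'S.eq)
  have haw : Commute a w8 := (h.chart.commute_iff ha w8_mem8).1 (by rw [hae]; exact hj'W.eq)
  have ha0 : fixCount a = 0 := by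
    rcases invol_alt ha ha2 ha1 with ⟨-, h4⟩ | ⟨-, h0⟩
    · refine absurd (((h.isConj_iff_fix ha ha2 ha1).2 h4).trans ?_) hTj
      exact isConj_iff.2 ⟨g, by rw [hae, hj']; group⟩
    · exact h0
  have has1 : a * s8 ≠ 1 := fun e => by
    have ea : a = s8 := by rw [eq_inv_of_mul_eq_one_left e]; decide +kernel
    rw [ea, fs] at ha0
    omega
  have has4 : fixCount (a * s8 : P8) = 4 := by
    refine (h.isConj_iff_fix (mul_mem ha s8_mem8) ?_ has1).1 (hTjv.trans (isConj_iff.2 ⟨g⁻¹, ?_⟩))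
    · rw [← pow_two, has.mul_pow, pow_two, pow_two, ha2, fs2, one_mul]
    · rw [h.chart.mul _ ha _ s8_mem8, hae, ← hS, hj', hv]
      group
  rcases cent_pair has haw ha2 ha1 ha0 has4 with e | e
  · exfalso
    refine hjneW ?_
    have : j' = W := by rw [← hae, e]
    calc j = g * j' * g⁻¹ := by rw [hj']; group
      _ = W := by rw [this, hgW']
  · have hTjW : IsConj (Φ x1) (j * W) := by
      refine ((h.isConj_iff_fix (mul_mem ha w8_mem8) ?_ (ne_one_of_fix e (by omega))).2 e).trans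
        (isConj_iff.2 ⟨g, ?_⟩)
      · rw [← pow_two, haw.mul_pow, pow_two, pow_two, ha2, show w8 * w8 = 1 by decide +kernel, one_mul]
      · rw [h.chart.mul _ ha _ w8_mem8, hae, ← hW]
        calc g * (j' * W) * g⁻¹ = j * (g * W * g⁻¹) := by rw [hj']; group
          _ = j * W := by rw [hgW']
    exact h.cent_T_le (mul_mem hjimg (h.chart.mem _ w8_mem8)) hTjW
      (mem_centralizer_singleton_iff.2 (hjv'.symm.mul_right hvW).eq)

/-- The image is the whole group. -/
theorem img_eq_top : h.img = ⊤ := by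
  have hcent : ∀ v ∈ h.img, orderOf v = 2 → centralizer ({v} : Set G) ≤ h.img := by
    intro v hv hvo
    obtain ⟨a, ha, rfl, ha2, ha1⟩ := h.lift_invol hv hvo
    rcases invol_alt ha ha2 ha1 with ⟨⟨p, hp, rfl⟩, -⟩ | ⟨⟨p, hp, rfl⟩, -⟩
    · rw [h.chart.map_conj hp x1_mem8]
      exact h.cent_conj h.cent_x1_le (h.chart.mem p hp)
    · rw [h.chart.map_conj hp w8_mem8]
      exact h.cent_conj h.cent_w8_le (h.chart.mem p hp)
  have hTW : ¬ IsConj (Φ x1) (Φ w8) := fun e => by
    have := (h.isConj_iff_fix w8_mem8 (by decide +kernel) (by decide +kernel)).1 e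
    rw [fix_w8] at this
    omega
  have hinv : ∀ v : G, orderOf v = 2 → v ∈ h.img := by
    intro v hvo
    obtain ⟨x, hx, hxo, hxv⟩ : ∃ x ∈ h.img, orderOf x = 2 ∧ ¬ IsConj x v := by
      by_cases hT : IsConj (Φ x1) v
      · exact ⟨_, h.chart.mem _ w8_mem8, h.orderOf_two w8_mem8 (by decide +kernel) (by decide +kernel),
          fun e => hTW (hT.trans e.symm)⟩
      · exact ⟨_, h.chart.mem _ x1_mem8, h.order_of_isConj (IsConj.refl _), hT⟩
    obtain ⟨j, hjo, hjx, hjv, -⟩ := exists_commuting_involution hxo hvo hxv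
    exact hcent j (hcent x hx hxo (mem_centralizer_singleton_iff.2 hjx.eq)) hjo
      (mem_centralizer_singleton_iff.2 hjv.eq.symm)
  rw [eq_top_iff]
  intro g _
  have hT : IsConj (Φ x1) (g * Φ x1 * g⁻¹) := isConj_iff.2 ⟨g, rfl⟩
  obtain ⟨a, ha, hae, ha2, ha1⟩ := h.lift_invol (hinv _ (h.order_of_isConj hT)) (h.order_of_isConj hT)
  rcases invol_alt ha ha2 ha1 with ⟨⟨p, hp, rfl⟩, -⟩ | ⟨-, h0⟩
  · rw [h.chart.map_conj hp x1_mem8] at hae
    have hmem : (Φ p)⁻¹ * g ∈ centralizer ({Φ x1} : Set G) := by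
      rw [mem_centralizer_singleton_iff]
      calc (Φ p)⁻¹ * g * Φ x1 = (Φ p)⁻¹ * (g * Φ x1 * g⁻¹) * g := by group
        _ = Φ x1 * ((Φ p)⁻¹ * g) := by rw [← hae]; group
    have := mul_mem (h.chart.mem p hp) (h.cent_x1_le hmem)
    simpa using this
  · have := (h.isConj_iff_fix ha ha2 ha1).1 (hae.symm ▸ hT)
    omega

theorem nonempty_mulEquiv : Nonempty (G ≃* A8) := by
  have hb : Function.Bijective h.hom := by
    refine ⟨fun a b e => Subtype.ext (h.inj a.1 a.2 b.1 b.2 e), fun g => ?_⟩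
    exact (h.img_eq_top.symm ▸ mem_top g : g ∈ h.img)
  exact ⟨(MulEquiv.ofBijective h.hom hb).symm⟩

end Glued

end CfsgLib.Recog.AltEight
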